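import Cfsg.Agent.ZD.Main
import Cfsg.Agent.SE.Fin
import Cfsg.Agent.S1790

/-! # Theorem ZD: the final rows -/

set_option autoImplicit false
set_option linter.unusedVariables false
set_option linter.unusedSectionVars false

namespace Cfsg.Agent.ZD
open Cfsg Cfsg.Agent.BG Cfsg.Agent.Inv Cfsg.Agent.SE MulAction Subgroup PHom

variable {G : Type*} [Group G] [Finite G] {Z : Set G} {M S T : Subgroup G} {z x : G}

theorem quot_eq (hx : ∀ g k : G, g⁻¹ * x * g ∈ M → k⁻¹ * x * k ∈ M → g⁻¹ * k ∈ M) {a b : G ⧸ M}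
    (h1 : x • a = a) (h2 : x • b = b) : a = b := by
  induction a using QuotientGroup.induction_on with | H g => ?_
  induction b using QuotientGroup.induction_on with | H k => ?_
  exact QuotientGroup.eq.2 (hx g k (smul_mk_eq_iff.1 h1) (smul_mk_eq_iff.1 h2))

theorem se_of_ZW [IsSimpleGroup G] (hM : M ≠ ⊤) (W : ZW (G ⧸ M) Z) (hz : z ∈ Z) (hzM : z ∈ M) :
    IsStronglyEmbedded M := by
  have := faithful_quot hM
  obtain ⟨g0, hg0⟩ : ∃ g, g ∉ M := by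
    by_contra! h; exact hM (eq_top_iff.2 fun g _ => h g)
  have : Nontrivial (G ⧸ M) := ⟨_, _, mk_ne.2 hg0⟩
  have z1 := W.ne_one hz
  obtain ⟨g, h1, h2⟩ := exists_conj_comm (not_cyclic_of_sub hM fun e => z1 (mem_bot.1 (e ▸ hzM))) (W.ord hz)
  have F := W.fix1 (fun a b => exists_smul_eq G a b)
    ((normal_iff.2 (W.XZ_norm' ⊤)).eq_bot_or_eq_top.resolve_left fun e =>
      z1 (mem_bot.1 (e ▸ mem_XZ (mem_top z) hz)))
    ⟨z, mem_top _, _, mem_top _, hz, W.conj hz g, h1.symm, h2⟩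
  refine se_iff.2 ⟨hM, even_card_of_mem (W.ord hz) hzM, fun t ht t2 g hg => ?_⟩
  have := F.uniq (a := ((g⁻¹ : G) : G ⧸ M)) (b := ((1 : G) : G ⧸ M)) t2 (smul_mk_eq_iff.2 (by simpa using hg))
    (smul_mk_eq_iff.2 (by simpa using ht))
  simpa using QuotientGroup.eq.1 this

theorem two_conj (hS : Syl 2 S M) (hx : x ∈ M) (h : x * x = 1) : ∃ m ∈ M, m * x * m⁻¹ ∈ S := by
  obtain ⟨m, hm, e⟩ := hS.cj_sub Nat.prime_two (zpowers_le.2 hx) (pig_zpowers.2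
    ((pin_single_self Nat.prime_two).of_dvd (orderOf_dvd_of_pow_eq_one (by rwa [pow_two]))))
  exact ⟨m, hm, e (mem_cj_conj.2 (mem_zpowers x))⟩

/-- Aschbacher's criterion -/
theorem s1175 [IsSimpleGroup G] (hM : M ≠ ⊤) (hz : orderOf z = 2) (hzM : z ∈ M) (hS : Syl 2 S ⊤) (h1 : S ≤ C1[z])
    (h2 : ∀ g : G, g * z * g⁻¹ ∈ M → g ∈ M)
    (h3 : ∀ g : G, z * (g * z * g⁻¹) = g * z * g⁻¹ * z → g * z * g⁻¹ ≠ z → C1[z * (g * z * g⁻¹)] ≤ M) :
    IsStronglyEmbedded M := by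
  have hC : C1[z] ≤ M := fun g hg => h2 g (by rwa [mem_C1.1 hg, mul_inv_cancel_right])
  refine se_of_ZW (Z := {s | ∃ g : G, g * z * g⁻¹ = s}) hM ⟨?_, ?_, ?_, ?_, ?_⟩ ⟨1, by simp⟩ hzM
  · rintro _ ⟨g, rfl⟩; exact ord_conj hz g
  · rintro _ ⟨g, rfl⟩ k; exact ⟨k * g, by group⟩
  · rintro _ ⟨g, rfl⟩; exact ⟨(g : G), smul_mk_eq_iff.2 (by simpa [mul_assoc] using hzM)⟩
  · rintro _ a b ⟨k, rfl⟩
    refine quot_eq fun g l a1 a2 => ?_
    simpa [mul_assoc] using mul_mem (h2 (g⁻¹ * k) (by simpa [mul_assoc] using a1))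
      (inv_mem (h2 (l⁻¹ * k) (by simpa [mul_assoc] using a2)))
  · rintro _ _ a b ⟨k, rfl⟩ ⟨l, rfl⟩ n c
    have c3 := h3 (k⁻¹ * l) (by
      calc _ = k⁻¹ * (k * z * k⁻¹ * (l * z * l⁻¹)) * k := by group
        _ = _ := by rw [c]; group) fun e => n (by nth_rewrite 1 [← e]; group)
    have sq : k * z * k⁻¹ * (l * z * l⁻¹) * (k * z * k⁻¹ * (l * z * l⁻¹)) = 1 := by
      nth_rewrite 1 [c]
      rw [mul_assoc, ← mul_assoc (k * z * k⁻¹), mul_self_of_ord (ord_conj hz k), one_mul,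
        mul_self_of_ord (ord_conj hz l)]
    have key : ∀ y : G, y⁻¹ * (k * z * k⁻¹ * (l * z * l⁻¹)) * y ∈ M → k⁻¹ * y ∈ M := fun y hy => by
      obtain ⟨m, hm, e⟩ := two_conj (hS.sub (h1.trans hC) le_top) hy (by
        calc _ = y⁻¹ * (k * z * k⁻¹ * (l * z * l⁻¹) * (k * z * k⁻¹ * (l * z * l⁻¹))) * y := by group
          _ = _ := by rw [sq]; group)
      have e' := mem_C1.1 (h1 e)
      have := h2 (k⁻¹ * y * m⁻¹) (c3 (mem_C1.2 (by
        calc _ = k⁻¹ * y * m⁻¹ * (z * (m * (y⁻¹ * (k * z * k⁻¹ * (l * z * l⁻¹)) * y) * m⁻¹)) * m * y⁻¹ * k := by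
              group
          _ = _ := by rw [← e']; group)))
      simpa using mul_mem this hm
    refine quot_eq fun g l a1 a2 => ?_
    simpa [mul_assoc] using mul_mem (inv_mem (key g a1)) (key l a2)

theorem s1174 [IsSimpleGroup G] (hS : Syl 2 S ⊤) (hT1 : T ≠ ⊥) (hT : IsStronglyClosed T S)
    (hP : (⨆ t : {t : G // t ∈ T ∧ orderOf t = 2}, C1[(t : G)]) ≠ ⊤) : ∃ H : Subgroup G, IsStronglyEmbedded H := by
  set P := ⨆ t : {t : G // t ∈ T ∧ orderOf t = 2}, C1[(t : G)] with hPd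
  have le : ∀ t ∈ T, orderOf t = 2 → C1[t] ≤ P := fun t a b =>
    le_iSup (fun t : {t : G // t ∈ T ∧ orderOf t = 2} => C1[(t : G)]) ⟨t, a, b⟩
  have nS : N[S] ≤ N[T] := le_N_iff.2 fun g hg t ht => hT.2 t ht g (conj_mem hg (hT.1 ht))
  have nP : N[T] ≤ N[P] := fun g hg => mem_N_of_cj_le (cj_le_iff.2 (iSup_le fun t => cj_le_iff.1 (by
    rw [cj_C1]; exact le _ (conj_mem hg t.2.1) (ord_conj t.2.2 g))))
  obtain ⟨z, ⟨z1, z2⟩, z3⟩ := exists_involution_of_isPGroup ((hS.pi.of_le (inf_le_left.trans hT.1)).pg Nat.prime_two)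
    (hS.pi.nil.meet_C hT.1 ((normG S).trans nS) hT1)
  have h1 : S ≤ C1[z] := fun s hs => mem_C1.2 (mem_C.1 z2 s hs)
  have PM : P ≤ N[P] := normG P
  have SP := h1.trans (le z z1 z3)
  have zP := SP (hT.1 z1)
  have hSM := hS.sub (SP.trans PM) le_top
  refine ⟨N[P], s1175 (fun e => (normal_iff.2 e.ge).eq_bot_or_eq_top.elim
    (fun e => ne_one_of_ord2 z3 (mem_bot.1 (e ▸ zP))) hP) z3 (PM zP) hS h1 (fun g hg => ?_) fun g c n => ?_⟩
  · obtain ⟨m, hm, e⟩ := two_conj hSM hg (mul_self_of_ord (ord_conj z3 g))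
    rw [show m * (g * z * g⁻¹) * m⁻¹ = m * g * z * (m * g)⁻¹ by group] at e
    have l : cj (m * g) S ≤ N[P] := ((cj_mono _ h1).trans (by
      rw [cj_C1]; exact le _ (hT.2 z z1 _ e) (ord_conj z3 _))).trans PM
    obtain ⟨y, hy, e2⟩ := Syl.conj ((hS.cj_top _).sub l le_top) Nat.prime_two hSM
    rw [← cj_mul, ← mem_N_iff_cj] at e2
    simpa using mul_mem (inv_mem hm) (mul_mem (inv_mem hy) (nP (nS e2)))
  · obtain ⟨m, hm, e⟩ := two_conj (hS.sub h1 le_top) (mem_C1.2 c.symm) (mul_self_of_ord (ord_conj z3 g))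
    have e1 : m * (g * z * g⁻¹) * m⁻¹ ∈ T := by
      have := hT.2 z z1 (m * g) (by rwa [show m * g * z * (m * g)⁻¹ = m * (g * z * g⁻¹) * m⁻¹ by group])
      rwa [show m * g * z * (m * g)⁻¹ = m * (g * z * g⁻¹) * m⁻¹ by group] at this
    have e2 : m * (z * (g * z * g⁻¹)) * m⁻¹ = z * (m * (g * z * g⁻¹) * m⁻¹) := by
      rw [← mul_assoc m, mem_C1.1 hm]; group
    have o : orderOf (z * (g * z * g⁻¹)) = 2 := ord2_iff.2 ⟨by
      nth_rewrite 1 [c]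
      rw [mul_assoc, ← mul_assoc z, mul_self_of_ord z3, one_mul, mul_self_of_ord (ord_conj z3 g)], fun e => n (by
        rw [← inv_of_ord z3]; nth_rewrite 1 [inv_of_ord z3]; exact (eq_inv_of_mul_eq_one_right e))⟩
    have := le _ (e2 ▸ mul_mem z1 e1) (ord_conj o m)
    rw [← cj_C1, cj_le_iff, cj_of_mem (inv_mem (le z z1 z3 hm))] at this
    exact this.trans PM

theorem se_of_sze [IsSimpleGroup G] (hG : ¬ IsMulCommutative G) (hz : IsTwoCentralInvolution z)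
    (hM : IsStronglyZEmbedded (conjugatesOf z) M) : IsStronglyEmbedded M := by
  obtain ⟨h0, ⟨w, hw, wM⟩, hC, ⟨T, hT⟩, h4⟩ := hM
  obtain ⟨z2, P, zP, hP⟩ := hz
  obtain ⟨k, rfl⟩ := isConj_iff.1 hw
  set w := k * z * k⁻¹ with wd
  have w2 : orderOf w = 2 := ord_conj z2 k
  have mZ : ∀ g : G, g * w * g⁻¹ ∈ conjugatesOf z := fun g => hw.trans (isConj_iff.2 ⟨g, rfl⟩)
  refine s1175 h0 w2 wM ((syl_top Nat.prime_two P).cj_top k) ?_ (fun g hg => ?_) fun g c n => ?_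
  · rw [wd, ← cj_C1]; exact cj_mono _ fun x hx => mem_C1.2 (hP x hx)
  · obtain ⟨m, hm, e⟩ := two_conj (syl_map Nat.prime_two T) wM (mul_self_of_ord w2)
    obtain ⟨m', hm', e'⟩ := two_conj (syl_map Nat.prime_two T) hg (mul_self_of_ord (ord_conj w2 g))
    obtain ⟨x, hx, e2⟩ := hT {m * w * m⁻¹} (m' * g * m⁻¹) (Set.singleton_subset_iff.2 e) (by
      rw [Set.image_singleton, Set.singleton_subset_iff,
        show m' * g * m⁻¹ * (m * w * m⁻¹) * (m' * g * m⁻¹)⁻¹ = m' * (g * w * g⁻¹) * m'⁻¹ by group]; exact e')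
    simp only [Set.image_singleton, Set.singleton_eq_singleton_iff] at e2
    have := hC _ (mZ m) (conj_mem (normG _ hm) wM) (mem_C1.2 (show x⁻¹ * (m' * g * m⁻¹) * _ = _ by
      calc _ = x⁻¹ * (m' * g * m⁻¹ * (m * w * m⁻¹) * (m' * g * m⁻¹)⁻¹) * (m' * g * m⁻¹) := by group
        _ = _ := by rw [e2]; group))
    simpa using mul_mem (inv_mem hm') (mul_mem (mul_mem hx this) hm)
  · have o : orderOf (w * (g * w * g⁻¹)) = 2 := ord2_iff.2 ⟨by
      nth_rewrite 1 [c]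
      rw [mul_assoc, ← mul_assoc w, mul_self_of_ord w2, one_mul, mul_self_of_ord (ord_conj w2 g)], fun e => n (by
        rw [← inv_of_ord w2]; nth_rewrite 1 [inv_of_ord w2]; exact (eq_inv_of_mul_eq_one_right e))⟩
    have a1 : w ∈ C1[w * (g * w * g⁻¹)] := mem_C1.2 (by rw [mul_assoc w, ← c])
    have a2 : g * w * g⁻¹ ∈ C1[w * (g * w * g⁻¹)] := mem_C1.2 (by rw [← mul_assoc _ w, ← c])
    have xM := mul_mem wM (hC w hw wM (mem_C1.2 c.symm))
    generalize hx : w * (g * w * g⁻¹) = x at *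
    by_contra nl
    have nt : C1[x] ≠ ⊤ := fun e => by
      have hc : x ∈ center G := mem_center_iff.2 fun y => mem_C1.1 (e.ge (mem_top y))
      rcases (inferInstance : (center G).Normal).eq_bot_or_eq_top with e | e
      · exact absurd (mem_bot.1 (e ▸ hc)) (ne_one_of_ord2 o)
      · exact hG ⟨⟨fun a b => mem_center_iff.1 (e.ge (mem_top b)) a⟩⟩
    obtain ⟨b1, b2⟩ := h4 C1[x] nt ⟨w, hw, a1, wM⟩ nl
    have x1 : x ∈ closure (conjugatesOf z ∩ (C1[x] : Set G)) :=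
      hx ▸ mul_mem (subset_closure ⟨hw, hx ▸ a1⟩) (subset_closure ⟨mZ g, hx ▸ a2⟩)
    exact b1 fun y hy => (se_mem_of_commute (S1790.se_of_spe b2) (t := ⟨x, x1⟩) (g := ⟨y, hy⟩) ⟨x1, xM⟩
      (by rw [← orderOf_coe, o]) (Subtype.ext (mem_C1.1 ((closure_le _).2 Set.inter_subset_right hy)))).2

theorem tr2_cj [IsSimpleGroup G] (hM : IsStronglyEmbedded M) (a b c d : G) (h1 : cj a M ≠ cj b M)
    (h2 : cj c M ≠ cj d M) : ∃ g : G, cj g (cj a M) = cj c M ∧ cj g (cj b M) = cj d M := by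
  obtain ⟨-, t, Q, R⟩ := r1_se hM
  have e : ∀ x : G, cj x M = St G (x : G ⧸ M) := fun x => by
    nth_rewrite 1 [← st_one M]; rw [cj_St]; simp
  obtain ⟨g, g1, g2⟩ := tr2_of_trans (G := G) (a := ((1 : G) : G ⧸ M)) (fun c => exists_smul_eq G _ c)
    (fun c d hc hd => (R.trans hc hd).imp fun q hq => ⟨R.le hq.1, hq.2⟩)
    (b := (a : G ⧸ M)) (c := (b : G ⧸ M)) (d := (c : G ⧸ M)) (e := (d : G ⧸ M))
    (fun h => h1 (by rw [e, e, h])) fun h => h2 (by rw [e, e, h])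
  exact ⟨g, by rw [e, e, cj_St, g1], by rw [e, e, cj_St, g2]⟩

end Cfsg.Agent.ZD
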