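import Cfsg.Agent.SE.Main

/-!
# A class `Z` of involutions each fixing exactly one point: definitions and basic facts

`ZW Ω Z`: products of two distinct commuting members of `Z` fix at most one point;
`ZF Ω Z`: these products lie in `Z`.  Goal (`ZD.Main`): a faithful transitive group generated by `Z`
with a four-group in `Z ∪ 1` has `Fix1`, that is, the point stabilizer is strongly embedded.
-/

set_option autoImplicit false
set_option linter.unusedVariables false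
set_option linter.unusedSectionVars false

namespace Cfsg.Agent.ZD
open Cfsg Cfsg.Agent.BG Cfsg.Agent.Inv Cfsg.Agent.SE MulAction Subgroup PHom

section Defs
variable {G : Type*} [Group G]

structure ZW (Ω : Type*) [MulAction G Ω] (Z : Set G) : Prop where
  ord : ∀ {s : G}, s ∈ Z → orderOf s = 2
  conj : ∀ {s : G}, s ∈ Z → ∀ g : G, g * s * g⁻¹ ∈ Z
  ex : ∀ {s : G}, s ∈ Z → ∃ a : Ω, s • a = a
  uniq : ∀ {s : G} {a b : Ω}, s ∈ Z → s • a = a → s • b = b → a = b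
  one : ∀ {s u : G} {a b : Ω}, s ∈ Z → u ∈ Z → s ≠ u → s * u = u * s → (s * u) • a = a → (s * u) • b = b → a = b

structure ZF (Ω : Type*) [MulAction G Ω] (Z : Set G) : Prop extends ZW Ω Z where
  mul : ∀ {s u : G}, s ∈ Z → u ∈ Z → s ≠ u → s * u = u * s → s * u ∈ Z

variable {Ω : Type*} [MulAction G Ω]

/-- `M` contains two distinct commuting members of `Z` -/
def FourZ (Z : Set G) (M : Subgroup G) : Prop := ∃ x ∈ M, ∃ y ∈ M, x ∈ Z ∧ y ∈ Z ∧ x ≠ y ∧ x * y = y * x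

/-- members of `Z` in `M` fixing `a` -/
def Iv (Z : Set G) (M : Subgroup G) (a : Ω) : Set G := {s | s ∈ M ∧ s ∈ Z ∧ s • a = a}

noncomputable def nI (Z : Set G) (M : Subgroup G) (a : Ω) : ℕ := (Iv Z M a).ncard

/-- members of `Z` in `M` moving `a` to `b` -/
def Sw (Z : Set G) (M : Subgroup G) (a b : Ω) : Set G := {s | s ∈ M ∧ s ∈ Z ∧ s • a = b}

/-- the subgroup generated by `Z ∩ M` -/
def XZ (Z : Set G) (M : Subgroup G) : Subgroup G := closure {s | s ∈ M ∧ s ∈ Z}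

/-- (G1): an element of odd order inverted by `t` that fixes the fixed point of `t` and a second point is `1` -/
def G1 (Ω : Type*) [MulAction G Ω] (Z : Set G) : Prop :=
  ∀ (t k : G) (a c : Ω), t ∈ Z → t • c = c → Odd (orderOf k) → t * k * t⁻¹ = k⁻¹ → k • c = c → k • a = a →
    a ≠ c → k = 1

/-- minimal counterexample -/
structure MC (Ω : Type*) [MulAction G Ω] (Z : Set G) : Prop extends ZF Ω Z where
  simple : IsSimpleGroup G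
  tr : ∀ a b : Ω, ∃ g : G, g • a = b
  nt : Nontrivial Ω
  four : FourZ Z (⊤ : Subgroup G)
  ih : ∀ M : Subgroup G, M ≠ ⊤ → ∀ a : Ω, FourZ Z (M ⊓ St G a) → ¬ M ≤ St G a →
    Fix1 (Pm (XZ Z M) a) (orbit (XZ Z M) a)

/-- `t` centralizes `X / O(X)` -/
structure Isn (X : Subgroup G) (t : G) : Prop where
  ord : orderOf t = 2
  norm : t ∈ N[X]
  comm : ∀ g ∈ X, t * g * t⁻¹ * g⁻¹ ∈ O[{2}ᶜ](X)

variable {Z : Set G} {M X : Subgroup G} {s g : G}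

theorem FourZ.mono (h : FourZ Z X) (hX : X ≤ M) : FourZ Z M := by
  obtain ⟨x, hx, y, hy, h⟩ := h; exact ⟨x, hX hx, y, hX hy, h⟩

theorem XZ_le (Z : Set G) (M : Subgroup G) : XZ Z M ≤ M := (closure_le _).2 fun _ h => h.1
theorem mem_XZ (h1 : s ∈ M) (h2 : s ∈ Z) : s ∈ XZ Z M := subset_closure ⟨h1, h2⟩
theorem XZ_le_of (h : ∀ s ∈ M, s ∈ Z → s ∈ X) : XZ Z M ≤ X := (closure_le _).2 fun s hs => h s hs.1 hs.2
theorem XZ_mono (h : X ≤ M) : XZ Z X ≤ XZ Z M := XZ_le_of fun _ a b => mem_XZ (h a) b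
theorem XZ_XZ (Z : Set G) (M : Subgroup G) : XZ Z (XZ Z M) = XZ Z M :=
  le_antisymm (XZ_le _ _) (XZ_le_of fun _ a b => mem_XZ (mem_XZ a b) b)
theorem FourZ.xz {Y : Subgroup G} (h : FourZ Z (M ⊓ Y)) : FourZ Z (XZ Z M ⊓ Y) := by
  obtain ⟨x, hx, y, hy, a, b, h⟩ := h
  exact ⟨x, ⟨mem_XZ hx.1 a, hx.2⟩, y, ⟨mem_XZ hy.1 b, hy.2⟩, a, b, h⟩

end Defs

variable {G Ω : Type*} [Group G] [Finite G] [MulAction G Ω] {Z : Set G}
variable {L M N X Y P : Subgroup G} {a b c d : Ω} {t s s' u k g w f : G} {p : ℕ}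

theorem odd_of_le (h : Odd #X) (hY : Y ≤ X) : Odd #Y := SE.odd_of_le h hY

theorem odd_of_p (hP : PiG {p} P) (p2 : p ≠ 2) : Odd #P := odd_of_pig2 (hP.ne_compl p2)

theorem fix_of_odd_swap (hg : Odd (orderOf g)) (h1 : g • a = b) (h2 : g • b = a) : a = b := by
  have : g ∈ St G a := mem_of_sq_mem hg (by rw [mem_St, mul_smul, h1, h2])
  exact this.symm.trans h1

theorem le_St2_of_odd (ab : a ≠ b) (hX : Odd #X)
    (h : ∀ g ∈ X, (g • a = a ∨ g • a = b) ∧ (g • b = a ∨ g • b = b)) : X ≤ St2 G a b := fun g hg => by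
  obtain ⟨h1 | h1, h2 | h2⟩ := h g hg
  · exact absurd (smul_left_cancel g (h1.trans h2.symm)) ab
  · exact ⟨h1, h2⟩
  · exact absurd (fix_of_odd_swap (odd_ord_of_mem hX hg) h1 h2) ab
  · exact absurd (smul_left_cancel g (h1.trans h2.symm)) ab

theorem mul_eq_conj (hk : Odd (orderOf k)) (h : t * k * t⁻¹ = k⁻¹) :
    ∃ y ∈ zpowers k, t * k = y⁻¹ * t * y⁻¹⁻¹ ∧ k * t = y * t * y⁻¹ := by
  obtain ⟨y, hy, rfl, e⟩ := exists_sqrt hk h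
  refine ⟨y, hy, ?_, ?_⟩
  · calc _ = t * y * t⁻¹ * t * y := by group
      _ = _ := by rw [e, inv_inv]
  · calc _ = y * (t * y * t⁻¹)⁻¹ * t := by rw [e, inv_inv]
      _ = _ := by group

/-! ### `t` central modulo the core -/

theorem isn_of_iso (ht : orderOf t = 2) (htM : t ∈ M)
    (h : ∀ g ∈ M, t * (g * t * g⁻¹) = g * t * g⁻¹ * t → g * t * g⁻¹ = t) : Isn M t := by
  refine ⟨ht, normG _ htM, fun g hg => ?_⟩
  rw [← pPrimeCore_map Nat.prime_two]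
  exact mem_map_of_mem M.subtype (Blk.zstar (G := M) (t := ⟨t, htM⟩) ⟨by rw [← orderOf_coe, ht], fun x c =>
    Subtype.ext (h x x.2 (congrArg Subtype.val c.eq))⟩ ⟨g, hg⟩)

theorem Isn.of_sup (hn : t ∈ N[X]) (h : Isn (X ⊔ zpowers t) t) : Isn X t := by
  refine ⟨h.ord, hn, fun g hg => O_le_O _ le_sup_left ?_ (h.comm g (mem_sup_left hg))⟩
  refine (O_pig _ _).le_of_idx (sup_le (normG _) (zp_le hn)) (O_le _ _) ?_
  rw [relIndex_sup_l (zp_le hn), compl_compl]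
  exact (pig_zpowers.2 (by rw [PiE, h.ord]; exact pin_single_self Nat.prime_two)).relIndex _

namespace Isn
variable (h : Isn X t)
include h

theorem normO : t ∈ N[O[{2}ᶜ](X)] := BG.normO _ (zp_le h.norm) (mem_zpowers t)

theorem prod (hg : g ∈ X) : ∃ o ∈ O[{2}ᶜ](X), ∃ v ∈ X ⊓ C1[t], g = o * v := by
  have c := h.comm g hg
  rw [inv_of_ord h.ord, mul_assoc t, mul_assoc t] at c
  obtain ⟨k, e⟩ := exists_zpow_conj_of_odd (mul_self_of_ord h.ord) (mul_self_of_ord (ord_conj h.ord g))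
    (odd_ord_of_mem (odd_O X) c)
  have ho := zpow_mem c k
  refine ⟨_, ho, _⁻¹ * g, ⟨X.mul_mem (X.inv_mem (O_le _ _ ho)) hg, mem_C1.2 ?_⟩, by group⟩
  generalize (t * (g * t * g⁻¹)) ^ k = o at e
  calc _ = o⁻¹ * (g * t * g⁻¹) * g := by group
    _ = _ := by rw [← e]; group

theorem le_of (h1 : O[{2}ᶜ](X) ≤ L) (h2 : X ⊓ C1[t] ≤ L) : X ≤ L := fun g hg => by
  obtain ⟨o, ho, v, hv, rfl⟩ := h.prod hg
  exact mul_mem (h1 ho) (h2 hv)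

theorem sup (h1 : Y ≤ X) (h2 : Odd #Y) : Odd #(O[{2}ᶜ](X) ⊔ Y) ∧ t ∈ N[O[{2}ᶜ](X) ⊔ Y] := by
  refine ⟨odd_iff0.2 ((O_pig _ X).sup_l (odd_iff0.1 h2) (h1.trans (O_norm _ X))), mem_N_of fun x hx => ?_⟩
  simpa using mul_mem (mem_sup_left (h.comm x (sup_le (O_le _ _) h1 hx))) hx

theorem syl (hp : p.Prime) (p2 : p ≠ 2) (h1 : Y ≤ X) (h2 : PiG {p} Y) (h3 : t ∈ N[Y]) :
    ∃ P, Syl p P X ∧ t ∈ N[P] ∧ Y ≤ P := by
  obtain ⟨R, r1, r2⟩ := syl_superset hp h1 h2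
  obtain ⟨a, b⟩ := h.sup r1.le (odd_of_p r1.pi p2)
  obtain ⟨P, p1, p2, p3⟩ := exists_syl_inv h.ord a b hp (r2.trans le_sup_right) h2 h3
  have l := sup_le (O_le {2}ᶜ X) r1.le
  exact ⟨P, r1.of_card (p1.le.trans l) (p1.card_eq (r1.sub le_sup_right l)), p2, p3⟩

theorem mem_O (hk : k ∈ X) (ok : Odd (orderOf k)) (hi : t * k * t⁻¹ = k⁻¹) : k ∈ O[{2}ᶜ](X) := by
  obtain ⟨y, hy, rfl, iy⟩ := exists_sqrt ok hi
  have := inv_mem (h.comm y (zp_le hk hy))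
  rw [iy] at this; simpa using this

theorem tc_le (h1 : Y ≤ X) (hY : Odd #Y) : tc t Y ≤ O[{2}ᶜ](X) :=
  tc_le_of fun k hk => h.mem_O (h1 hk.1) (odd_ord_of_mem hY hk.1) hk.2

theorem tc_le' (h1 : Y ≤ X) (hY : Odd #Y) : tc t Y ≤ tc t O[{2}ᶜ](X) :=
  (tc_tc t Y).ge.trans (tc_mono t (h.tc_le h1 hY))

theorem kc_le (h1 : Y ≤ X) (hY : Odd #Y) : kc t Y ≤ kc t O[{2}ᶜ](X) :=
  (kc_tc t Y).ge.trans (kc_mono t (h.tc_le h1 hY))

theorem kc_eq (h0 : O[{2}ᶜ](X) ≤ Y) (h1 : Y ≤ X) (hY : Odd #Y) : kc t Y = kc t O[{2}ᶜ](X) :=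
  le_antisymm (h.kc_le h1 hY) (kc_mono t h0)

theorem kc_syl (hp : p.Prime) (p2 : p ≠ 2) (hP : Syl p P X) (tP : t ∈ N[P]) :
    kc t P = pp p (kc t O[{2}ᶜ](X)) := by
  obtain ⟨a, b⟩ := h.sup hP.le (odd_of_p hP.pi p2)
  have l := sup_le (O_le {2}ᶜ X) hP.le
  rw [SE.kc_syl h.ord a b hp (hP.sub le_sup_right l) tP, h.kc_eq le_sup_left l a]

theorem norm_tc : X ≤ N[tc t O[{2}ᶜ](X)] :=
  h.le_of (tc_norm h.ord (odd_O X) h.normO) fun g hg => cent_norm_tc (O_norm _ _ hg.1) hg.2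

theorem zj_step (hp : p.Prime) (p2 : p ≠ 2) (hP : Syl p P X) (tP : t ∈ N[P])
    (h1 : O[{p}ᶜ](O[{2}ᶜ](X)) ≤ C1[t]) : tc t O[{2}ᶜ](X) ≤ N[ZJ P] := by
  obtain ⟨oL, -⟩ := h.sup hP.le (odd_of_p hP.pi p2)
  have nO : P ≤ N[O[{2}ᶜ](X)] := hP.le.trans (O_norm _ _)
  have f := ZJ_factor_odd hp p2 oL (hP.sub le_sup_right (sup_le (O_le _ _) hP.le))
  have BO : O[{p}ᶜ](O[{2}ᶜ](X) ⊔ P) ≤ C1[t] := (O_le_O _ le_sup_left (O_pig _ _ |>.le_of_idx (sup_le (normG _) nO)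
    (O_le _ _) (by rw [relIndex_sup_l nO]; exact (hP.pi.relIndex _).compl_compl))).trans h1
  have tZ : t ∈ N[ZJ P] := normZJ (zp_le tP) (mem_zpowers t)
  refine tc_le_of fun k hk => ?_
  obtain ⟨y, hy, rfl, iy⟩ := exists_sqrt (odd_ord_of_mem (odd_O X) hk.1) hk.2
  obtain ⟨b, hb, n, hn, e⟩ := f.ex y (mem_sup_left (zp_le hk.1 hy))
  have hn2 := (mem_inf.1 hn).2
  have := inv_mem (mul_mem (inv_mem hn2) (mul_mem (mul_mem tZ hn2) (inv_mem tZ)))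
  convert this using 1
  have e2 : y⁻¹ * (t * y * t⁻¹) = n⁻¹ * (t * n * t⁻¹) := by
    rw [e, ← mul_assoc t b, ← mem_C1.1 (BO hb)]; group
  rw [← e2, iy]; simp

end Isn

namespace ZW
variable (S : ZW Ω Z)
include S

theorem sq (hs : s ∈ Z) : s * s = 1 := mul_self_of_ord (S.ord hs)
theorem inv (hs : s ∈ Z) : s⁻¹ = s := inv_of_ord (S.ord hs)
theorem ne_one (hs : s ∈ Z) : s ≠ 1 := ne_one_of_ord2 (S.ord hs)
theorem ss (hs : s ∈ Z) (a : Ω) : s • s • a = a := smul_smul_of_ord (S.ord hs) a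
theorem conj' (hs : s ∈ Z) (g : G) : g⁻¹ * s * g ∈ Z := by simpa using S.conj hs g⁻¹

theorem XZ_norm (hg : g ∈ N[M]) : g ∈ N[XZ Z M] := mem_N_of_cj_le (by
  rw [XZ, cj, MonoidHom.map_closure, closure_le]
  rintro _ ⟨s, hs, rfl⟩
  exact subset_closure ⟨conj_mem hg hs.1, S.conj hs.2 g⟩)

theorem XZ_norm' (M : Subgroup G) : M ≤ N[XZ Z M] := fun _ hg => S.XZ_norm (normG _ hg)

theorem cj_XZ (g : G) (M : Subgroup G) : cj g (XZ Z M) = XZ Z (cj g M) := by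
  have key : ∀ (g : G) (M : Subgroup G), cj g (XZ Z M) ≤ XZ Z (cj g M) := fun g M => by
    rw [XZ, cj, MonoidHom.map_closure, closure_le]
    rintro _ ⟨s, hs, rfl⟩
    exact mem_XZ (mem_cj_conj.2 hs.1) (S.conj hs.2 g)
  refine le_antisymm (key g M) (cj_le_iff.1 ?_ |>.trans (by rw [inv_inv]))
  simpa using key g⁻¹ (cj g M)

theorem mul_inv (ht : t ∈ Z) (hk : Odd (orderOf k)) (h : t * k * t⁻¹ = k⁻¹) : t * k ∈ Z ∧ k * t ∈ Z := by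
  obtain ⟨y, -, e1, e2⟩ := mul_eq_conj hk h
  exact ⟨e1 ▸ S.conj ht _, e2 ▸ S.conj ht _⟩

theorem iv_conj (hs : s ∈ Iv Z M a) (hg : g ∈ M) : g * s * g⁻¹ ∈ Iv Z M (g • a) :=
  ⟨conj_mem (normG M hg) hs.1, S.conj hs.2.1 g, by rw [mul_smul, mul_smul, inv_smul_smul, hs.2.2]⟩

theorem fix_of_comm (hs : s ∈ Z) (h1 : s • a = a) (h : g * s = s * g) : g • a = a :=
  S.uniq hs (by rw [← mul_smul, ← h, mul_smul, h1]) h1

theorem C1_le (hs : s ∈ Z) (h1 : s • a = a) : C1[s] ≤ St G a :=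
  fun _ hg => S.fix_of_comm hs h1 (mem_C1.1 hg)

theorem ne_smul (ht : t ∈ Z) (h1 : t • c = c) (h : a ≠ c) : t • a ≠ a :=
  fun e => h (S.uniq ht e h1)

theorem smul_ne (ht : t ∈ Z) (h1 : t • c = c) (h : a ≠ c) : t • a ≠ c :=
  fun e => h (by rw [← S.ss ht a, e, h1])

theorem not_mem (hs : s ∈ Z) (ab : a ≠ b) (h : X ≤ St2 G a b) : s ∉ X :=
  fun e => ab (S.uniq hs (h e).1 (h e).2)

theorem mul_pow (hs : s ∈ Z) (hu : u ∈ Z) (n : ℕ) : s * (s * u) ^ n ∈ Z := by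
  have i := inverts_left (S.sq hs) (S.sq hu)
  rcases Nat.even_or_odd' n with ⟨m, rfl | rfl⟩
  · have := S.conj' hs ((s * u) ^ m)
    rwa [← conj_pow_inv i m, inv_mul_cancel_right, mul_assoc, ← pow_add, ← two_mul] at this
  · have := S.conj' hu ((s * u) ^ m)
    rw [← conj_pow_inv (inverts_right (S.sq hs) (S.sq hu)) m, inv_mul_cancel_right, mul_assoc, ← pow_add,
      ← two_mul] at this
    rwa [pow_succ', ← mul_assoc, ← mul_assoc, S.sq hs, one_mul]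

theorem even_mul (hs : s ∈ Z) (hu : u ∈ Z) (h : Even (orderOf (s * u))) :
    ∃ v ∈ zpowers (s * u), orderOf v = 2 ∧ v * s = s * v ∧ v * u = u * v ∧ s * v ∈ Z := by
  obtain ⟨a1, a2, a3⟩ := s0209 s u (S.ord hs) (S.ord hu) h
  exact ⟨_, pow_mem (mem_zpowers _) _, a1, a2.eq, a3.eq, S.mul_pow hs hu _⟩

theorem odd_aux (hs : s ∈ Z) (hu : u ∈ Z) (ab : a ≠ b)
    (h : ∀ v ∈ zpowers (s * u), v * s = s * v → v * u = u * v → v • a = a ∧ v • b = b) :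
    Odd (orderOf (s * u)) := by
  rw [← Nat.not_even_iff_odd]
  intro he
  obtain ⟨v, h1, h2, h3, h4, h5⟩ := S.even_mul hs hu he
  have e : s * (s * v) = v := by rw [← mul_assoc, S.sq hs, one_mul]
  obtain ⟨f1, f2⟩ := h v h1 h3 h4
  exact ab (S.one hs h5 (fun e => ne_one_of_ord2 h2 (by simpa using e)) (by rw [e, mul_assoc, h3, e])
    (e.symm ▸ f1) (e.symm ▸ f2))

theorem odd_mul (hs : s ∈ Z) (h1 : s • a = a) (hu : u ∈ Z) (h2 : u • b = b) (h : a ≠ b) :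
    Odd (orderOf (s * u)) :=
  S.odd_aux hs hu h fun v _ c1 c2 => ⟨S.fix_of_comm hs h1 c1, S.fix_of_comm hu h2 c2⟩

theorem sw_mul (hw : w ∈ Sw Z M a b) (ht : t ∈ Sw Z M a b) : w * t ∈ M ⊓ St2 G a b :=
  ⟨mul_mem hw.1 ht.1, by change _ • _ = _; rw [mul_smul, ht.2.2, ← hw.2.2, S.ss hw.2.1], by
    change _ • _ = _; rw [mul_smul, ← ht.2.2, S.ss ht.2.1, hw.2.2, ht.2.2]⟩

theorem odd_sw (ab : a ≠ b) (hw : w ∈ Sw Z M a b) (ht : t ∈ Sw Z M a b) : Odd (orderOf (w * t)) :=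
  S.odd_aux hw.2.1 ht.2.1 ab fun v hv _ _ => (zp_le (S.sw_mul hw ht) hv).2

theorem exists_swap (hs : s ∈ Z) (h1 : s • a = a) (hu : u ∈ Z) (h2 : u • b = b)
    (h : a ≠ b) : ∃ w ∈ closure ({s, u} : Set G), w ∈ Z ∧ w * s * w⁻¹ = u ∧ w • a = b := by
  have o := S.odd_mul hs h1 hu h2 h
  obtain ⟨k, hk⟩ := exists_zpow_conj_of_odd (S.sq hs) (S.sq hu) o
  have e : (s * u) ^ k * s * s * ((s * u) ^ k * s)⁻¹ = u := by refine Eq.trans ?_ hk; group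
  refine ⟨_, mul_mem (zpow_mem (mul_mem (subset_closure (by simp)) (subset_closure (by simp))) k)
    (subset_closure (by simp)), (S.mul_inv hs (o.of_dvd_nat (orderOf_dvd_of_mem_zpowers (zpow_mem_zpowers _ k)))
      (by rw [← conj_zpow, inverts_left (S.sq hs) (S.sq hu), inv_zpow])).2, e,
    S.uniq hu (by have := conj_smul_fix h1 ((s * u) ^ k * s); rwa [e] at this) h2⟩

theorem isn (ht : t ∈ Z) (ab : a ≠ b) (h : X ≤ St2 G a b) (hn : t ∈ N[X]) : Isn X t := by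
  refine Isn.of_sup hn (isn_of_iso (S.ord ht) (mem_sup_right (mem_zpowers t)) fun g hg c => by_contra fun n => ?_)
  have m : t * (g * t * g⁻¹) ∈ X := by
    obtain ⟨x, hx, y, hy, rfl⟩ := (mem_sup_l (zp_le hn)).1 hg
    have : y * t * y⁻¹ = t := by rcases mem_zp0 (S.ord ht) hy with rfl | rfl <;> simp
    rw [show t * (x * y * t * (x * y)⁻¹) = t * x * (y * t * y⁻¹) * x⁻¹ by group, this]
    nth_rewrite 2 [← S.inv ht]
    exact mul_mem (conj_mem hn hx) (inv_mem hx)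
  exact ab (S.one ht (S.conj ht g) (Ne.symm n) c (h m).1 (h m).2)

theorem norm_D (ht : t ∈ Z) (htM : t ∈ M) (a : Ω) : t ∈ N[M ⊓ St2 G a (t • a)] :=
  normI (normsG (zp_le htM)) (zp_le (norm_St2 (S.ord ht) a)) (mem_zpowers t)

theorem isnM (ht : t ∈ Z) (htM : t ∈ M) (ha : t • a ≠ a) : Isn (M ⊓ St2 G a (t • a)) t :=
  S.isn ht ha.symm inf_le_right (S.norm_D ht htM a)

theorem isnD (ht : t ∈ Z) (ha : t • a ≠ a) : Isn (St2 G a (t • a)) t :=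
  S.isn ht ha.symm le_rfl (norm_St2 (S.ord ht) a)

theorem isnE (ht : t ∈ Z) (hc : t • c = c) (h : a ≠ c) : Isn (St2 G a (t • a) ⊓ St G c) t :=
  S.isn ht (S.ne_smul ht hc h).symm inf_le_left (t_norm_E (S.ord ht) hc a)

theorem isn4 (h : ¬ FourZ Z M) (ht : t ∈ Z) (htM : t ∈ M) : Isn M t :=
  isn_of_iso (S.ord ht) htM fun g hg c => by_contra fun n =>
    h ⟨t, htM, _, conj_mem (normG _ hg) htM, ht, S.conj ht g, Ne.symm n, c⟩

theorem rk1_odd (h : ¬ FourZ Z M) (ht : t ∈ Z) (htM : t ∈ M) (hu : u ∈ Z) (huM : u ∈ M) :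
    Odd (orderOf (t * u)) := by
  rw [← Nat.not_even_iff_odd]
  intro he
  obtain ⟨v, h1, h2, h3, -, h5⟩ := S.even_mul ht hu he
  exact h ⟨t, htM, _, mul_mem htM (zp_le (mul_mem htM huM) h1), ht, h5,
    fun e => ne_one_of_ord2 h2 (by simpa using e), by rw [mul_assoc, h3]⟩

theorem rk1_mul (h : ¬ FourZ Z M) (ht : t ∈ Z) (htM : t ∈ M) (hu : u ∈ Z) (huM : u ∈ M) :
    t * u ∈ O[{2}ᶜ](M) :=
  (S.isn4 h ht htM).mem_O (mul_mem htM huM) (S.rk1_odd h ht htM hu huM) (inverts_left (S.sq ht) (S.sq hu))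

/-- two members of `Z ∩ M` swapping `a` and `b` are conjugate under `O(M_ab)` -/
theorem swap_conj (ht : t ∈ Z) (htM : t ∈ M) (ha : t • a ≠ a) (hw : w ∈ Sw Z M a (t • a)) :
    ∃ k ∈ invertedBy O[{2}ᶜ](M ⊓ St2 G a (t • a)) t, k * k = w * t ∧ k * t * k⁻¹ = w := by
  have i := inverts_right (S.sq hw.2.1) (S.sq ht)
  have o := S.odd_sw ha.symm hw ⟨htM, ht, rfl⟩
  obtain ⟨y, b1, b2, b3⟩ := exists_sqrt o i
  refine ⟨y, ⟨zp_le ((S.isnM ht htM ha).mem_O (S.sw_mul hw ⟨htM, ht, rfl⟩) o i) b1, b3⟩, b2, ?_⟩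
  calc _ = y * (t * y * t⁻¹)⁻¹ * t := by group
    _ = _ := by rw [b3, inv_inv, b2, mul_assoc, S.sq ht, mul_one]

theorem sw_conj (hw : w ∈ Sw Z M a b) (hg : g ∈ M ⊓ St2 G a b) : g * w * g⁻¹ ∈ Sw Z M a b :=
  ⟨conj_mem (normG M hg.1) hw.1, S.conj hw.2.1 g, by
    rw [mul_smul, mul_smul, inv_smul_eq_iff.2 (show g • a = a from hg.2.1).symm, hw.2.2, show g • b = b from hg.2.2]⟩

theorem ncard_Sw (ht : t ∈ Z) (htM : t ∈ M) (ha : t • a ≠ a) :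
    (Sw Z M a (t • a)).ncard = kc t O[{2}ᶜ](M ⊓ St2 G a (t • a)) := by
  refine (Set.ncard_congr (fun k _ => k * t) (fun k hk => ?_) (fun k k' _ _ e => mul_right_cancel e)
    fun w hw => ?_).symm
  · have m := O_le _ _ hk.1
    exact ⟨mul_mem m.1 htM, (S.mul_inv ht (odd_ord_of_mem (odd_O _) hk.1) hk.2).2, by rw [mul_smul, m.2.2]⟩
  · obtain ⟨k, hk, e, -⟩ := S.swap_conj ht htM ha hw
    exact ⟨w * t, ⟨e ▸ mul_mem hk.1 hk.1, inverts_right (S.sq hw.2.1) (S.sq ht)⟩, by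
      rw [mul_assoc, S.sq ht, mul_one]⟩

theorem K_trans (ht : t ∈ Z) (htM : t ∈ M) (ha : t • a ≠ a) (hs : s ∈ Iv Z M a)
    (hs' : s' ∈ Iv Z M a) : ∃ k ∈ invertedBy O[{2}ᶜ](M ⊓ St2 G a (t • a)) t, k * s * k⁻¹ = s' := by
  obtain ⟨a1, a2, a3⟩ := S.iv_conj hs' htM
  obtain ⟨w, b1, b2, b3, b4⟩ := S.exists_swap hs.2.1 hs.2.2 a2 a3 ha.symm
  have hw : w ∈ Sw Z M a (t • a) := ⟨pair_le hs.1 a1 b1, b2, b4⟩
  have i := inverts_left (S.sq ht) (S.sq b2)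
  refine ⟨t * w, ⟨(S.isnM ht htM ha).mem_O (S.sw_mul ⟨htM, ht, rfl⟩ hw) (S.odd_sw ha.symm ⟨htM, ht, rfl⟩ hw) i, i⟩, ?_⟩
  calc _ = t * (w * s * w⁻¹) * t⁻¹ := by group
    _ = (t * t) * s' * (t * t)⁻¹ := by rw [b3]; group
    _ = _ := by rw [S.sq ht]; group

theorem K_free (ht : t ∈ Z) (ha : t • a ≠ a) (hs : s ∈ Z) (hsa : s • a = a)
    (ok : Odd (orderOf k)) (hk : t * k * t⁻¹ = k⁻¹) (h : k * s = s * k) : k = 1 := by
  obtain ⟨c, hc⟩ := S.ex ht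
  exact eq_one_of_odd_of_sq ok (sq_eq_one_of_centralized_inverted
    (S.odd_mul hs hsa ht hc fun e => ha (e ▸ hc)) h hk)

theorem ncard_Sw' (ab : a ≠ b) (hs : s ∈ Iv Z M a) (ho : Orb M a b) : (Sw Z M a b).ncard = nI Z M a := by
  obtain ⟨m, hm, rfl⟩ := ho
  have h1 := S.iv_conj hs hm
  generalize m * s * m⁻¹ = u at h1
  refine Set.ncard_congr (fun w _ => w * u * w⁻¹) (fun w hw => ?_) (fun w w' hw hw' e => ?_) fun s' hs' => ?_
  · have := S.iv_conj h1 hw.1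
    rwa [← hw.2.2, S.ss hw.2.1] at this
  · have := S.K_free (t := w) (a := m • a) (k := w' * w) hw.2.1 (by rw [← hw.2.2, S.ss hw.2.1, hw.2.2]; exact ab)
      h1.2.1 h1.2.2 (S.odd_sw ab hw' hw) (inverts_right (S.sq hw'.2.1) (S.sq hw.2.1)) (by
        calc _ = w' * (w * u * w⁻¹) * w := by group
          _ = (w' * w') * u * w'⁻¹ * w := by rw [e]; group
          _ = _ := by rw [S.sq hw'.2.1, S.inv hw'.2.1]; group)
    rw [← S.inv hw'.2.1]; exact (inv_eq_of_mul_eq_one_right this).symm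
  · obtain ⟨w, b1, b2, b3, b4⟩ := S.exists_swap h1.2.1 h1.2.2 hs'.2.1 hs'.2.2 ab.symm
    exact ⟨w, ⟨pair_le h1.1 hs'.1 b1, b2, by rw [← b4, S.ss b2, b4]⟩, b3⟩

/-- `|K ∩ M| = n_M` -/
theorem kc_eq_nI (ht : t ∈ Z) (htM : t ∈ M) (ha : t • a ≠ a) (hs : s ∈ Iv Z M a) :
    kc t O[{2}ᶜ](M ⊓ St2 G a (t • a)) = nI Z M a := by
  rw [← S.ncard_Sw ht htM ha, S.ncard_Sw' ha.symm hs (orb_smul htM a)]

theorem nI_orb (h : Orb M a b) : nI Z M a = nI Z M b := by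
  obtain ⟨m, hm, rfl⟩ := h
  refine Set.ncard_congr (fun s _ => m * s * m⁻¹) (fun s hs => S.iv_conj hs hm) (fun _ _ _ _ e => by simpa using e)
    fun s hs => ⟨m⁻¹ * s * m⁻¹⁻¹, by simpa using S.iv_conj hs (inv_mem hm), by group⟩

theorem card_iv {D : Subgroup G} (ht : t ∈ Iv Z M c) (h : D ≤ M ⊓ St G c)
    (h1 : ∀ s ∈ Iv Z M c, ∃ d ∈ D, d * t * d⁻¹ = s) : #D = #(D ⊓ C1[t]) * nI Z M c := by
  rw [card_conj D t, nI]
  congr 2
  refine Set.ext fun x => ⟨?_, h1 x⟩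
  rintro ⟨d, hd, rfl⟩
  have := S.iv_conj ht (h hd).1
  rwa [show d • c = c from (h hd).2] at this

theorem card_sw (ht : t ∈ Z) (htM : t ∈ M) (ha : t • a ≠ a) :
    #(M ⊓ St2 G a (t • a)) = #(M ⊓ St2 G a (t • a) ⊓ C1[t]) * (Sw Z M a (t • a)).ncard := by
  rw [card_conj _ t]
  congr 2
  refine Set.ext fun x => ⟨?_, fun hx => ?_⟩
  · rintro ⟨d, hd, rfl⟩; exact S.sw_conj ⟨htM, ht, rfl⟩ hd
  · obtain ⟨k, hk, -, e⟩ := S.swap_conj ht htM ha hx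
    exact ⟨k, O_le _ _ hk.1, e⟩

section sub
variable (ht : t ∈ Z) (htM : t ∈ M) (hc : t • c = c) (hM : ¬ M ≤ St G c)
include ht htM hc

theorem orb_of_inv (hu : u ∈ Z) (huM : u ∈ M) (hd : u • d = d) : Orb M c d := by
  by_cases h : c = d
  · exact h ▸ Orb.refl M c
  obtain ⟨w, a1, -, -, a2⟩ := S.exists_swap ht hc hu hd h
  exact ⟨w, pair_le htM huM a1, a2⟩

theorem exists_iv (h : Orb M c a) : ∃ s, s ∈ Iv Z M a := by
  obtain ⟨m, hm, rfl⟩ := h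
  exact ⟨_, S.iv_conj ⟨htM, ht, hc⟩ hm⟩

theorem swap_in (ha : Orb M c a) (hb : Orb M c b) (h : a ≠ b) : ∃ w ∈ M, w ∈ Z ∧ w • a = b := by
  obtain ⟨s, s1, s2, s3⟩ := S.exists_iv ht htM hc ha
  obtain ⟨u, u1, u2, u3⟩ := S.exists_iv ht htM hc hb
  obtain ⟨w, a1, a2, -, a3⟩ := S.exists_swap s2 s3 u2 u3 h
  exact ⟨w, pair_le s1 u1 a1, a2, a3⟩

theorem orb_XZ (ha : Orb M c a) : Orb (XZ Z M) c a := by
  obtain ⟨s, s1, s2, s3⟩ := S.exists_iv ht htM hc ha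
  exact S.orb_of_inv ht (mem_XZ htM ht) hc s2 (mem_XZ s1 s2) s3

/-- `|M_{ac}| = |M_{a,ta}|` -/
theorem card_St2 (ha : Orb M c a) (h : a ≠ c) : #(M ⊓ St2 G a c) = #(M ⊓ St2 G a (t • a)) := by
  obtain ⟨w, w1, w2, w3⟩ := S.swap_in ht htM hc (Orb.refl M c) ha h.symm
  obtain ⟨s, hs⟩ := S.exists_iv ht htM hc ha
  have n := S.ne_smul ht hc h
  rw [S.card_sw ht htM n, S.ncard_Sw' n.symm hs (orb_smul htM a), ← S.nI_orb ha,
    S.card_iv (D := M ⊓ St2 G a c) ⟨htM, ht, hc⟩ (inf_le_inf_left _ inf_le_right) fun s hs => by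
      obtain ⟨k, k1, k2⟩ := S.K_trans w2 w1 (w3 ▸ h) ⟨htM, ht, hc⟩ hs
      have := O_le _ _ k1.1
      exact ⟨k, ⟨this.1, w3 ▸ this.2.2, this.2.1⟩, k2⟩]
  congr 3
  ext x
  refine ⟨fun e => ⟨⟨e.1.1, e.1.2.1, ?_⟩, e.2⟩, fun e => ⟨⟨e.1.1, e.1.2.1, S.C1_le ht hc e.2⟩, e.2⟩⟩
  change x • t • a = t • a
  rw [← mul_smul, mem_C1.1 e.2, mul_smul, e.1.2.1]

include hM

theorem XZ_nle : ¬ XZ Z M ≤ St G c := fun e => hM fun m hm => by
  obtain ⟨x, hx, h⟩ := S.orb_XZ ht htM hc (orb_smul hm c)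
  exact h.symm.trans (e hx)

theorem conj_in (hu : u ∈ Z) (huM : u ∈ M) : ∃ m ∈ M, m * t * m⁻¹ = u := by
  obtain ⟨d, hd⟩ := S.ex hu
  by_cases h : c = d
  · obtain ⟨g, hg, n⟩ := SetLike.not_le_iff_exists.1 hM
    obtain ⟨a1, a2, a3⟩ := S.iv_conj ⟨htM, ht, hc⟩ hg
    obtain ⟨w, b1, -, b2, -⟩ := S.exists_swap a2 a3 hu hd (h ▸ n)
    exact ⟨w * g, mul_mem (pair_le a1 huM b1) hg, by rw [← b2]; group⟩
  obtain ⟨w, b1, -, b2, -⟩ := S.exists_swap ht hc hu hd h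
  exact ⟨w, pair_le htM huM b1, b2⟩

theorem card_St : #(M ⊓ St G c) = #(M ⊓ C1[t]) * nI Z M c := by
  rw [S.card_iv (D := M ⊓ St G c) ⟨htM, ht, hc⟩ le_rfl fun s hs => by
      obtain ⟨m, m1, m2⟩ := S.conj_in ht htM hc hM hs.2.1 hs.1
      exact ⟨m, ⟨m1, S.uniq hs.2.1 (m2 ▸ (S.iv_conj ⟨htM, ht, hc⟩ m1).2.2) hs.2.2⟩, m2⟩,
    inf_assoc, inf_eq_right.2 (S.C1_le ht hc)]

theorem odd_nI : Odd (nI Z M c) := by
  obtain ⟨m, hm, n⟩ := SetLike.not_le_iff_exists.1 hM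
  obtain ⟨w, w1, w2, w3⟩ := S.swap_in ht htM hc (Orb.refl M c) (orb_smul hm c) (Ne.symm n)
  have wc : w • c ≠ c := w3 ▸ n
  rw [← S.kc_eq_nI w2 w1 wc ⟨htM, ht, hc⟩]
  exact (odd_O _).of_dvd_nat (kc_dvd (S.ord w2) (odd_O _) (S.isnM w2 w1 wc).normO)

theorem four_mem (h : FourZ Z M) : ∃ y ∈ M, y ∈ Z ∧ y ≠ t ∧ t * y = y * t := by
  obtain ⟨x, hx, y, hy, a1, a2, a3, a4⟩ := h
  obtain ⟨m, m1, rfl⟩ := S.conj_in ht htM hc hM a1 hx
  refine ⟨m⁻¹ * y * m⁻¹⁻¹, conj_mem (normG M (inv_mem m1)) hy, S.conj a2 _, fun e => a3 (by rw [← e]; group), ?_⟩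
  calc _ = m⁻¹ * (m * t * m⁻¹ * y) * m := by group
    _ = _ := by rw [a4]; group

theorem four_St (h : FourZ Z M) (ha : Orb M c a) : FourZ Z (M ⊓ St G a) := by
  obtain ⟨y, hy, a1, a2, a3⟩ := S.four_mem ht htM hc hM h
  obtain ⟨m, hm, rfl⟩ := ha
  obtain ⟨b1, b2, b3⟩ := S.iv_conj ⟨htM, ht, hc⟩ hm
  obtain ⟨c1, c2, c3⟩ := S.iv_conj ⟨hy, a1, S.fix_of_comm ht hc a3.symm⟩ hm
  exact ⟨_, ⟨b1, b3⟩, _, ⟨c1, c3⟩, b2, c2, by simpa using a2.symm, by rw [conj_mul, conj_mul, a3]⟩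

end sub

/-- a Sylow subgroup of `M_ab` is normalized by a swapping member of `Z` -/
theorem swap_norm (hp : p.Prime) (p2 : p ≠ 2) (h : a ≠ b) (hw : w ∈ M) (wZ : w ∈ Z) (h1 : w • a = b)
    (hP : Syl p P (M ⊓ St2 G a b)) : ∃ u ∈ M ⊓ N[P], u ∈ Z ∧ u • a = b := by
  subst h1
  obtain ⟨R, hR, wR, -⟩ := (S.isnM wZ hw h.symm).syl hp p2 bot_le (pig_bot _) (norm_bot ⊤ (mem_top _))
  obtain ⟨d, hd, rfl⟩ := Syl.conj hR hp hP
  have := S.sw_conj ⟨hw, wZ, rfl⟩ hd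
  exact ⟨_, ⟨this.1, by rw [← cj_N]; exact mem_cj_conj.2 wR⟩, this.2⟩

theorem one_lt_nI (h : FourZ Z (M ⊓ St G a)) : 1 < nI Z M a := by
  obtain ⟨x, hx, y, hy, a1, a2, a3, -⟩ := h
  exact (Set.one_lt_ncard (Set.toFinite _)).2 ⟨x, ⟨hx.1, a1, hx.2⟩, y, ⟨hy.1, a2, hy.2⟩, a3⟩

theorem rk1_trans (h : ¬ FourZ Z M) (ht : t ∈ Z) (htM : t ∈ M) (hc : t • c = c)
    (ha : Orb M c a) : Orb O[{2}ᶜ](M) c a := by
  obtain ⟨m, hm, rfl⟩ := ha
  obtain ⟨o, ho, v, hv, rfl⟩ := (S.isn4 h ht htM).prod hm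
  exact ⟨o, ho, by rw [mul_smul, show v • c = c from S.C1_le ht hc hv.2]⟩

theorem F4 (ht : t ∈ Z) (hc : t • c = c) (h1 : t ∈ N[Y]) (h2 : t ∉ C[Y])
    (hu : u ∈ Z) (h3 : u ∈ C[Y]) : N[Y] ≤ St G c := by
  by_contra n
  obtain ⟨m, hm, rfl⟩ := S.conj_in ht h1 hc n hu (C_le_N Y h3)
  exact h2 ((mem_N.1 (normC le_rfl hm) t).2 h3)

theorem le_St_of_inv (ht : t ∈ Z) (hc : t • c = c) (hX : Odd #X) (hn : t ∈ N[X])
    (h : ∀ k ∈ invertedBy X t, k • c = c) : X ≤ St G c := by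
  by_contra hn'
  obtain ⟨k, hk, h'⟩ := exists_inv_not_mem (S.ord ht) hX hn hn' (inf_le_right.trans (S.C1_le ht hc))
  exact h' (h k hk)

theorem tc_fix (ht : t ∈ Z) (hc : t • c = c) (hN : Odd #N) (h1 : t ∈ N[N])
    (h2 : N ≤ N[N ⊓ St G c]) (hX : Odd #X) (h3 : X ≤ St G c) (h4 : X ≤ N[N]) (hf : f ∈ N) :
    tc t X ≤ St G (f • c) := by
  intro k hk
  have n : ∀ x, x ∈ N[N] → x • c = c → x ∈ N[N ⊓ St G c] := fun x a b =>
    normI (zpowers_le.2 a) (zpowers_le.2 (normG _ b)) (mem_zpowers x)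
  have := (inv_mem (tc_comm (S.ord ht) hN h2 h1 (n t h1 hc) (inf_le_inf_left _ (S.C1_le ht hc)) hX h4
    (fun x hx => n x (h4 hx) (h3 hx)) (comm_mem hk (inv_mem hf)))).2
  replace this : (k * f⁻¹ * k⁻¹ * f⁻¹⁻¹)⁻¹ • c = c := this
  rw [show (k * f⁻¹ * k⁻¹ * f⁻¹⁻¹)⁻¹ = f⁻¹ * k * f * k⁻¹ by group, mul_smul,
    show k⁻¹ • c = c from inv_mem (h3 (tc_le t X hk)), mul_smul, mul_smul, inv_smul_eq_iff] at this
  exact this

theorem cent_not_le (ht : t ∈ Z) (hc : t • c = c) (hN : Odd #N) (h1 : t ∈ N[N])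
    (hNc : ¬ N ≤ St G c) (hX : Odd #X) (h2 : t ∈ N[X]) (h3 : X ≤ St G c) (h4 : X ≤ N[N])
    (h5 : Y ≤ tc t X) (h6 : (#Y).Coprime #N) : ¬ N ⊓ C[Y] ≤ St G c := by
  obtain ⟨L, l1, ⟨l2, l3, l4⟩, l5⟩ := exists_minimal (P := fun L => t ∈ N[L] ∧ X ≤ N[L] ∧ ¬ L ≤ St G c) ⟨h1, h4, hNc⟩
  have oL := odd_of_le hN l1
  have d : ⁅L, L⁆ ≤ St G c := by_contra fun n => ((sol_of_odd oL).der_lt fun e => l4 (e ▸ bot_le)).ne
    (l5 _ ⟨normD le_rfl l2, normD l3, n⟩ (der_le L))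
  have nX : X ≤ N[L ⊓ St G c] := normI l3 (normsG h3)
  have c := tc_comm (S.ord ht) oL (norm_of_der_le (le_inf (der_le L) d) inf_le_left) l2
    (normI (zpowers_le.2 l2) (zpowers_le.2 (normG _ hc)) (mem_zpowers t)) (inf_le_inf_left _ (S.C1_le ht hc)) hX l3 nX
  have := cop_prod_of_comm_le (h5.trans ((tc_le t X).trans nX)) (coprimeS h6 le_rfl (inf_le_left.trans l1))
    (.inr (sol_of_odd (odd_of_le oL inf_le_left))) inf_le_left ((commC _ _).le.trans ((commS h5 le_rfl).trans c))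
  exact fun e => l4 (this.sup.ge.trans (sup_le ((inf_le_inf_right _ l1).trans e) inf_le_right))

/-- an involution normalizing `M` and fixing `a` centralizes a member of `Iv Z M a` -/
theorem exists_iv_cent (hs : s ∈ Iv Z M a) (hM : ¬ M ≤ St G a) {r : G} (hr : r * r = 1) (h1 : r ∈ N[M])
    (h2 : r • a = a) : ∃ u ∈ Iv Z M a, r * u = u * r := by
  have m := ncard_modEq (Set.toFinite (Iv Z M a)) (f := fun y => r * y * r⁻¹) (fun y hy => ⟨conj_mem h1 hy.1,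
    S.conj hy.2.1 r, by rw [mul_smul, mul_smul, inv_smul_eq_iff.2 h2.symm, hy.2.2, h2]⟩) Nat.prime_two
    fun y _ => by rw [conj_iterate, pow_two, hr]; simp
  have o := S.odd_nI hs.2.1 hs.1 hs.2.2 hM
  obtain ⟨u, hu, e⟩ := Set.nonempty_of_ncard_ne_zero (s := {y ∈ Iv Z M a | r * y * r⁻¹ = y}) fun e => by
    rw [e] at m; exact o.not_two_dvd_nat ((Nat.modEq_zero_iff_dvd).1 m)
  exact ⟨u, hu, mul_inv_eq_iff_eq_mul.1 e⟩

/-- an involution normalizing `M` and `{a, b}` centralizes a member of `Sw Z M a b` -/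
theorem exists_sw_cent (ab : a ≠ b) (hs : w ∈ Sw Z M a b) {r : G} (hr : r * r = 1) (h1 : r ∈ N[M])
    (h2 : r • a = a ∧ r • b = b ∨ r • a = b ∧ r • b = a) : ∃ u ∈ Sw Z M a b, r * u = u * r := by
  have ri : r⁻¹ = r := inv_eq_of_mul_eq_one_right hr
  have m := ncard_modEq (Set.toFinite (Sw Z M a b)) (f := fun y => r * y * r⁻¹) (fun y hy => ⟨conj_mem h1 hy.1,
    S.conj hy.2.1 r, by
      rw [mul_smul, mul_smul, ri]
      rcases h2 with h | h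
      · rw [h.1, hy.2.2, h.2]
      · rw [h.1, ← hy.2.2, S.ss hy.2.1, h.1, hy.2.2]⟩) Nat.prime_two
    fun y _ => by rw [conj_iterate, pow_two, hr]; simp
  obtain ⟨w1, w2, rfl⟩ := hs
  have o : Odd (Sw Z M a (w • a)).ncard := by
    rw [S.ncard_Sw w2 w1 ab.symm]
    exact (odd_O _).of_dvd_nat (kc_dvd (S.ord w2) (odd_O _) (S.isnM w2 w1 ab.symm).normO)
  obtain ⟨u, hu, e⟩ := Set.nonempty_of_ncard_ne_zero (s := {y ∈ Sw Z M a (w • a) | r * y * r⁻¹ = y}) fun e => by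
    rw [e] at m; exact o.not_two_dvd_nat ((Nat.modEq_zero_iff_dvd).1 m)
  exact ⟨u, hu, mul_inv_eq_iff_eq_mul.1 e⟩

end ZW

namespace ZF
variable (S : ZF Ω Z)
include S

theorem even_mul' (hs : s ∈ Z) (hu : u ∈ Z) (h : Even (orderOf (s * u))) :
    ∃ v ∈ zpowers (s * u), v ∈ Z ∧ v * s = s * v ∧ v * u = u * v := by
  obtain ⟨v, h1, h2, h3, h4, h5⟩ := S.even_mul hs hu h
  have e : s * (s * v) = v := by rw [← mul_assoc, S.sq hs, one_mul]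
  exact ⟨v, h1, e ▸ S.mul hs h5 (fun e => ne_one_of_ord2 h2 (by simpa using e)) (by rw [e, mul_assoc, h3, e]), h3, h4⟩

theorem mem_four {x y : G} (hx : x ∈ Z) (hy : y ∈ Z) (n : x ≠ y) (h : x * y = y * x)
    (hu : u ∈ zpowers x ⊔ zpowers y) (u1 : u ≠ 1) : u ∈ Z := by
  obtain ⟨a, ha, b, hb, rfl⟩ := (mem_sup_l (cents_norm (zp_le (by rw [C_zpowers]; exact mem_C1.2 h.symm)))).1 hu
  rcases mem_zp0 (S.ord hx) ha with rfl | rfl <;> rcases mem_zp0 (S.ord hy) hb with rfl | rfl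
  · simp at u1
  · simpa using hy
  · simpa using hx
  · exact S.mul hx hy n h

/-- an odd group normalized by a four-group fixing `c` fixes `c` -/
theorem le_St_of_four (hY : Odd #Y) (h : FourZ Z (N[Y] ⊓ St G c)) : Y ≤ St G c := by
  obtain ⟨x, hx, y, hy, a1, a2, a3, a4⟩ := h
  have ab := four_abelem (S.ord a1) (S.ord a2) a4
  have l := sup_le (zpowers_le.2 hx) (zpowers_le.2 hy)
  exact cop_gen_cent1 ab.abel (four_not_cyc (S.ord a1) (S.ord a2) a4 a3) (l.trans inf_le_left)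
    (PiN.coprime' (odd_iff0.1 hY) (ab.pig Nat.prime_two)).symm fun a ha n => inf_le_right.trans
      (S.C1_le (S.mem_four a1 a2 a3 a4 ha n) (l ha).2)

theorem EV (oY : Odd #Y) (hN : N ≤ N[Y]) {a₁ a₂ a₃ : Ω} (h1 : Y ≤ St G a₁)
    (s12 : ∃ u ∈ N, u ∈ Z ∧ u • a₁ = a₂) (s23 : ∃ u ∈ N, u ∈ Z ∧ u • a₂ = a₃)
    (s31 : ∃ u ∈ N, u ∈ Z ∧ u • a₃ = a₁)
    (hu : u ∈ Z) (huN : u ∈ N) (hd : u • d = d) : Y ≤ St G d := by
  by_cases h : FourZ Z N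
  · refine S.le_St_of_four oY (FourZ.mono ?_ (inf_le_inf_right _ hN))
    by_cases c : N ≤ St G d
    · rwa [inf_eq_left.2 c]
    exact S.four_St hu huN hd c h (Orb.refl N d)
  obtain ⟨x, x1, x2, x3⟩ := s12
  obtain ⟨y, y1, y2, y3⟩ := s23
  obtain ⟨z, z1, z2, z3⟩ := s31
  have I := S.isn4 h hu huN
  have l := zpowers_le.2 (mul_mem z1 (mul_mem y1 x1))
  have m : z * (y * x) ∈ O[{2}ᶜ](N) ⊔ zpowers u := by
    have := mul_mem (inv_mem (mem_sup_right (mem_zpowers u) : u ∈ O[{2}ᶜ](N) ⊔ zpowers u))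
      (mem_sup_left (mul_mem (S.rk1_mul h hu huN z2 z1) (S.rk1_mul h y2 y1 x2 x1)))
    simpa [mul_assoc] using this
  obtain ⟨e, e1, e2⟩ := exists_involution_mem (H := zpowers (z * (y * x))) (Nat.not_odd_iff_even.1 fun o =>
    odd_card_iff.1 (I.sup l o).1 z ((mul_mem_cancel_right (mem_sup_left (S.rk1_mul h y2 y1 x2 x1))).1
      (mem_sup_right (mem_zpowers _))) (S.ord z2))
  have f : zpowers (z * (y * x)) ≤ St G a₁ := zpowers_le.2 (by rw [mem_St, mul_smul, mul_smul, x3, y3, z3])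
  obtain ⟨o, ho, v, hv, rfl⟩ := (mem_sup_l (zp_le I.normO)).1 (zp_le m e1)
  rcases mem_zp0 (S.ord hu) hv with rfl | rfl
  · exact absurd (by simpa using e2) (not_ord_two (odd_O N) ho)
  have i : v * o * v⁻¹ = o⁻¹ := by
    have := inverts_right (mul_self_of_ord e2) (S.sq hu)
    rwa [mul_assoc o, S.sq hu, mul_one] at this
  obtain ⟨y, hy, -, e3⟩ := mul_eq_conj (odd_ord_of_mem (odd_O N) ho) i
  have yN := O_le _ _ (zp_le ho hy)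
  have := fix_smul (inv_mem (hN yN)) h1
  rwa [S.uniq hu (a := y⁻¹ • a₁) (by
    have := f e1
    rw [mem_St, e3, mul_smul, mul_smul] at this
    rw [eq_inv_smul_iff, this]) hd] at this

end ZF

end Cfsg.Agent.ZD
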