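import Cfsg.Agent.ZD.A4

/-! # Part A: (G1) holds in a minimal counterexample -/

set_option autoImplicit false
set_option linter.unusedVariables false
set_option linter.unusedSectionVars false

namespace Cfsg.Agent.ZD
open Cfsg Cfsg.Agent.BG Cfsg.Agent.Inv Cfsg.Agent.SE MulAction Subgroup PHom

variable {G Ω : Type*} [Group G] [Finite G] [MulAction G Ω] {Z : Set G}
variable {A B D H K L M M₁ N P Q R T U W X Y : Subgroup G} {a b c d : Ω} {t s s' u k g w f x y z : G} {p q r : ℕ}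
  {π : Set ℕ}

namespace Ctx
variable (S : Ctx Z t c W)
include S

local notation "𝓞" M:max => O[{2}ᶜ](M)
local notation "𝓕" M:max => F[O[{2}ᶜ](M)]
local notation "𝓓" a:max => St2 G a (t • a)

theorem Y_ne (h : ¬ O[{p}](W) ≤ C1[t]) : O[{p}](W) ≠ ⊥ := fun e => h (e ▸ bot_le)

theorem nOF (hM : InM t c W M) (π : Set ℕ) : M ≤ N[O[π](𝓕 M)] := normO _ (S.nF hM)
theorem OF_le (hM : InM t c W M) (π : Set ℕ) : O[π](𝓕 M) ≤ M := (O_le _ _).trans (S.FM hM)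
theorem oOF (hM : InM t c W M) (π : Set ℕ) : Odd #O[π](𝓕 M) := odd_of_le (S.oF hM) (O_le _ _)

/-- case X, first step -/
theorem X_meet (hM : InM t c W M₁) (hW : N[W] ≤ M₁) (h : O[{r}](𝓕 M₁) ≠ ⊥) :
    O[{r}](𝓕 M₁) ⊓ St G c ≠ ⊥ := fun e => by
  set R := O[{r}](𝓕 M₁)
  have nR := S.nOF hM {r}
  have Rc : ¬ R ≤ St G c := fun h' => h ((inf_eq_left.2 h').symm.trans e)
  have hN : Bot2 c M₁ R := ⟨(O_le _ _).trans (F_le _), inf_le_left.trans nR, Rc, e ▸ norm_bot _, by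
    refine cents_norm ?_
    refine (O_cent_O _ _).trans (centS ((F_nil _).le_O inf_le_left (pig_of_nil ((F_nil _).of_le inf_le_left) ?_)))
    rw [compl_compl, (F_nil _).O_eq_inf _ inf_le_left, ← inf_assoc, inf_eq_left.2 (O_le _ _), e]⟩
  obtain ⟨f, hf, fc⟩ := S.bot_x hM hN
  have Wa := S.bot_W hM hN hf.1
  set a := f • c
  have EM : 𝓓 a ⊓ St G c ≤ M₁ := (S.E_norm fc Wa).trans hW
  have Ef : 𝓓 a ⊓ St G c ≤ C1[f] := cent_of_fix (EM.trans nR) e inf_le_right hf.1 (inf_le_left.trans inf_le_left)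
  have oD := odd_O (𝓓 a)
  have tF : t ∈ N[F[O[{2}ᶜ](𝓓 a)]] := normF (zp_le (S.iD fc).normO) (mem_zpowers t)
  have FD : F[O[{2}ᶜ](𝓓 a)] ≤ 𝓓 a := (F_le _).trans (O_le _ _)
  set U := F[O[{2}ᶜ](𝓓 a)] ⊓ St G c with hU
  have tU : t ∈ N[U] := normI (zp_le tF) (normsG (zp_le S.hc)) (mem_zpowers t)
  have WD := S.WOD fc Wa
  have key : U ≠ ⊥ ∧ ∃ k ∈ 𝓓 a ⊓ N[U], k ∉ St G c := by
    by_cases h1 : F[O[{2}ᶜ](𝓓 a)] ≤ St G c
    · rw [hU, inf_eq_left.2 h1]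
      obtain ⟨k, hk, kc⟩ := S.exists_K fc Wa
      exact ⟨F_ne_bot (sol_of_odd oD) fun e => S.W_ne (eq_bot_iff.2 (e ▸ WD)), k, ⟨O_le _ _ hk.1, F_norm _ hk.1⟩, kc⟩
    · have lt := (F_nil O[{2}ᶜ](𝓓 a)).lt_norm (inf_lt_left.2 h1)
      obtain ⟨k, hk, kU⟩ := SetLike.exists_of_lt lt
      refine ⟨fun e1 => h1 ((le_inf ?_ FD).trans (S.MD_le hM (orb_smul (S.OF_le hM _ hf.1) c) fc Wa)),
        k, ⟨FD hk.1, hk.2⟩, fun kc => kU ⟨hk.1, kc⟩⟩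
      refine (cents_norm fun g hg => le_C1_iff.1 (cent_of_fix (WD.trans (F_norm _)) e1 S.Wc hg ?_)).trans hW
      rw [← S.tcW]
      exact S.tc_fix S.ht S.hc (odd_of_le oD (F_le _)) tF (by rw [← hU, e1]; exact norm_bot _) S.oW S.Wc
        (WD.trans (F_norm _)) hg
  obtain ⟨U1, k, hk, kc⟩ := key
  have fU : f ∈ N[U] := C_le_N _ (le_C1_iff.1 ((inf_le_inf_right _ FD).trans Ef))
  obtain ⟨M, hM', le⟩ := S.exists_M (S.N_ne_top' U1 (odd_of_le oD (inf_le_left.trans (F_le _)))) tU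
    (normI (WD.trans (F_norm _)) (normsG S.Wc)) fun h => fc (h fU)
  exact kc (S.MD_le hM' (orb_smul (le fU) c) fc Wa ⟨le hk.2, hk.1⟩)

/-- the `P × Q` step -/
theorem pq1 (hM₁ : InM t c W M₁) (hY : C[O[{p}](W)] ≤ M₁) (hM : InM t c W M)
    (h1 : Q ≤ O[{p}ᶜ](𝓕 M₁)) (h2 : Q ≤ M) : Q ≤ C[O[{p}](𝓕 M)] :=
  pq_lemma (O_pig {p} (𝓕 M)).nil (S.Y_le hM p) le_rfl (cent_symm (h1.trans (S.X_cent hM₁ p)))
    (((O_pig _ _).of_le h1).coprime' (O_pig _ _)) (normsG (S.Y_le hM p)) (h2.trans (S.nOF hM _))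
    (cent_of_inf ((inf_le_right.trans hY).trans (S.nOF hM₁ _)) (h2.trans (S.nOF hM _)) inf_le_left h1
      (O_inf_O _ _ _))

/-- Bender's comparison of two maximal subgroups -/
theorem compare (hp : p.Prime) (hY1 : O[{p}](W) ≠ ⊥) (hM₁ : InM t c W M₁) (hW : N[W] ≤ M₁)
    (hY : C[O[{p}](W)] ≤ M₁) (hM : InM t c W M) (hF : 𝓕 M₁ ⊓ St G c ≤ M) (hX : O[{p}ᶜ](𝓕 M) ≠ ⊥)
    (hH : ∀ r : ℕ, O[{r}](𝓕 M₁) ⊓ St G c ≤ C[𝓞 M] → O[{r}](𝓕 M₁) ⊓ St G c = ⊥) :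
    𝓞 M₁ ≤ M := by
  set Xs := O[{p}ᶜ](𝓕 M) with hXs
  set Ps := O[{p}](𝓕 M) with hPs
  set X₁ := O[{p}ᶜ](𝓕 M₁) with hX₁
  set P₁ := O[{p}](𝓕 M₁) with hP₁
  have nF := F_nil (𝓞 M)
  have nF₁ := F_nil (𝓞 M₁)
  have XsM : Xs ≤ M₁ := (S.X_cent hM p).trans hY
  have YP := S.Y_le hM p
  have Z1 : Z[Ps] ≠ ⊥ := (O_pig _ _).nil.Z_ne_bot fun e => hY1 (eq_bot_iff.2 (YP.trans e.le))
  have nZ : M ≤ N[Z[Ps]] := normZ (S.nOF hM _)
  have oZ : Odd #Z[Ps] := odd_of_le (S.oOF hM _) inf_le_left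
  have CZ : C[Z[Ps]] ≤ M := S.C_le hM Z1 nZ oZ
  have ZM : Z[Ps] ≤ M₁ := (inf_le_right.trans (centS YP)).trans hY
  have pZ : PiG {p} Z[Ps] := (O_pig _ _).of_le inf_le_left
  have ZX : Z[Ps] ≤ C[Xs] := inf_le_left.trans (O_cent_O _ _)
  have nO := O_norm {2}ᶜ M₁
  set π : Set ℕ := {r | r ∣ #Xs}
  have πX : PiG π Xs := pin_self _
  obtain ⟨oL, -⟩ := (S.iM hM₁).sup (sup_le XsM ZM)
    (odd_of_le (S.oF hM) (sup_le (O_le _ _) (inf_le_left.trans (O_le _ _))))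
  set L := 𝓞 M₁ ⊔ (Xs ⊔ Z[Ps])
  have LM : L ≤ M₁ := sup_le (O_le _ _) (sup_le XsM ZM)
  have ZL : Z[Ps] ≤ L := le_sup_right.trans le_sup_right
  have ZB : Z[Ps] ≤ O[πᶜ](L) := le_O_of_forall' ZL fun r hr hπ => by
    have hd : r ∣ #Xs := not_not.1 hπ
    have rp : r ≠ p := fun e => (O_pig {p}ᶜ _) r hr hd e
    exact le_O_of_local (sol_of_odd oL) (O_pig {r} Xs) ((O_le _ _).trans (le_sup_left.trans le_sup_right)) ZL
      (ZX.trans (centS (O_le _ _))) (pZ.ne_compl rp.symm) (inf_le_right.trans ((S.C_le hM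
        ((nF.of_le (O_le _ _)).O_ne_bot hr hd (Set.mem_singleton r)) (normO _ (S.nOF hM _))
        (odd_of_le (S.oOF hM _) (O_le _ _))).trans nZ))
  have FsC : ∀ V : Subgroup G, V ≤ C[Ps] → V ≤ C[Xs] → V ≤ C[𝓕 M] := fun V h1 h2 => by
    rw [← (nF.dprod_O {p}).sup]; exact centY h1 h2
  have πX₁ : PiG π X₁ := fun r hr hd => by
    by_contra hn
    have rp : r ≠ p := fun e => (O_pig {p}ᶜ _) r hr hd e
    have h1 := S.X_meet hM₁ hW (nF₁.O_ne_bot hr (hd.trans (cardS (O_le _ _))) (Set.mem_singleton r))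
    have le : O[{r}](𝓕 M₁) ⊓ St G c ≤ M := (inf_le_inf_right _ (O_le _ _)).trans hF
    have pR : PiG {r} (O[{r}](𝓕 M₁) ⊓ St G c) := (O_pig _ _).of_le inf_le_left
    refine h1 (hH r (S.cent_O hM le (FsC _ (S.pq1 hM₁ hY hM (inf_le_left.trans (O_mono (single_sub rp) _)) le)
      (cent_of_inf (le.trans (S.nOF hM _)) (XsM.trans (S.nOF hM₁ _)) inf_le_left le_rfl
        ((O_pig _ _).inf_bot (πX.compl_single' hn)))) (pR.coprime ?_)))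
    rw [← (nF.dprod_O {p}).sup]
    exact PiG.sup_l ((O_pig _ _).ne_compl rp.symm) (πX.compl_single' hn) ((O_le _ _).trans (O_norm _ _))
  have X₁L : X₁ ≤ L := ((O_le _ _).trans (F_le _)).trans le_sup_left
  have X₁M : X₁ ≤ M := ((πX₁.cent (O_pig _ _) (X₁L.trans (O_norm _ _))
    (((O_le _ _).trans LM).trans (S.nOF hM₁ _))).trans (centS ZB)).trans CZ
  have X₁P : X₁ ≤ C[Ps] := S.pq1 hM₁ hY hM le_rfl X₁M
  have X₁X : X₁ ≤ Xs := (nF₁.of_le (O_le _ _)).le_of_O fun r hr hd => by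
    have rp : r ≠ p := fun e => (O_pig {p}ᶜ _) r hr hd e
    have n1 : M₁ ≤ N[O[{r}](X₁)] := normO _ (S.nOF hM₁ _)
    have c1 : O[{r}](X₁) ≤ C[O[{r}ᶜ](𝓕 M)] := cent_symm ((nF.of_le (O_le _ _)).le_of_O fun s hs hd' => by
      have sr : s ≠ r := fun e => (O_pig {r}ᶜ _) s hs hd' e
      by_cases sp : s = p
      · subst sp
        exact (nF.O_mono _ (O_le _ _)).trans (cent_symm ((O_le _ _).trans X₁P))
      · exact (O_pig _ _).cent ((O_pig _ _).ne_compl sr.symm)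
          (((nF.le_O ((O_le _ _).trans (O_le _ _)) ((O_pig _ _).ne_compl sp)).trans XsM).trans n1)
          (((O_le _ _).trans X₁M).trans (normO _ (S.nOF hM _))))
    have n2 : M ≤ N[M ⊓ C[O[{r}ᶜ](𝓕 M)]] := normI (normG _) (normC (S.nOF hM _))
    have h1 : O[{r}](X₁) ≤ O[{r}](M ⊓ C[O[{r}ᶜ](𝓕 M)]) := le_O (le_inf ((O_le _ _).trans X₁M) c1)
      (((inf_le_right.trans (centS (YP.trans (O_mono (single_sub rp.symm) _)))).trans hY).trans n1) (O_pig _ _)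
    have r2 : r ≠ 2 := ne_two_of_odd hr (S.oOF hM₁ _) hd
    exact nF.le_O (h1.trans (S.le_F hM ((O_le _ _).trans inf_le_left) (normO _ n2) (O_pig _ _).nil
      (odd_of_pig2 ((O_pig _ _).ne_compl r2)))) ((O_pig _ _).ne_compl rp)
  have XP₁ : Xs ≤ C[P₁] := pq_lemma ((O_pig {p} (𝓕 M₁)).sup_l pZ (ZM.trans (S.nOF hM₁ _))).nil le_sup_right
    le_sup_left ZX ((O_pig _ _).coprime' (O_pig _ _)) (ZM.trans (S.nOF hM₁ _)) (XsM.trans (S.nOF hM₁ _))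
    (cent_of_inf ((inf_le_right.trans CZ).trans (S.nOF hM _)) (XsM.trans (S.nOF hM₁ _)) inf_le_left le_rfl
      (O_inf_O _ _ _))
  have XB : Xs ≤ C[O[πᶜ](𝓞 M₁)] := cop_cent_F (normO _ (XsM.trans nO)) (πX.coprime (O_pig _ _))
    (sol_of_odd (odd_of_le (odd_O _) (O_le _ _))) (XP₁.trans (centS (by
      rw [F_O]
      refine nF₁.le_O (O_le _ _) (pig_of_nil (nF₁.of_le (O_le _ _)) ?_)
      exact (πX₁.of_le (nF₁.O_mono _ (O_le _ _))).eq_bot ((O_pig _ _).of_le (O_le _ _)))))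
  have h7 : ⁅𝓞 M₁, Z[Ps]⁆ ≤ O[πᶜ](𝓞 M₁) := (le_inf ((commS le_rfl ZB).trans (commR (le_sup_left.trans (O_norm _ _))))
    (commL (ZM.trans nO))).trans (O_inf_le _ le_sup_left)
  have h8 : ⁅Xs, 𝓞 M₁⁆ ≤ N[Xs] := ((comm_eq_bot.1 (three_subgroup (comm_eq_bot.2 (h7.trans (cent_symm XB)))
    (by rw [comm_eq_bot.2 ZX, commutator_bot_left]))).trans CZ).trans (S.nOF hM _)
  have YO : ⁅Xs, 𝓞 M₁⁆ ≤ 𝓞 M₁ := commR (XsM.trans nO)
  have h9 : Xs ≤ O[{p}ᶜ](F[𝓞 M₁ ⊔ Xs]) := (F_nil _).le_O ((BG.le_F le_sup_left (sup_le (normG _) h8)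
    (nF.of_le (O_le _ _))).trans (F_le_of_normal (sup_le le_sup_right (YO.trans le_sup_left))
      (sup_le (comm_le_l.1 (comm_sup_le le_sup_right ((commL (comm_normr _ _)).trans le_sup_right)
        (normsG le_sup_left) (normsG le_sup_right))) (normsG le_sup_left)))) (O_pig _ _)
  have nV : 𝓞 M₁ ≤ N[O[{p}ᶜ](F[𝓞 M₁ ⊔ Xs])] := normO _ (normF (normsG le_sup_left))
  have h10 : ⁅Xs, 𝓞 M₁⁆ ≤ X₁ := (le_inf ((commS h9 le_rfl).trans (commL nV)) YO).trans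
    (nF₁.le_O (BG.le_F inf_le_right (normI nV (normG _)) ((F_nil _).of_le (inf_le_left.trans (O_le _ _))))
      ((O_pig _ _).of_le inf_le_left))
  exact (comm_le_l.1 (h10.trans X₁X)).trans (S.N_le hM hX (S.nOF hM _) (S.oOF hM _))

theorem caseX (hp : p.Prime) (hπ : ¬ O[{p}](W) ≤ C1[t]) (h : ¬ N[O[{p}](W)] ≤ St G c) : False := by
  have Y1 := S.Y_ne hπ
  have pd := S.dvd_of_pi hp hπ
  have p2 := S.ne_two hp pd
  obtain ⟨M₁, hM₁, le₁⟩ := S.exists_M (S.N_ne_top' Y1 (odd_of_le S.oW (O_le _ _))) (S.tY _) (O_norm _ _) h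
  have hW : N[W] ≤ M₁ := (normO _ le_rfl).trans le₁
  have hY : C[O[{p}](W)] ≤ M₁ := (C_le_N _).trans le₁
  obtain ⟨N₁, hN⟩ := S.exists_bot hM₁
  have orb : ∀ x ∈ N₁, Orb M₁ c (x • c) := fun x hx => orb_smul (O_le _ _ (hN.le hx)) c
  obtain ⟨f, hf, fc⟩ := S.bot_x hM₁ hN
  have Wa := S.bot_W hM₁ hN hf.1
  have hlt := S.lt_of_A fc Wa hp pd (S.A_le fc Wa
    ((le_inf (inf_le_right.trans hY) inf_le_left).trans (S.MD_le hM₁ (orb f hf.1) fc Wa)))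
  set a := f • c
  have tV : t ∈ N[𝓕 M₁ ⊓ St G c] := normI (zp_le (S.nF hM₁ hM₁.mem)) (normsG (zp_le S.hc)) (mem_zpowers t)
  have VD : 𝓕 M₁ ⊓ St G c ≤ 𝓓 a := le_inf (hN.fix f hf.1) (fix_smul tV (hN.fix f hf.1))
  obtain ⟨k, hk, kc⟩ := S.exists_K fc Wa
  set T := tc t O[{2}ᶜ](𝓓 a)
  have oT : Odd #T := odd_of_le (odd_O _) (tc_le _ _)
  have WT : W ≤ T := S.tcW.ge.trans (tc_mono _ (S.WOD fc Wa))
  have ex : ∀ L : Subgroup G, L ≠ ⊤ → t ∈ L → T ≤ L → 𝓕 M₁ ⊓ St G c ≤ L →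
      ∃ M, (InM t c W M ∧ T ≤ M ∧ 𝓕 M₁ ⊓ St G c ≤ M) ∧ L ≤ M := fun L h1 h2 h3 h4 => by
    obtain ⟨M, hM, le⟩ := S.exists_M h1 h2 (WT.trans h3) fun e => kc (e (h3 (mem_tc hk)))
    exact ⟨M, ⟨hM, h3.trans le, h4.trans le⟩, le⟩
  obtain ⟨M₀, h0, -⟩ := ex _ (S.ND Wa) (norm_St2 S.t2 a) (((tc_le _ _).trans (O_le _ _)).trans (normG _))
    (VD.trans (normG _))
  obtain ⟨M, ⟨hM, TM, VM⟩, hm⟩ := exists_max_of
    (fun M : Subgroup G => InM t c W M ∧ T ≤ M ∧ 𝓕 M₁ ⊓ St G c ≤ M) (fun M => pp p #M) h0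
  have eO : ∀ π : Set ℕ, O[π](𝓕 M₁ ⊓ St G c) = O[π](𝓕 M₁) ⊓ St G c := fun π => by
    rw [(F_nil _).O_eq_inf _ inf_le_left, ← inf_assoc, inf_eq_left.2 (O_le _ _)]
  have hH : ∀ r : ℕ, O[{r}](𝓕 M₁) ⊓ St G c ≤ C[𝓞 M] → O[{r}](𝓕 M₁) ⊓ St G c = ⊥ := fun r h1 => by
    by_contra h2
    refine S.s0' (S.N_ne_top' h2 (odd_of_le (S.oOF hM₁ _) inf_le_left)) S.ht ?_ S.hc fc (fun k hk => C_le_N _
      (cent_symm h1 ((S.iM hM).mem_O (TM (mem_tc hk)) (odd_ord_of_mem (odd_O _) hk.1) hk.2))) (orb_smul ?_ c)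
    · rw [← eO]; exact normO _ (zp_le tV) (mem_zpowers t)
    · rw [← eO]; exact normO _ hN.nf hf.1
  by_cases hX : O[{p}ᶜ](𝓕 M) = ⊥
  · have eF : 𝓕 M = O[{p}](𝓕 M) := F_eq_O_aux hX
    have pV : PiG {p} (𝓕 M₁ ⊓ St G c) := pig_of_nil ((F_nil _).of_le inf_le_left) (by
      refine eq_bot_iff.2 ((((F_nil _).of_le inf_le_left).of_le (O_le _ _)).le_of_O fun r hr hd => ?_)
      have rp : r ≠ p := fun e => (O_pig {p}ᶜ _) r hr hd e
      have le : O[{r}](𝓕 M₁) ⊓ St G c ≤ M := (inf_le_inf_right _ (O_le _ _)).trans VM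
      refine le_trans (((F_nil _).of_le inf_le_left).O_mono _ (O_le _ _)) ((eO _).trans (hH r (S.cent_O hM le ?_ ?_))).le
      · rw [eF]; exact S.pq1 hM₁ hY hM (inf_le_left.trans (O_mono (single_sub rp) _)) le
      · rw [eF]; exact ((O_pig _ _).of_le inf_le_left).coprime ((O_pig _ _).ne_compl rp.symm))
    obtain ⟨P, hP, tP, VP⟩ := (S.iM hM).syl hp p2 VM pV tV
    have hB : O[{p}ᶜ](𝓞 M) = ⊥ := by
      by_contra hn
      exact F_ne_bot (sol_of_odd (odd_of_le (odd_O M) (O_le _ _))) hn (by rw [F_O, hX])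
    have zj := (S.iM hM).zj_step hp p2 hP tP (hB ▸ bot_le)
    have P1 : P ≠ ⊥ := fun e => Y1 (eq_bot_iff.2 ((le_inf ((S.Y_le hM₁ p).trans (O_le _ _))
      ((O_le _ _).trans S.Wc)).trans (VP.trans e.le)))
    obtain ⟨M', h', le⟩ := ex N[ZJ P] (S.N_ne_top' (ZJ_ne_bot hP.pi P1)
      (odd_of_pig2 ((hP.pi.of_le (ZJ_le _)).ne_compl p2))) (normZJ (zp_le tP) (mem_zpowers t))
      (((tc_tc _ _).ge.trans ((S.iM hM).tc_le' TM oT)).trans zj) (VP.trans (normZJ (normG _)))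
    exact S.no_syl hM hp pd (hlt ((S.O_W_le hM _).trans (hB ▸ bot_le))) hP.le tP (syl_top_of_max hp hP.pi le (by rw [Syl.card_pp hP hp]; exact hm M' h'))
  · exact S.s0' hM.co.1 S.ht hM.mem S.hc fc (fun k hk => TM (mem_tc hk))
      (orb_smul (S.compare hp Y1 hM₁ hW hY hM VM hX hH (hN.le hf.1)) c)
where
  F_eq_O_aux {X : Subgroup G} (h : O[{p}ᶜ](F[X]) = ⊥) : F[X] = O[{p}](F[X]) :=
    (O_eq_self (pig_of_nil (F_nil X) h)).symm

theorem exists_inM : ∃ M, InM t c W M := by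
  obtain ⟨a, ac, e⟩ := S.exW
  have Wa : W ≤ St G a := e ▸ (tc_le _ _).trans ((O_le _ _).trans (inf_le_left.trans inf_le_left))
  obtain ⟨M, hM, -⟩ := S.exists_M (S.ND Wa) (norm_St2 S.t2 a) ((S.WD Wa).trans (normG _)) fun h => S.D_nle ac Wa ((normG _).trans h)
  exact ⟨M, hM⟩

theorem caseY1 (hp : p.Prime) (hπ : ¬ O[{p}](W) ≤ C1[t]) (h : N[O[{p}](W)] ≤ St G c)
    (h1 : ∀ q, q.Prime → q ≠ p → O[{q}](W) ≤ C1[t]) : False := by
  have Y1 := S.Y_ne hπ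
  have pd := S.dvd_of_pi hp hπ
  have p2 := S.ne_two hp pd
  have hY : C[O[{p}](W)] ≤ St G c := (C_le_N _).trans h
  obtain ⟨M₀, h0⟩ := S.exists_inM
  obtain ⟨M, hM, hm⟩ := exists_max_of (InM t c W) (fun M => pp p #M) h0
  obtain ⟨N₁, hN⟩ := S.exists_bot hM
  obtain ⟨x, hx, xc⟩ := S.bot_x hM hN
  have hlt := S.lt_of_A xc (S.bot_W hM hN hx.1) hp pd (S.A_le xc (S.bot_W hM hN hx.1) (inf_le_right.trans hY))
    (le_C1_of_F S.t2 (odd_of_le S.oW (O_le _ _)) (S.tY _) (F_le_of_O fun r hr => by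
      by_cases rp : r = p
      · rw [rp, (O_pig {p} _).eq_bot ((O_pig _ _).of_le (O_le _ _))]; exact bot_le
      · exact (O_le_of_normal _ (O_le _ _) (O_norm _ _)).trans (h1 r hr rp)))
  obtain ⟨P, hP, tP, YP⟩ := (S.iM hM).syl hp p2 ((O_le _ _).trans hM.le) (O_pig _ _) (S.tY _)
  have zj := (S.iM hM).zj_step hp p2 hP tP (le_C1_of_F S.t2 (odd_of_le (odd_O M) (O_le _ _))
    (normO _ (zp_le (S.tO hM)) (mem_zpowers t)) (by
      rw [F_O]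
      refine ((F_nil _).of_le (O_le _ _)).le_of_O fun r hr hd => ?_
      have rp : r ≠ p := fun e => (O_pig {p}ᶜ _) r hr hd e
      have nR : M ≤ N[O[{r}](O[{p}ᶜ](𝓕 M))] := normO _ (S.nOF hM _)
      have oR := odd_of_le (S.oOF hM {p}ᶜ) (O_le {r} _)
      refine le_C1_of_tc S.t2 oR (nR hM.mem) ((le_inf (S.tc_le_W hM (le_inf ((O_le _ _).trans (S.OF_le hM _))
        (((O_le _ _).trans (S.X_cent hM p)).trans hY)) oR) (tc_le _ _)).trans ((le_O inf_le_left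
          (normI (normG _) (hM.le.trans nR)) ((O_pig _ _).of_le inf_le_right)).trans (h1 r hr rp)))))
  have P1 : P ≠ ⊥ := fun e => Y1 (eq_bot_iff.2 (YP.trans e.le))
  obtain ⟨M', h', le⟩ := S.exists_M (S.N_ne_top' (ZJ_ne_bot hP.pi P1)
    (odd_of_pig2 ((hP.pi.of_le (ZJ_le _)).ne_compl p2))) (normZJ (zp_le tP) (mem_zpowers t))
    ((S.tcW.ge.trans (tc_mono _ (S.WO hM))).trans zj) fun e => xc (e (zj (mem_tc ⟨hN.le hx.1, hx.2⟩)))
  exact S.no_syl hM hp pd hlt hP.le tP (syl_top_of_max hp hP.pi le (by rw [Syl.card_pp hP hp]; exact hm M' h'))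

theorem caseY2 (hp : p.Prime) (hq : q.Prime) (pq : p ≠ q) (hπ : ¬ O[{p}](W) ≤ C1[t])
    (hπ' : ¬ O[{q}](W) ≤ C1[t]) (h : N[O[{p}](W)] ≤ St G c) (h' : N[O[{q}](W)] ≤ St G c) : False := by
  obtain ⟨M, hM⟩ := S.exists_inM
  obtain ⟨N₁, hN⟩ := S.exists_bot hM
  have nF := F_nil (𝓞 M)
  have oth : ∀ r : ℕ, ∃ s, s.Prime ∧ s ≠ r ∧ O[{s}](W) ≠ ⊥ ∧ C[O[{s}](W)] ≤ St G c := fun r => by
    by_cases e : p = r
    · exact ⟨q, hq, e ▸ pq.symm, S.Y_ne hπ', (C_le_N _).trans h'⟩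
    · exact ⟨p, hp, e, S.Y_ne hπ, (C_le_N _).trans h⟩
  have YX : ∀ {r s : ℕ}, s ≠ r → O[{s}](W) ≤ O[{r}ᶜ](𝓕 M) := fun {r s} e =>
    (S.Y_le hM s).trans (O_mono (single_sub e) _)
  have CK : ∀ r : ℕ, C[O[{r}ᶜ](𝓕 M)] ≤ Ker M c := fun r => by
    obtain ⟨s, hs, sr, s1, sc⟩ := oth r
    exact le_Ker (S.C_le hM (fun e => s1 (eq_bot_iff.2 ((YX sr).trans e.le))) (S.nOF hM _) (S.oOF hM _))
      (normC (S.nOF hM _)) ((centS (YX sr)).trans sc)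
  have FK : 𝓕 M ≤ Ker M c := F_le_of_O fun r hr => by
    rw [← O_F]; exact (O_cent_O _ _).trans (CK r)
  set π : Set ℕ := {r | r ∣ #(𝓕 M)}
  have πF : PiG π (𝓕 M) := pin_self _
  have pπ : p ∈ π := ((O_pig _ _).dvd (S.Y_ne hπ)).trans (cardS ((S.Y_le hM p).trans (O_le _ _)))
  have orb : ∀ x ∈ N₁, Orb M c (x • c) := fun x hx => orb_smul (O_le _ _ (hN.le hx)) c
  obtain ⟨x, hx, xc⟩ := S.bot_x hM hN
  set a := x • c
  have oa := orb x hx.1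
  have ob := oa.smul hM.mem
  have Wa := S.bot_W hM hN hx.1
  have KD : Ker M c ≤ 𝓓 a := le_inf (Ker_le_St oa) (Ker_le_St ob)
  have FD : 𝓕 M ≤ 𝓓 a := FK.trans KD
  have nO : 𝓓 a ≤ N[O[{2}ᶜ](𝓓 a)] := O_norm _ _
  set H := O[{2}ᶜ](𝓓 a) ⊔ 𝓕 M with hH
  have HD : H ≤ 𝓓 a := sup_le (O_le _ _) FD
  have sH : Sol H := sol_of_odd ((S.iD xc).sup FD (S.oF hM)).1
  set B := O[πᶜ](O[{2}ᶜ](𝓓 a)) with hB
  have nB : 𝓓 a ≤ N[B] := normO _ nO
  have BH : B ≤ H := (O_le _ _).trans le_sup_left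
  have eB : O[πᶜ](H) = B := le_antisymm (O_le_O _ le_sup_left ((O_pig _ _).le_of_idx (sup_le (normG _) (FD.trans nO))
    (O_le _ _) (by rw [relIndex_sup_l (FD.trans nO), compl_compl]; exact πF.relIndex _)))
    (O_le_of_normal _ le_sup_left (HD.trans nO))
  have Bc : B ≤ St G c := (O_mono (by rw [Set.compl_subset_compl]; rintro _ rfl; exact pπ) _).trans
    (S.A_le xc Wa (inf_le_right.trans ((C_le_N _).trans h)))
  have y1 : ∀ r : ℕ, r.Prime → r ∈ π → O[{r}ᶜ](𝓕 M) ≤ O[{r}ᶜ](H) := fun r hr hπ =>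
    le_O_of_local sH (O_pig {r} (𝓕 M)) ((O_le _ _).trans le_sup_right) ((O_le _ _).trans le_sup_right)
      (O_cent_O' _ _) (O_pig _ _) ((inf_le_right.trans
        (S.C_le hM (nF.O_ne_bot hr hπ (Set.mem_singleton r)) (S.nOF hM _) (S.oOF hM _))).trans (S.nOF hM _))
  have CM : ∀ r : ℕ, C[O[{r}ᶜ](𝓕 M)] ≤ M := fun r => (CK r).trans (Ker_le _ _)
  have nC : ∀ r : ℕ, M ≤ N[C[O[{r}ᶜ](𝓕 M)]] := fun r => normC (S.nOF hM _)
  have BF : B ⊓ 𝓕 M = ⊥ := (O_pig _ _).inf_bot' πF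
  have BC : ∀ r : ℕ, B ⊓ C[O[{r}ᶜ](𝓕 M)] ≤ ⊥ := fun r => by
    have l := inf_le_right.trans (CM r) (b := C[O[{r}ᶜ](𝓕 M)]) (a := B ⊓ _)
    refine (le_inf inf_le_left ((le_inf ((le_O inf_le_right (normI (((CK r).trans KD).trans nB) (normG _))
      ((O_pig {2}ᶜ _).of_le (inf_le_left.trans (O_le _ _)))).trans (O_le_of_normal _ (CM r) (nC r)))
      (cent_of_inf (l.trans (S.nF hM)) (FD.trans nB) inf_le_left le_rfl BF)).trans
      (C_F_le (sol_of_odd (odd_O M))))).trans BF.le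
  have HB : H ≤ (quo B).dom := HD.trans nB
  have IC : ∀ r : ℕ, r.Prime → r ∈ π → ∀ V, V ≤ H ÷ B → V ≤ C[O[{r}ᶜ](H ÷ B)] → V ≤ (H ⊓ C[O[{r}ᶜ](𝓕 M)]) ÷ B :=
    fun r hr hπ V h1 h2 => by
      rw [im_IC' (((O_le _ _).trans le_sup_right).trans HB) HB (by rwa [quo_ker])
        (by rw [quo_ker]; exact (πF.of_le (O_le _ _)).coprime (O_pig _ _)) (.inl (nF.of_le (O_le _ _)).sol)]
      exact le_inf h1 (h2.trans (centS ((im_mono (y1 r hr hπ)).trans (im_O_le _ _))))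
  have OR : ∀ r : ℕ, r.Prime → r ∈ π → O[{r}](H ÷ B) ≤ O[{r}](𝓕 M) ÷ B := fun r hr e => by
    have l := IC r hr e _ (O_le {r} _) (O_cent_O _ _)
    have nH : C[O[{r}ᶜ](𝓕 M)] ≤ N[H] := normY (((CK r).trans KD).trans nO) ((CM r).trans (S.nF hM))
    rw [← im_pre_inf l]
    refine im_mono ((le_O (π := {r}) (inf_le_right.trans inf_le_right) (normI (norm_pre (((CK r).trans KD).trans nB)
      (normO _ (im_norm nH))) (normI nH (normG _)))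
      (pig_of_im (φ := quo B) ((inf_le_right.trans inf_le_left).trans HB) ?_ ?_)).trans (nF.le_O
        (S.le_F hM ((O_le _ _).trans (CM r)) (normO _ (nC r)) (O_pig _ _).nil
          (odd_of_p (O_pig _ _) (ne_two_of_odd hr (S.oF hM) e))) (O_pig _ _)))
    · rw [quo_ker]
      exact (pig_bot _).of_le ((le_inf inf_le_right (inf_le_left.trans (inf_le_right.trans inf_le_right))).trans (BC r))
    · rw [im_pre_inf l]; exact O_pig _ _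
  have YH : O[{p}](𝓕 M) ≤ H := (O_le _ _).trans le_sup_right
  have c1 : O[{p}](𝓕 M) ÷ B ≤ C[O[{p}ᶜ](H ÷ B)] := cop_cent_F ((im_mono YH).trans (O_norm _ _))
    (((O_pig _ _).im _).coprime (O_pig _ _)) ((sH.im _).of_le (O_le _ _)) (cent_symm (by
      rw [F_O]
      refine ((F_nil _).of_le (O_le _ _)).le_of_O fun r hr hd => ?_
      have rp : r ≠ p := fun e => (O_pig {p}ᶜ _) r hr hd e
      refine le_trans ((F_nil _).O_mono _ (O_le _ _)) ?_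
      rw [O_F]
      by_cases e : r ∈ π
      · exact (OR r hr e).trans (im_cent ((O_mono (single_sub rp) _).trans (O_cent_O' _ _)))
      · refine le_trans (O_mono (show ({r} : Set ℕ) ⊆ πᶜ by rintro _ rfl; exact e) _) ?_
        rw [← eB, O_quo_O]; exact bot_le))
  have c2 : H ÷ B ≤ N[O[{p}](𝓕 M) ÷ B] := by
    rw [le_antisymm ((le_O (le_inf (im_mono YH) c1) ((IC p hp pπ _ inf_le_left inf_le_right).trans
      (im_norm ((inf_le_right.trans (CM p)).trans (S.nOF hM _)))) ((O_pig _ _).im _)).trans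
      (O_le_of_normal _ inf_le_left (normI (normG _) (normC (O_norm _ _))))) (OR p hp pπ)]
    exact O_norm _ _
  have c3 := norm_sup_ker HB (YH.trans HB) c2
  rw [quo_ker] at c3
  have sy : Syl p O[{p}](𝓕 M) (O[{p}](𝓕 M) ⊔ B) := (isProd_r (YH.trans HB)).hall (O_pig _ _)
    ((O_pig _ _).mono (by rw [Set.compl_subset_compl]; rintro _ rfl; exact pπ))
  obtain ⟨k, hk, kc⟩ := S.exists_K xc Wa
  exact kc ((sy.frattini hp (sup_le YH BH) c3).sup.ge.trans (sup_le (sup_le (((O_le _ _).trans FK).trans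
    (Ker_le_St (Orb.refl _ _))) Bc) ((le_inf (inf_le_right.trans (S.N_le hM (nF.O_ne_bot hp pπ (Set.mem_singleton p))
      (S.nOF hM _) (S.oOF hM _))) (inf_le_left.trans HD)).trans (S.MD_le hM oa xc Wa))) (mem_sup_left hk.1))

theorem false : False := by
  obtain ⟨p, hp, hπ⟩ := S.exists_pi
  by_cases h : ∀ p : ℕ, p.Prime → ¬ O[{p}](W) ≤ C1[t] → N[O[{p}](W)] ≤ St G c
  · by_cases h1 : ∀ q, q.Prime → q ≠ p → O[{q}](W) ≤ C1[t]
    · exact S.caseY1 hp hπ (h p hp hπ) h1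
    · push Not at h1
      obtain ⟨q, hq, qp, hπ'⟩ := h1
      exact S.caseY2 hp hq qp.symm hπ hπ' (h p hp hπ) (h q hq hπ')
  · push Not at h
    obtain ⟨p, hp, hπ, h⟩ := h
    exact S.caseX hp hπ h

end Ctx

theorem MC.g1 (S : MC Ω Z) : G1 Ω Z := by
  by_contra hn
  obtain ⟨t, c, W, h⟩ := A0.exists_ctx ⟨S, hn⟩
  exact h.false

end Cfsg.Agent.ZD
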