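import Cfsg.Agent.ZD.C2def

/-! # Subgroups of Bender type: `X = ⟨Z ∩ X⟩` acts on the orbit of `a` with `Fix1` -/

set_option autoImplicit false
set_option linter.unusedVariables false
set_option linter.unusedSectionVars false

namespace Cfsg.Agent.ZD
open Cfsg Cfsg.Agent.BG Cfsg.Agent.Inv Cfsg.Agent.SE MulAction Subgroup PHom

structure BT {G Ω : Type*} [Group G] [MulAction G Ω] (Z : Set G) (X : Subgroup G) (a : Ω) : Prop
    extends ZF Ω Z where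
  gen : XZ Z X = X
  four : FourZ Z (X ⊓ St G a)
  nle : ¬ X ≤ St G a
  fix1 : Fix1 (Pm X a) (orbit X a)

variable {G Ω : Type*} [Group G] [Finite G] [MulAction G Ω] {Z : Set G}
variable {L M N X Y P : Subgroup G} {a b c d : Ω} {t s s' u k g w x : G} {p : ℕ}

theorem MC.toBT (S : MC Ω Z) (hM : M ≠ ⊤) (h4 : FourZ Z (M ⊓ St G a)) (hn : ¬ M ≤ St G a) : BT Z (XZ Z M) a := by
  obtain ⟨s, hs, -, -, sZ, -⟩ := id h4
  exact ⟨S.toZF, XZ_XZ _ _, h4.xz, S.XZ_nle sZ hs.1 hs.2 hn, S.ih M hM a h4 hn⟩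

theorem ZW.norm_orb (S : ZW Ω Z) (hg : g ∈ N[X]) (h : Orb X a (g • a)) (hb : Orb X a b) : Orb X a (g • b) := by
  obtain ⟨x, hx, rfl⟩ := hb
  exact h.trans ⟨g * x * g⁻¹, conj_mem hg hx, by rw [mul_smul, mul_smul, inv_smul_smul]⟩

theorem normKer (hg : g ∈ N[X]) (h : Orb X a (g • a)) : g ∈ N[Ker X a] := mem_N_of fun k hk =>
  ⟨conj_mem hg hk.1, fun b hb => by
    obtain ⟨x, hx, rfl⟩ := h.symm.trans hb
    have := hk.2 _ (orb_smul (conj_mem' hg hx) a)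
    rw [mul_smul, mul_smul] at this
    rw [mul_smul, mul_smul, this, smul_inv_smul]⟩

namespace BT
variable (S : BT Z X a)
include S

local notation "π" => PHom.app (pm X a)

theorem exists_ne (hb : Orb X a b) : ∃ c, Orb X a c ∧ c ≠ b := by
  obtain ⟨c, h1, h2⟩ := exists_orb_ne (not_le_St_orb S.nle hb)
  exact ⟨c, hb.trans h1, h2⟩

theorem Ker_le2 : ∃ b c : Ω, b ≠ c ∧ Ker X a ≤ St2 G b c := by
  obtain ⟨c, h1, h2⟩ := S.exists_ne (Orb.refl X a)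
  exact ⟨c, a, h2, le_inf (Ker_le_St h1) (Ker_le_St (Orb.refl X a))⟩

theorem not_mem_Ker (hs : s ∈ Z) : s ∉ Ker X a := by
  obtain ⟨b, c, h1, h2⟩ := S.Ker_le2
  exact S.not_mem hs h1 h2

theorem isnK (hs : s ∈ Z) (h : s ∈ X) : Isn (Ker X a) s := by
  obtain ⟨b, c, h1, h2⟩ := S.Ker_le2
  exact S.isn hs h1 h2 (Ker_norm X a h)

theorem pm_ord (hs : s ∈ Z) (h : s ∈ X) : orderOf (π s) = 2 :=
  ord2_iff.2 ⟨by rw [← app_mul h h, S.sq hs, app_one], fun e => S.not_mem_Ker hs ((pm_eq_one h).1 e)⟩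

theorem iv (hb : Orb X a b) : ∃ s, s ∈ Iv Z X b := by
  obtain ⟨s, hs, -, -, sZ, -⟩ := S.four
  exact S.exists_iv sZ hs.1 hs.2 hb

theorem orb (hs : s ∈ Z) (h : s ∈ X) (hc : s • c = c) : Orb X a c := by
  obtain ⟨u, hu⟩ := S.iv (Orb.refl X a)
  exact S.orb_of_inv hu.2.1 hu.1 hu.2.2 hs h hc

theorem top_nle (c : orbit X a) : ¬ (⊤ : Subgroup (Pm X a)) ≤ St _ c := fun e => by
  obtain ⟨d, h1, h2⟩ := S.exists_ne (orb_coe c)
  obtain ⟨g, hg⟩ := Fix1.pm_tr c (pt h1)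
  exact h2 (congrArg Subtype.val (hg.symm.trans (e (mem_top g))))

theorem lift {x : Pm X a} (hx : orderOf x = 2) : ∃ s ∈ X, s ∈ Z ∧ π s = x := by
  obtain ⟨s, hs⟩ := S.iv (Orb.refl X a)
  obtain ⟨m, -, rfl⟩ := S.fix1.conj_in (S.pm_ord hs.2.1 hs.1) (mem_top _) (c := pt (Orb.refl X a))
    ((pm_smul_eq hs.1).2 hs.2.2) (S.top_nle _) hx (mem_top _)
  obtain ⟨g, hg, rfl⟩ := pm_surj m
  exact ⟨_, conj_mem (normG _ hg) hs.1, S.conj hs.2.1 g, app_conj hg hs.1⟩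

theorem lift_fix {x : Pm X a} (hx : orderOf x = 2) (hb : Orb X a b) (h : x • pt hb = pt hb) :
    ∃ s ∈ Iv Z X b, π s = x := by
  obtain ⟨s, h1, h2, rfl⟩ := S.lift hx
  exact ⟨s, ⟨h1, h2, (pm_smul_eq h1).1 h⟩, rfl⟩

theorem four4 : Four (Pm X a) := by
  obtain ⟨x, hx, y, hy, h1, h2, h3, h5⟩ := S.four
  have e1 := ord2_iff.1 (S.pm_ord h1 hx.1)
  have e2 := ord2_iff.1 (S.pm_ord h2 hy.1)
  refine ⟨_, _, e1.2, e2.2, fun e => (ord2_iff.1 (S.pm_ord (S.mul h1 h2 h3 h5) (mul_mem hx.1 hy.1))).2 ?_, e1.1, e2.1,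
    by rw [← app_mul hx.1 hy.1, ← app_mul hy.1 hx.1, h5]⟩
  rw [app_mul hx.1 hy.1, e, e2.1]

theorem r1 (hb : Orb X a b) (ht : t ∈ Z) (htX : t ∈ X) (tb : t • b ≠ b) :
    ∃ Q, R1 (Pm X a) (orbit X a) (pt hb) (π t) Q := by
  obtain ⟨x, y, a1, a2, a3, a4, a5, a6⟩ := S.four4
  obtain ⟨s, hs⟩ := S.iv hb
  have o : ∀ b c : orbit X a, Orb (⊤ : Subgroup (Pm X a)) b c := fun b c => (Fix1.pm_tr b c).imp fun _ e => ⟨trivial, e⟩
  have fs : π s • pt hb = pt hb := (pm_smul_eq hs.1).2 hs.2.2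
  obtain ⟨Q, hQ⟩ := bender S.fix1 ⊤ (pt hb) (S.fix1.four_St (S.pm_ord hs.2.1 hs.1) (mem_top _) fs (S.top_nle _)
    ⟨x, trivial, y, trivial, ord2_iff.2 ⟨a4, a1⟩, ord2_iff.2 ⟨a5, a2⟩, a3, a6⟩ (Orb.refl _ _)) (S.top_nle _)
  have n : π t • pt hb ≠ pt hb := fun e => tb ((pm_smul_eq htX).1 e)
  obtain ⟨t₀, e, R⟩ := exists_R1 (Q := Q) n (fun c => Fix1.pm_tr _ c) (hQ.le.trans inf_le_right)
    (le_trans (le_inf le_top le_rfl) hQ.norm) (fun c hc => hQ.trans _ c (o _ _) (o _ _) n hc)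
    (fun u hu e => eq_of_smul_eq_smul (α := orbit X a) fun c => by
      rw [one_smul]; exact (hQ.reg u hu _ (o _ _) n e).2 c (o _ _))
    (even_iff_two_dvd.2 (S.pm_ord hs.2.1 hs.1 ▸ orderOf_dvd (mem_stabilizer_iff.2 fs))) (S.fix1.odd_St2 n.symm)
  have e0 := ord2_iff.1 (S.pm_ord ht htX)
  exact ⟨Q, R.1, e0.1, e0.2, n, R.le, R.conj_mem, e ▸ R.inf_eq_bot, e ▸ R.sup_eq, R.even_card, e ▸ R.odd_card⟩

theorem exists_move (hb : Orb X a b) : ∃ t ∈ X, t ∈ Z ∧ t • b ≠ b := by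
  obtain ⟨c, h1, h2⟩ := S.exists_ne hb
  obtain ⟨s, hs⟩ := S.iv h1
  exact ⟨s, hs.1, hs.2.1, S.ne_smul hs.2.1 hs.2.2 h2.symm⟩

theorem tr2 {b c d e : Ω} (hb : Orb X a b) (hc : Orb X a c) (hd : Orb X a d) (he : Orb X a e) (n1 : b ≠ c)
    (n2 : d ≠ e) : ∃ m ∈ X, m • b = d ∧ m • c = e := by
  obtain ⟨t, h1, h2, h3⟩ := S.exists_move hb
  obtain ⟨Q, R⟩ := S.r1 hb h2 h1 h3
  obtain ⟨g, g1, g2⟩ := R.tr2 (b := pt hb) (c := pt hc) (d := pt hd) (e := pt he)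
    (fun e => n1 (congrArg Subtype.val e)) fun e => n2 (congrArg Subtype.val e)
  obtain ⟨m, hm, rfl⟩ := pm_surj g
  exact ⟨m, hm, (pm_smul_eq hm).1 g1, (pm_smul_eq hm).1 g2⟩

theorem comm0 (hs : s ∈ Iv Z X b) (hs' : s' ∈ Iv Z X b) : π s * π s' = π s' * π s := by
  have hb := S.orb hs.2.1 hs.1 hs.2.2
  obtain ⟨t, h1, h2, h3⟩ := S.exists_move hb
  obtain ⟨Q, R⟩ := S.r1 hb h2 h1 h3
  exact R.central S.four4 (mul_self_of_ord (S.pm_ord hs.2.1 hs.1)) ((pm_smul_eq hs.1).2 hs.2.2)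
    (R.inv_Q (mul_self_of_ord (S.pm_ord hs'.2.1 hs'.1)) ((pm_smul_eq hs'.1).2 hs'.2.2))

theorem comm1 (hs : s ∈ Iv Z X b) (hs' : s' ∈ Iv Z X b) : (s * s') * (s * s') ∈ Ker X a := by
  have m := mul_mem hs.1 hs'.1
  rw [← pm_eq_one (mul_mem m m), app_mul m m, app_mul hs.1 hs'.1, mul_assoc, ← mul_assoc _ (π s), ← S.comm0 hs hs',
    mul_assoc, mul_self_of_ord (S.pm_ord hs'.2.1 hs'.1), mul_one, mul_self_of_ord (S.pm_ord hs.2.1 hs.1)]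

/-- an element of `⟨s u⟩` in the kernel has odd order and lies in the core of the kernel -/
theorem mem_OK (hs : s ∈ Z) (h1 : s ∈ X) (hu : u ∈ Z) (hx : x ∈ zpowers (s * u)) (h : x ∈ Ker X a) :
    x ∈ O[{2}ᶜ](Ker X a) := by
  have i : s * x * s⁻¹ = x⁻¹ := by
    obtain ⟨n, rfl⟩ := mem_zpowers_iff.1 hx
    rw [← conj_zpow, inverts_left (S.sq hs) (S.sq hu), inv_zpow]
  refine (S.isnK hs h1).mem_O h (Nat.not_even_iff_odd.1 fun e => ?_) i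
  obtain ⟨w, w1, w2⟩ := exists_ord_two (X := zpowers x) (by rw [card_zpowers']; exact Nat.not_odd_iff_even.2 e)
  obtain ⟨v, v1, v2, -⟩ := S.even_mul' hs hu (e.trans_dvd (orderOf_dvd_of_mem_zpowers hx))
  have p : ∀ {x : G}, orderOf x = 2 → x ^ 2 = 1 := fun h => h ▸ pow_orderOf_eq_one _
  have := Comp.eq_of_sq_of_cyclic (cyc_zpowers (s * u)) v1 (zp_le hx w1) (S.ne_one v2) (ne_one_of_ord2 w2)
    (p (S.ord v2)) (p w2)
  exact S.not_mem_Ker v2 (this ▸ zp_le h w1)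

theorem comm (hs : s ∈ Iv Z X b) (hs' : s' ∈ Iv Z X b) : (s * s') * (s * s') ∈ O[{2}ᶜ](Ker X a) :=
  S.mem_OK hs.2.1 hs.1 hs'.2.1 (mul_mem (mem_zpowers _) (mem_zpowers _)) (S.comm1 hs hs')

/-- modulo the core of the kernel, `1 ∪ Iv` is closed under products -/
theorem mul_cases (hs : s ∈ Iv Z X b) (hs' : s' ∈ Iv Z X b) :
    s * s' ∈ O[{2}ᶜ](Ker X a) ∨ ∃ v ∈ Iv Z X b, v⁻¹ * (s * s') ∈ O[{2}ᶜ](Ker X a) := by
  have c := S.comm hs hs'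
  rcases Nat.even_or_odd (orderOf (s * s')) with e | e
  · obtain ⟨v, v1, v2, -⟩ := S.even_mul' hs.2.1 hs'.2.1 e
    have m : s * s' ∈ X ⊓ St G b := mul_mem ⟨hs.1, hs.2.2⟩ ⟨hs'.1, hs'.2.2⟩
    refine .inr ⟨v, ⟨(zp_le m v1).1, v2, (zp_le m v1).2⟩, ?_⟩
    obtain ⟨n, rfl⟩ := mem_powers_iff_mem_zpowers.2 v1
    rcases Nat.even_or_odd' n with ⟨j, rfl | rfl⟩
    · have := pow_mem c j
      rw [← pow_two, ← pow_mul] at this
      exact absurd (O_le _ _ this) (S.not_mem_Ker v2)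
    · have := inv_mem (pow_mem c j)
      rw [← pow_two, ← pow_mul] at this
      change ((s * s') ^ (2 * j + 1))⁻¹ * (s * s') ∈ _
      rwa [pow_succ', mul_inv_rev, inv_mul_cancel_right]
  · exact .inl (mem_of_sq_mem e c)

theorem inv_ker (ht : t ∈ Iv Z X c) (hkc : k • c = c) (ho : Odd (orderOf k)) (hi : t * k * t⁻¹ = k⁻¹)
    (h : t * k ∈ X) : k ∈ O[{2}ᶜ](Ker X a) := by
  have := S.comm ht ⟨h, (S.mul_inv ht.2.1 ho hi).1, by rw [mul_smul, hkc, ht.2.2]⟩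
  rw [← mul_assoc t t, S.sq ht.2.1, one_mul] at this
  exact mem_of_sq_mem ho this

/-- `W₀ = O(N) ⟨Z ∩ X_a⟩` -/
theorem exists_W : ∃ W : Subgroup G, W ≤ X ⊓ St G a ∧ (∀ g ∈ N[X], g • a = a → g ∈ N[W]) ∧ O[{2}ᶜ](Ker X a) ≤ W ∧
    (∀ s ∈ Iv Z X a, s ∈ W) ∧ (∀ w ∈ W, orderOf w = 2 → w ∈ Z) ∧ Abelem 2 (W ÷ O[{2}ᶜ](Ker X a)) := by
  set O := O[{2}ᶜ](Ker X a)
  have nO : X ≤ N[O] := normO _ (Ker_norm X a)
  have OX : O ≤ X ⊓ St G a := (O_le _ _).trans (le_inf (Ker_le _ _) (Ker_le_St (Orb.refl _ _)))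
  have cl : ∀ s s' : G, (s = 1 ∨ s ∈ Iv Z X a) → (s' = 1 ∨ s' ∈ Iv Z X a) →
      ∃ v, (v = 1 ∨ v ∈ Iv Z X a) ∧ v⁻¹ * (s * s') ∈ O := fun s s' h h' => by
    rcases h with rfl | h
    · exact ⟨s', h', by simp⟩
    rcases h' with rfl | h'
    · exact ⟨s, .inr h, by simp⟩
    rcases S.mul_cases h h' with e | ⟨v, hv, e⟩
    exacts [⟨1, .inl rfl, by simpa using e⟩, ⟨v, .inr hv, e⟩]
  have mem : ∀ s : G, (s = 1 ∨ s ∈ Iv Z X a) → s ∈ X ⊓ St G a ∧ s * s = 1 := fun s h => by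
    rcases h with rfl | h
    exacts [⟨one_mem _, one_mul _⟩, ⟨⟨h.1, h.2.2⟩, S.sq h.2.1⟩]
  let W : Subgroup G :=
    { carrier := {x | ∃ s, (s = 1 ∨ s ∈ Iv Z X a) ∧ s⁻¹ * x ∈ O}
      one_mem' := ⟨1, .inl rfl, by simp⟩
      inv_mem' := fun {x} ⟨s, hs, h⟩ => ⟨s, hs, by
        have := conj_mem (nO (mem s hs).1.1) (inv_mem h)
        rwa [show s * (s⁻¹ * x)⁻¹ * s⁻¹ = (s * s) * (s⁻¹ * x⁻¹) by group, (mem s hs).2, one_mul] at this⟩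
      mul_mem' := fun {x y} ⟨s, hs, h⟩ ⟨s', hs', h'⟩ => by
        obtain ⟨v, hv, e⟩ := cl s s' hs hs'
        refine ⟨v, hv, ?_⟩
        have := mul_mem (mul_mem e (conj_mem' (nO (mem s' hs').1.1) h)) h'
        convert this using 1; group }
  have WX : W ≤ X ⊓ St G a := fun x ⟨s, hs, h⟩ => by simpa using mul_mem (mem s hs).1 (OX h)
  have p2 : ∀ y ∈ W ÷ O, y ^ 2 = 1 := fun y hy => by
    obtain ⟨x, ⟨s, hs, h⟩, rfl⟩ := (mem_im' ((WX.trans inf_le_left).trans nO)).1 hy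
    have n1 := nO (mem s hs).1.1
    have n2 := normG _ h
    have : (quo O).app (s⁻¹ * x) = 1 := (mem_ker.1 (by rw [quo_ker]; exact h)).2
    rw [show x = s * (s⁻¹ * x) by group, app_mul n1 n2, this, mul_one, pow_two, ← app_mul n1 n1, (mem s hs).2, app_one]
  refine ⟨W, WX, fun g hg ga => mem_N_of fun x ⟨s, hs, h⟩ => ⟨g * s * g⁻¹, hs.imp (fun e => by simp [e]) fun e =>
    ⟨conj_mem hg e.1, S.conj e.2.1 g, ga ▸ conj_smul_fix e.2.2 g⟩, ?_⟩, fun x hx => ⟨1, .inl rfl, by simpa using hx⟩,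
    fun s hs => ⟨s, .inr hs, by simp⟩, fun w ⟨s, hs, h⟩ hw => ?_, le_C_iff.2 fun x hx y hy => ?_, p2⟩
  · have := conj_mem (normO {2}ᶜ (zp_le (normKer hg (ga.symm ▸ Orb.refl _ _))) (mem_zpowers g)) h
    convert this using 1; group
  · rcases hs with rfl | hs
    · exact absurd hw (not_ord_two (odd_O _) (by simpa using h))
    have := (S.mul_inv hs.2.1 (odd_ord_of_mem (odd_O _) h) (by
      rw [S.inv hs.2.1]; have := inverts_left (S.sq hs.2.1) (mul_self_of_ord hw); rwa [S.inv hs.2.1] at this)).1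
    rwa [mul_inv_cancel_left] at this
  · have h1 := p2 _ (mul_mem hx hy)
    have h2 := p2 _ hx
    have h3 := p2 _ hy
    rw [pow_two] at h1 h2 h3
    calc x * y = (x * y * (x * y))⁻¹ * (x * y) := by rw [h1]; group
      _ = (y * y)⁻¹ * (y * (x * x)⁻¹ * x) := by group
      _ = y * x := by rw [h2, h3]; group

theorem lp_of (ht : t ∈ Z) (htX : t ∈ X) (ta : t • a ≠ a) {σ : Pm X a} (h1 : orderOf σ = 2)
    (h2 : σ • pt (Orb.refl X a) = pt (Orb.refl X a)) (e : π t * σ * π t = σ⁻¹ * π t * σ) : LP Z X a t := by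
  obtain ⟨s, hs, rfl⟩ := S.lift_fix h1 _ h2
  obtain ⟨c, hc⟩ := S.ex ht
  have oc := S.orb ht htX hc
  have ot := S.pm_ord ht htX
  have f1 : (π t * π s * π t) • π s • pt oc = π s • pt oc := by
    rw [e, mul_smul, mul_smul, smul_smul_of_ord h1, (pm_smul_eq (c := pt oc) (d := pt oc) htX).2 hc, inv_of_ord h1]
  have f2 : (π t * π s * π t) • π t • pt (Orb.refl X a) = π t • pt (Orb.refl X a) := by
    rw [mul_smul, mul_smul, smul_smul_of_ord ot, h2]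
  have := S.fix1.uniq (by have := ord_conj h1 (π t); rwa [inv_of_ord ot] at this) f1 f2
  refine ⟨s, hs, c, hc, ?_⟩
  have := congrArg Subtype.val this
  rwa [pm_smul hs.1, pm_smul htX] at this

/-- either the line property holds or there is an elementary abelian group of order at least 8 in `Z ∪ 1` -/
theorem lp_or (ht : t ∈ Z) (htX : t ∈ X) (ta : t • a ≠ a) :
    LP Z X a t ∨ ∃ J ≤ X ⊓ St G a, Abelem 2 J ∧ 8 ≤ #J ∧ ∀ j ∈ J, j ≠ 1 → j ∈ Z := by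
  obtain ⟨Q, R⟩ := S.r1 (Orb.refl X a) ht htX ta
  have h4 := S.four4
  obtain ⟨n, n2, hn⟩ := R.card_Q0 h4
  by_cases e : n = 2
  · subst e
    have := R.card_K' h4
    obtain ⟨k, hk, k3⟩ := cauchy (A := R.K h4) Nat.prime_three (by rw [show #(R.K h4) = 3 by omega])
    obtain ⟨σ, h1, h2, h3⟩ := R.three hk.1 hk.2 k3
    exact .inl (S.lp_of ht htX ta h1 h2 h3)
  obtain ⟨W, W1, -, W3, W4, W5, W6⟩ := S.exists_W
  obtain ⟨J, hJ⟩ := syl_exists Nat.prime_two W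
  have nO : W ≤ N[O[{2}ᶜ](Ker X a)] := (W1.trans inf_le_left).trans (normO _ (Ker_norm X a))
  have JO : J ⊓ O[{2}ᶜ](Ker X a) = ⊥ := hJ.pi.inf_bot (O_pig _ _)
  have pw : ∀ j ∈ J, j ^ 2 = 1 := fun j hj => JO.le ⟨pow_mem hj 2, by
    rw [← quo_ker O[{2}ᶜ](Ker X a)]
    exact mem_ker.2 ⟨pow_mem (nO (hJ.le hj)) 2, by
      rw [app_pow (nO (hJ.le hj))]; exact W6.pow _ (app_mem_im (hJ.le hj) (nO (hJ.le hj)))⟩⟩
  refine .inr ⟨J, hJ.le.trans W1, ⟨abel_iff_der.2 (eq_bot_iff.2 ((le_inf (der_le J) ((derS hJ.le).trans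
    ((quo_abel_iff nO).1 W6.abel))).trans JO.le)), pw⟩, ?_, fun j hj j1 =>
      W5 j (hJ.le hj) (orderOf_of_pow Nat.prime_two (pw j hj) j1)⟩
  have WX : W ≤ (pm X a).dom := W1.trans inf_le_left
  have le : R.Q0 h4 ≤ (pm X a).im W := fun x hx => by
    by_cases x1 : x = 1
    · exact x1 ▸ one_mem _
    obtain ⟨s, hs, rfl⟩ := S.lift_fix (ord2_iff.2 ⟨hx.2, x1⟩) _ hx.1
    exact app_mem_im (W4 s hs) hs.1
  have h1 := card_le_pp Nat.prime_two le (pig_of_pg Nat.prime_two (R.pQ0 h4))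
  rw [← Syl.card_pp (hJ.im WX) Nat.prime_two, hn] at h1
  refine le_trans ?_ (h1.trans (Nat.le_of_dvd (card_pos _) (card_im_dvd _)))
  exact (Nat.pow_le_pow_right (by decide) (by omega) : 2 ^ 3 ≤ 2 ^ n)

end BT

end Cfsg.Agent.ZD
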