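import Cfsg.Agent.ZD.P1
import Cfsg.Agent.ZD.Bt

/-! # Part A, first file: step 0 -/

set_option autoImplicit false
set_option linter.unusedVariables false
set_option linter.unusedSectionVars false

namespace Cfsg.Agent.ZD
open Cfsg Cfsg.Agent.BG Cfsg.Agent.Inv Cfsg.Agent.SE MulAction Subgroup PHom

variable {G Ω : Type*} [Group G] [Finite G] [MulAction G Ω] {Z : Set G}
variable {A B D H K L M M₁ N P Q R T U W X Y : Subgroup G} {a b c d : Ω} {t s s' u k g w f x y z : G} {p q r : ℕ}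
  {π : Set ℕ}

namespace MC
variable (S : MC Ω Z)
include S

theorem eq_one (h : ∀ c : Ω, g • c = c) : g = 1 := by
  haveI := S.simple; haveI := S.nt
  obtain ⟨a, b, hab⟩ := exists_pair_ne Ω
  have hn : (Ker (⊤ : Subgroup G) a).Normal := normal_iff.2 (Ker_norm _ _)
  rcases hn.eq_bot_or_eq_top with e | e
  · have : g ∈ Ker (⊤ : Subgroup G) a := ⟨trivial, fun b _ => h b⟩
    rwa [e] at this
  · obtain ⟨x, hx⟩ := S.tr a b
    have : x ∈ Ker (⊤ : Subgroup G) a := by rw [e]; trivial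
    exact absurd ((this.2 a (Orb.refl _ _)).symm.trans hx) hab

theorem orb (a b : Ω) : Orb (⊤ : Subgroup G) a b := by
  obtain ⟨g, hg⟩ := S.tr a b; exact ⟨g, trivial, hg⟩

theorem not_le (a : Ω) : ¬ (⊤ : Subgroup G) ≤ St G a := fun h => by
  haveI := S.nt
  obtain ⟨b, hb⟩ := exists_ne a
  obtain ⟨g, hg⟩ := S.tr a b
  exact hb (hg.symm.trans (h (mem_top g)))

theorem exists_inv : ∃ (t : G) (c : Ω), t ∈ Z ∧ t • c = c := by
  obtain ⟨t, -, -, -, ht, -⟩ := S.four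
  obtain ⟨c, hc⟩ := S.ex ht
  exact ⟨t, c, ht, hc⟩

theorem iv (a : Ω) : ∃ s, s ∈ Iv Z (⊤ : Subgroup G) a := by
  obtain ⟨t, c, ht, hc⟩ := S.exists_inv
  exact S.exists_iv ht (mem_top _) hc (S.orb c a)

theorem four' (a : Ω) : FourZ Z ((⊤ : Subgroup G) ⊓ St G a) := by
  obtain ⟨t, c, ht, hc⟩ := S.exists_inv
  exact S.four_St ht (mem_top _) hc (S.not_le c) S.four (S.orb c a)

theorem swap (h : a ≠ b) : ∃ w : G, w ∈ Z ∧ w • a = b := by
  obtain ⟨t, c, ht, hc⟩ := S.exists_inv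
  obtain ⟨w, -, hw⟩ := S.swap_in ht (mem_top _) hc (S.orb c a) (S.orb c b) h
  exact ⟨w, hw⟩

theorem nI_eq (a b : Ω) : nI Z (⊤ : Subgroup G) a = nI Z (⊤ : Subgroup G) b := S.nI_orb (S.orb a b)

theorem kc_D (ht : t ∈ Z) (ha : t • a ≠ a) (b : Ω) :
    kc t O[{2}ᶜ](St2 G a (t • a)) = nI Z (⊤ : Subgroup G) b := by
  obtain ⟨s, hs⟩ := S.iv a
  have := S.kc_eq_nI ht (mem_top _) ha hs
  rwa [top_inf_eq, S.nI_eq a b] at this

theorem card_D (ht : t ∈ Z) (hc : t • c = c) (h : a ≠ c) :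
    #(St2 G a c) = #(St2 G a (t • a)) := by
  have := S.card_St2 ht (mem_top _) hc (S.orb c a) h
  rwa [top_inf_eq, top_inf_eq] at this

theorem conjZ (ht : t ∈ Z) (hu : u ∈ Z) : ∃ g : G, g * t * g⁻¹ = u := by
  obtain ⟨c, hc⟩ := S.ex ht
  obtain ⟨g, -, hg⟩ := S.conj_in ht (mem_top _) hc (S.not_le c) hu (mem_top _)
  exact ⟨g, hg⟩

theorem N_ne_top (h1 : U ≠ ⊥) (h2 : U ≠ ⊤) : N[U] ≠ ⊤ := fun e => by
  haveI := S.simple
  rcases (normal_iff.2 e.ge : U.Normal).eq_bot_or_eq_top with e | e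
  exacts [h1 e, h2 e]

theorem ne_top_of_odd (h : Odd #U) : U ≠ ⊤ := by
  rintro rfl
  obtain ⟨t, c, ht, hc⟩ := S.exists_inv
  have := odd_ord_of_mem h (mem_top t)
  rw [S.ord ht] at this; exact absurd this (by decide)

theorem N_ne_top' (h1 : U ≠ ⊥) (h2 : Odd #U) : N[U] ≠ ⊤ := S.N_ne_top h1 (S.ne_top_of_odd h2)

/-- Step 0 -/
theorem g1_of_iv (hL : L ≠ ⊤) (hLa : ¬ L ≤ St G a) (h : ∀ s ∈ Iv Z (⊤ : Subgroup G) a, s ∈ L) : G1 Ω Z := by
  haveI := S.nt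
  obtain ⟨x, hx, y, hy, ox, oy, xy, cxy⟩ := S.four' a
  have xI : x ∈ Iv Z (⊤ : Subgroup G) a := ⟨trivial, ox, hx.2⟩
  have yI : y ∈ Iv Z (⊤ : Subgroup G) a := ⟨trivial, oy, hy.2⟩
  have h4 : FourZ Z (L ⊓ St G a) := ⟨x, ⟨h x xI, hx.2⟩, y, ⟨h y yI, hy.2⟩, ox, oy, xy, cxy⟩
  have hQ := S.toBT hL h4 hLa
  set T : Subgroup G := closure {z | ∃ s ∈ Iv Z (⊤ : Subgroup G) a, ∃ s' ∈ Iv Z (⊤ : Subgroup G) a,
    z = (s * s') * (s * s')} with hT
  have TO : T ≤ O[{2}ᶜ](Ker (XZ Z L) a) := (closure_le _).2 (by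
    rintro _ ⟨s, hs, s', hs', rfl⟩
    exact hQ.comm (b := a) ⟨mem_XZ (h s hs) hs.2.1, hs.2⟩ ⟨mem_XZ (h s' hs') hs'.2.1, hs'.2⟩)
  have TK := TO.trans (O_le _ _)
  have oT : Odd #T := odd_of_le (odd_O _) TO
  have cI : ∀ g ∈ St G a, ∀ s ∈ Iv Z (⊤ : Subgroup G) a, g * s * g⁻¹ ∈ Iv Z (⊤ : Subgroup G) a :=
    fun g hg s hs => ⟨trivial, S.conj hs.2.1 g, by
      rw [mul_smul, mul_smul, (inv_mem hg : g⁻¹ • a = a), hs.2.2, hg]⟩
  have nT : St G a ≤ N[T] := fun g hg => mem_N_of_cj_le (by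
    rw [hT, cj, MonoidHom.map_closure, closure_le]
    rintro _ ⟨_, ⟨s, hs, s', hs', rfl⟩, rfl⟩
    exact subset_closure ⟨_, cI g hg s hs, _, cI g hg s' hs', by simp [mul_assoc]⟩)
  have Ta : T ≤ St G a := TK.trans (Ker_le_St (Orb.refl _ _))
  -- counting
  have xa : C1[x] ≤ St G a := S.C1_le ox hx.2
  set m := (T ⊔ C1[x]).relIndex (St G a) with hm
  have e1 : nI Z (⊤ : Subgroup G) a = m * kc x T := by
    have h1 := S.card_St ox (mem_top _) hx.2 (S.not_le a)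
    rw [top_inf_eq, top_inf_eq] at h1
    have h2 := card_mul_relIndex (sup_le Ta xa)
    have h3 := (isProd_l (xa.trans nT)).card
    have h5 := kc_mul (S.ord ox) oT (nT hx.2)
    rw [← hm] at h2
    have h6 : #(T ⊔ C1[x]) = kc x T * #C1[x] :=
      Nat.eq_of_mul_eq_mul_right (card_pos (T ⊓ C1[x])) (by rw [h3, h5]; ring)
    refine Nat.eq_of_mul_eq_mul_left (card_pos C1[x]) ?_
    rw [← h1, ← h2, h6]; ring
  have m1 : m ≠ 1 := fun e => by
    have le : St G a ≤ T ⊔ C1[x] := relIndex_eq_one.1 e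
    obtain ⟨g, -, hg⟩ := S.conj_in ox (mem_top _) hx.2 (S.not_le a) oy (mem_top _)
    have ga : g • a = a := S.uniq oy (by
      rw [← hg, mul_smul, mul_smul, inv_smul_smul, (hx.2 : x • a = a)]) hy.2
    obtain ⟨τ, hτ, v, hv, rfl⟩ := (mem_sup_l (xa.trans nT)).1 (le ga)
    have e2 : y = τ * x * τ⁻¹ := by
      rw [← hg, mul_assoc τ v x, mem_C1.1 hv]; group
    have : x * y ∈ T := by
      have := mul_mem (conj_mem (nT hx.2) hτ) (inv_mem hτ)
      rw [e2]; convert this using 1; rw [S.inv ox]; group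
    have h1 := eq_one_of_sq (odd_ord_of_mem oT this) (by
      calc x * y * (x * y) = x * (y * x) * y := by group
        _ = (x * x) * (y * y) := by rw [← cxy]; group
        _ = 1 := by rw [S.sq ox, S.sq oy, one_mul])
    exact xy (by rw [← S.inv ox]; exact inv_eq_of_mul_eq_one_right h1)
  obtain ⟨p, hp, pm⟩ := Nat.exists_prime_and_dvd m1
  have pn : p ∣ nI Z (⊤ : Subgroup G) a := e1 ▸ pm.mul_right _
  have hP1 : P1 G Ω p := by
    by_contra hn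
    obtain ⟨Y, r, b, c, hY, hr, rY, rc, bc, Yb, Yc, e⟩ := S.not_P1 S.tr ox hp pn hn
    obtain ⟨g, hg⟩ := S.conjZ hr ox
    have gc : g • c = a := S.uniq ox (by rw [← hg, mul_smul, mul_smul, inv_smul_smul, rc]) hx.2
    have oY : Odd #(cj g Y) := by rw [card_cj]; exact odd_of_p hY (S.ne_two' S.tr ox bc hp pn)
    have Ya : cj g Y ≤ St G a := by rw [← gc, ← cj_St]; exact cj_mono g Yc
    have le : tc x (cj g Y) ≤ T := tc_le_of fun k hk => by
      obtain ⟨z, hz, rfl, iz⟩ := exists_sqrt (odd_ord_of_mem oY hk.1) hk.2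
      have zY : z ∈ cj g Y := zp_le hk.1 hz
      refine subset_closure ⟨x, xI, x * z, ⟨trivial, (S.mul_inv ox (odd_ord_of_mem oY zY) iz).1, ?_⟩, ?_⟩
      · rw [mul_smul, (Ya zY : z • a = a)]; exact hx.2
      · rw [← mul_assoc x x, S.sq ox, one_mul]
    have h1 := kc_le_pp (S.ord ox) oT (nT hx.2) hp le ((hY.cj g).of_le (tc_le _ _)) (t_norm_tc _ _)
    rw [kc_tc, ← hg, kc_cj, hg, e, e1] at h1
    exact absurd (pp_lt hp (relIndex_pos _ _).ne' (kc_pos _ _).ne' pm) (not_lt.2 h1)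
  have h2 := S.tr2_of_P1 S.tr ox hp pn hP1
  have T1 : T = ⊥ := by
    obtain ⟨l, hl, la⟩ := SetLike.not_le_iff_exists.1 hQ.nle
    have Tb : T ≤ St G (l • a) := TK.trans (Ker_le_St (orb_smul hl a))
    refine eq_bot_iff.2 fun τ hτ => S.eq_one fun d => ?_
    by_cases e : d = a
    · rw [e]; exact Ta hτ
    · obtain ⟨g, g1, g2⟩ := h2 a (l • a) a d (Ne.symm la) (Ne.symm e)
      rw [← g2]; exact fix_smul (nT g1) Tb hτ
  intro t k b c ht tc ok hk kc kb bc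
  obtain ⟨g, hg⟩ := S.tr c a
  have i1 : g * t * g⁻¹ ∈ Iv Z (⊤ : Subgroup G) a :=
    ⟨trivial, S.conj ht g, by rw [← hg, mul_smul, inv_smul_smul, mul_smul, tc]⟩
  have i2 : g * (t * k) * g⁻¹ ∈ Iv Z (⊤ : Subgroup G) a :=
    ⟨trivial, S.conj (S.mul_inv ht ok hk).1 g, by
      rw [← hg, mul_smul, inv_smul_smul, mul_smul, mul_smul, kc, tc]⟩
  have : _ ∈ T := subset_closure ⟨_, i1, _, i2, rfl⟩
  rw [T1, mem_bot] at this
  refine eq_one_of_sq ok ?_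
  have e : g * (k * k) * g⁻¹ = 1 := by
    rw [← this]
    calc g * (k * k) * g⁻¹ = g * ((t * t) * k * (t * t) * k) * g⁻¹ := by rw [S.sq ht]; group
      _ = _ := by group
  calc k * k = g⁻¹ * (g * (k * k) * g⁻¹) * g := by group
    _ = 1 := by rw [e]; group

end MC

/-- a minimal counterexample in which (G1) fails -/
structure A0 {G : Type*} (Ω : Type*) [Group G] [MulAction G Ω] (Z : Set G) : Prop extends MC Ω Z where
  ng : ¬ G1 Ω Z

namespace A0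
variable (S : A0 Ω Z)
include S

/-- (S0) a proper subgroup containing `t` and `K` has no involution fixing `a` -/
theorem s0 (hL : L ≠ ⊤) (ht : t ∈ Z) (htL : t ∈ L) (ha : t • a ≠ a)
    (hK : ∀ k ∈ invertedBy O[{2}ᶜ](St2 G a (t • a)) t, k ∈ L) (hs : s ∈ Iv Z L a) : False := by
  refine S.ng (S.g1_of_iv hL (fun e => ha (e htL)) fun s' hs' => ?_)
  obtain ⟨k, hk, rfl⟩ := S.K_trans ht (mem_top _) ha ⟨trivial, hs.2⟩ hs'
  have : k ∈ L := hK k (by rwa [top_inf_eq] at hk)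
  exact mul_mem (mul_mem this hs.1) (inv_mem this)

theorem s0' (hL : L ≠ ⊤) (ht : t ∈ Z) (htL : t ∈ L) (hc : t • c = c) (ha : a ≠ c)
    (hK : ∀ k ∈ invertedBy O[{2}ᶜ](St2 G a (t • a)) t, k ∈ L) (ho : Orb L c a) : False := by
  obtain ⟨s, hs⟩ := S.exists_iv ht htL hc ho
  exact S.s0 hL ht htL (S.ne_smul ht hc ha) hK hs

end A0

end Cfsg.Agent.ZD
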