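import Cfsg.Agent.ZD.A1

/-! # Part A, second file: proper subgroups containing a nontrivial element of `K ∩ G_c` have rank one -/

set_option autoImplicit false
set_option linter.unusedVariables false
set_option linter.unusedSectionVars false

namespace Cfsg.Agent.ZD
open Cfsg Cfsg.Agent.BG Cfsg.Agent.Inv Cfsg.Agent.SE MulAction Subgroup PHom

variable {G Ω : Type*} [Group G] [Finite G] [MulAction G Ω] {Z : Set G}
variable {A B D H K L M M₁ N P Q R T U W X Y : Subgroup G} {a b c d : Ω} {t s s' u k g w f x y z : G} {p q r : ℕ}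
  {π : Set ℕ}

theorem four_cent (ht : orderOf t = 2) (hy : orderOf y = 2) (n : y ≠ t) (h : t * y = y * t)
    (hX : Odd #X) (h1 : t ∈ N[X]) (h2 : y ∈ N[X]) (h3 : ¬ X ≤ C1[t]) (hp : p.Prime) (hd : p ∣ kc t X) :
    ∃ z ∈ invertedBy X t, z ≠ 1 ∧ PiE {p} z ∧ ∃ u ∈ zpowers t ⊔ zpowers y, u ≠ 1 ∧ u ∈ C1[z] := by
  have ab := four_abelem ht hy h
  have nF : zpowers t ⊔ zpowers y ≤ N[X] := sup_le (zp_le h1) (zp_le h2)
  have cop := (ab.pig Nat.prime_two).coprime (pig2_of_odd hX)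
  obtain ⟨P, hP, nP⟩ := cop_syl_exists nF cop (Or.inl ab.abel.sol) hp
  have tP : t ∈ N[P] := nP (mem_sup_left (mem_zpowers t))
  have oP := odd_of_le hX hP.le
  have h4 : ¬ P ≤ C1[t] := fun e => by
    have := (kc_eq_one ht oP tP).2 e
    rw [kc_syl ht hX h1 hp hP tP] at this
    exact ((one_lt_pp hp (kc_pos _ _).ne').2 hd).ne' this
  by_contra hn
  refine h4 (cop_gen_cent1 ab.abel (four_not_cyc ht hy h n.symm) nP (coprimeS cop le_rfl hP.le)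
    fun u hu u1 => ?_)
  by_contra h5
  have ut : t ∈ C1[u] := C_le_C1 hu (ab.abel (mem_sup_left (mem_zpowers t)))
  obtain ⟨z, hz, z1⟩ := exists_inv_ne ht (odd_of_le oP inf_le_left)
    (normI (zp_le tP) (normC1 (zp_le ut)) (mem_zpowers t)) h5
  exact hn ⟨z, ⟨hP.le hz.1.1, hz.2⟩, z1, hP.pi.elt hz.1.1, u, hu, u1, C1_symm hz.1.2⟩

theorem ZW.four_of_idx (S : ZW Ω Z) (h : FourZ Z X) (h1 : Y ≤ X) (h2 : PiN {2}ᶜ (Y.relIndex X)) : FourZ Z Y := by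
  obtain ⟨x, hx, y, hy, ox, oy, n, c⟩ := h
  obtain ⟨T, hT⟩ := syl_exists Nat.prime_two Y
  obtain ⟨g, hg, le⟩ := Syl.cj_sub (hT.trans' h1 h2) Nat.prime_two (sup_le (zp_le hx) (zp_le hy))
    ((four_abelem (S.ord ox) (S.ord oy) c).pig Nat.prime_two)
  exact ⟨g * x * g⁻¹, hT.le (le (mem_cj_conj.2 (mem_sup_left (mem_zpowers x)))), g * y * g⁻¹,
    hT.le (le (mem_cj_conj.2 (mem_sup_right (mem_zpowers y)))), S.conj ox g, S.conj oy g,
    fun e => n (by simpa using e), by rw [conj_mul, conj_mul, c]⟩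

/-- setwise stabilizer -/
def SS (G : Type*) [Group G] [Finite G] [MulAction G Ω] (Λ : Set Ω) : Subgroup G where
  carrier := {g | ∀ x ∈ Λ, g • x ∈ Λ}
  one_mem' := fun x hx => by rwa [one_smul]
  mul_mem' := fun ha hb x hx => by rw [mul_smul]; exact ha _ (hb x hx)
  inv_mem' := fun {g} hg => by
    obtain ⟨n, e⟩ := mem_powers_iff_mem_zpowers.2 (inv_mem (mem_zpowers g))
    rw [← e]; clear e
    induction n with
    | zero => exact fun x hx => by simpa using hx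
    | succ n ih => exact fun x hx => by simpa [pow_succ, mul_smul] using ih _ (hg x hx)

theorem Z_le_ZJ (hP : Abel A) (h : A ≤ P ⊓ C[P]) : A ≤ ZJ P := fun x hx =>
  PLoc.mem_ZJOf (h hx).1 (pow_zero x) (centS (PLoc.JOf_le P) (h hx).2)

/-- an elementary abelian 2-group of order at least 8 acting with no nontrivial element centralizing -/
theorem exists_B {J : Subgroup G} (hJ : Abelem 2 J) (h8 : 8 ≤ #J) (hA : Abel A) (pA : PiG {p} A) (p2 : p ≠ 2)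
    (h1 : J ≤ N[A]) (h : ∀ j ∈ J, j ≠ 1 → ¬ A ≤ C1[j]) :
    ∃ B ≤ A, ¬ Cyc B ∧ ∃ j ∈ J, ∃ j' ∈ J, j ≠ 1 ∧ j' ≠ 1 ∧ (∀ b ∈ B, j * b * j⁻¹ = b⁻¹) ∧ B ≤ C1[j'] := by
  have oA := odd_of_p pA p2
  have key : ∀ j ∈ J, j ≠ 1 → ∃ J₀ ≤ J, J₀.relIndex J ≤ 2 ∧ ∃ v ∈ A, v ≠ 1 ∧ J₀ ≤ C1[v] ∧ j ∉ J₀ ∧
      ∀ x ∈ J, x ∉ J₀ → x * v * x⁻¹ = v⁻¹ := fun j hj j1 => by
    have o := orderOf_of_pow Nat.prime_two (hJ.pow j hj) j1
    by_contra hn
    refine h j hj j1 (cop_gen_cocyc hJ.abel h1 ((hJ.pig Nat.prime_two).coprime (pig2_of_odd oA)) fun B hB hc => ?_)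
    by_contra hn'
    have nB : J ≤ N[B] := cents_norm (hJ.abel.trans (centS hB))
    obtain ⟨v, hv, v1⟩ := exists_inv_ne o (odd_of_le oA inf_le_left)
      (normI (zp_le (h1 hj)) (normC (zp_le (nB hj))) (mem_zpowers j)) hn'
    have c2 : B.relIndex J ∣ 2 := by rw [← card_quo nB]; exact cyc_exp_card Nat.prime_two hc (hJ.im _).pow
    have Bv : B ≤ C1[v] := le_C1_iff.2 hv.1.2
    have jB : j ∉ B := fun e => ne_of_inv (odd_ord_of_mem oA hv.1.1) hv.2 v1 (C1_symm (Bv e))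
    refine hn ⟨B, hB, Nat.le_of_dvd two_pos c2, v, hv.1.1, v1, Bv, jB, fun x hx xB => ?_⟩
    have i2 : B.relIndex J = 2 := ((Nat.dvd_prime Nat.prime_two).1 c2).resolve_left fun e => jB (relIndex_eq_one.1 e hj)
    have : j⁻¹ * x ∈ B := ((B.subgroupOf J).mul_mem_iff_of_index_two i2 (a := ⟨j⁻¹, inv_mem hj⟩) (b := ⟨x, hx⟩)).2
      (iff_of_false (fun e => jB (by simpa [mem_subgroupOf] using e)) xB)
    calc _ = j * (j⁻¹ * x * v) * x⁻¹ := by group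
      _ = _ := by rw [mem_C1.1 (Bv this), ← hv.2]; group
  have big : ∀ J₀ ≤ J, J₀.relIndex J ≤ 4 → ∃ j ∈ J₀, j ≠ 1 := fun J₀ h1 h2 => Inv.exists_ne_one fun e => by
    rw [e, relIndex_bot_left] at h2; omega
  obtain ⟨j₀, m0, n0⟩ := big J le_rfl (by simp)
  obtain ⟨J₀, l0, i0, v₀, a0, b0, c0, e0, d0⟩ := key j₀ m0 n0
  obtain ⟨j₁, m1, n1⟩ := big J₀ l0 (by omega)
  obtain ⟨J₁, l1, i1, v₁, a1, b1, c1, e1, d1⟩ := key j₁ (l0 m1) n1
  obtain ⟨j₂, m2, n2⟩ := big (J₀ ⊓ J₁) (inf_le_left.trans l0) (relIndex_inf_le.trans (Nat.mul_le_mul i0 i1))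
  obtain ⟨j, hj, f0, f1⟩ : ∃ j ∈ J, j ∉ J₀ ∧ j ∉ J₁ := by
    by_cases f : j₀ ∈ J₁
    · exact ⟨j₀ * j₁, mul_mem m0 (l0 m1), fun e => e0 ((mul_mem_cancel_right m1).1 e),
        fun e => e1 ((mul_mem_cancel_left f).1 e)⟩
    · exact ⟨j₀, m0, e0, f⟩
  have BA : zpowers v₀ ⊔ zpowers v₁ ≤ A := sup_le (zp_le a0) (zp_le a1)
  refine ⟨_, BA, fun hc => ?_, j, hj, j₂, l0 m2.1, fun e => f0 (e ▸ one_mem _), n2, fun b hb =>
    (sup_le (zp_le ⟨a0, d0 j hj f0⟩) (zp_le ⟨a1, d1 j hj f1⟩) : _ ≤ invSub hA j) hb |>.2,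
    sup_le (zp_le (C1_symm (c0 m2.1))) (zp_le (C1_symm (c1 m2.2)))⟩
  have z0 : zpowers v₀ ≠ ⊥ := ne_bot_of_mem (mem_zpowers _) b0
  have pB := pA.of_le BA
  have hp := pA.prime (ne_bot_of_mem a0 b0)
  obtain ⟨x, hx, x1⟩ := Inv.exists_ne_one (H := Ω[p](zpowers v₀ ⊔ zpowers v₁)) fun e => by
    have := hc.card_Om hp (pB.dvd fun e => z0 (eq_bot_iff.2 (le_sup_left.trans e.le)))
    rw [e, card_bot'] at this; exact hp.one_lt.ne this
  have x0 := hc.Om_le pB le_sup_left z0 hx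
  have x2 := hc.Om_le pB le_sup_right (ne_bot_of_mem (mem_zpowers _) b1) hx
  exact ne_of_inv (odd_ord_of_mem oA (zp_le a0 x0)) ((zp_le ⟨a1, d1 j₁ (l0 m1) e1⟩ : _ ≤ invSub hA j₁) x2).2 x1
    (zp_le (C1_symm (c0 m1)) x0)

namespace A0
variable (S : A0 Ω Z)
include S

/-- (BT) -/
theorem bt (hM : M ≠ ⊤) (ht : t ∈ Z) (htM : t ∈ M) (hc : t • c = c) (hMc : ¬ M ≤ St G c)
    (hk : k ∈ M) (hkc : k • c = c) (ok : Odd (orderOf k)) (hi : t * k * t⁻¹ = k⁻¹) (k1 : k ≠ 1) :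
    ¬ FourZ Z M := fun h4 => by
  have t2 := S.ord ht
  have hQ := S.toBT hM (S.four_St ht htM hc hMc h4 (Orb.refl _ _)) hMc
  have tX : t ∈ XZ Z M := mem_XZ htM ht
  have kK := hQ.inv_ker ⟨tX, ht, hc⟩ hkc ok hi (mem_XZ (mul_mem htM hk) (S.mul_inv ht ok hi).1)
  have nK : XZ Z M ≤ N[O[{2}ᶜ](Ker (XZ Z M) c)] := normO _ (Ker_norm _ _)
  have h3 : ¬ O[{2}ᶜ](Ker (XZ Z M) c) ≤ C1[t] := fun e => ne_of_inv ok hi k1 (e kK)
  obtain ⟨p, hp, pd⟩ := Nat.exists_prime_and_dvd (fun e => h3 ((kc_eq_one t2 (odd_O _) (nK tX)).1 e))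
  obtain ⟨y, yM, oy, yt, cy⟩ := S.four_mem ht htM hc hMc h4
  obtain ⟨z, hz, z1, pz, u, ou, u1, uz⟩ := four_cent t2 (S.ord oy) yt cy (odd_O _) (nK tX) (nK (mem_XZ yM oy)) h3 hp pd
  have oz := odd_ord_of_mem (odd_O _) hz.1
  have zK0 := O_le _ _ hz.1
  have p2 : p ≠ 2 := by rintro rfl; exact oz.not_two_dvd_nat (pz.dvd z1)
  have tz := t_norm_zp hz.2
  have Cz : C[zpowers z] ≤ St G c := (C_le_N _).trans (S.F4 ht hc tz
    (by rw [C_zpowers]; exact fun e => ne_of_inv oz hz.2 z1 (C1_symm e)) (S.mem_four ht oy yt.symm cy ou u1)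
    (by rwa [C_zpowers]))
  obtain ⟨l, hl, lc⟩ := SetLike.not_le_iff_exists.1 hQ.nle
  set α := l • c with hα
  have αc : α ≠ c := lc
  have tα := S.ne_smul ht hc αc
  have oα : Orb (XZ Z M) c α := orb_smul hl c
  have I := S.isnD ht tα
  set D := St2 G α (t • α) with hD
  have zD : z ∈ D := ⟨zK0.2 _ oα, zK0.2 _ (oα.smul tX)⟩
  have zc : z • c = c := zK0.2 _ (Orb.refl _ _)
  have pZ : PiG {p} (zpowers z) := pig_zpowers.2 pz
  set A := O[{p}ᶜ](O[{2}ᶜ](D)) with hA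
  have tA : t ∈ N[A] := normO _ (zp_le I.normO) (mem_zpowers t)
  have nA : D ≤ N[A] := normO _ (O_norm _ _)
  have oA : Odd #A := odd_of_le (odd_O _) (O_le _ _)
  have AD : A ≤ D := (O_le _ _).trans (O_le _ _)
  have Ac : A ≤ St G c := by
    by_contra hn
    exact S.cent_not_le ht hc oA tA hn (by rwa [card_zpowers']) tz (zp_le zc)
      ((zp_le zD).trans nA) (zp_le (mem_tc ⟨mem_zpowers z, hz.2⟩)) (pZ.coprime (O_pig _ _)) (inf_le_right.trans Cz)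
  obtain ⟨L, ⟨hL, tL, L4, zL⟩, hmax⟩ := exists_max_of
    (fun L : Subgroup G => L ≠ ⊤ ∧ t ∈ L ∧ FourZ Z (L ⊓ St G α) ∧ z ∈ L) (fun L => pp p #(L ⊓ D))
    (A := M) ⟨hM, htM, S.four_St ht htM hc hMc h4 (oα.mono (XZ_le _ _)), XZ_le _ _ zK0.1⟩
  have hQ' := S.toBT hL L4 fun e => tα (e tL)
  have zK := hQ'.inv_ker ⟨mem_XZ tL ht, ht, hc⟩ zc oz hz.2 (mem_XZ (mul_mem tL zL) (S.mul_inv ht oz hz.2).1)
  obtain ⟨W, W1, W2, W3, W4, W5, W6⟩ := hQ'.exists_W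
  set K := O[{2}ᶜ](Ker (XZ Z L) α)
  have IL := S.isnM ht tL tα
  rw [← hD] at IL
  obtain ⟨P, hP, tP, zP⟩ := IL.syl hp p2 (zp_le ⟨zL, zD⟩) pZ tz
  obtain ⟨oY, -⟩ := IL.sup hP.le (odd_of_p hP.pi p2)
  set Y := O[{2}ᶜ](L ⊓ D) ⊔ P
  have YL : Y ≤ L ⊓ D := sup_le (O_le _ _) hP.le
  have nW : Y ≤ N[W] := fun g hg => W2 g (S.XZ_norm' L (YL hg).1) (YL hg).2.1
  have KD : K ≤ Y := (le_O ((O_le _ _).trans (le_inf ((Ker_le _ _).trans (XZ_le _ _))
    (le_inf (Ker_le_St (Orb.refl _ _)) (Ker_le_St (orb_smul (mem_XZ tL ht) α))))) (normO _ fun g hg =>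
      normKer (S.XZ_norm' L hg.1) ((show g • α = α from hg.2.1).symm ▸ Orb.refl _ _)) (O_pig _ _)).trans le_sup_left
  set X := W ⊔ Y with hX
  have Xα : X ≤ L ⊓ St G α := sup_le (W1.trans (inf_le_inf_right _ (XZ_le _ _))) (YL.trans (inf_le_inf_left _ inf_le_left))
  have nK0 : XZ Z L ≤ N[K] := normO _ (Ker_norm _ _)
  have nK' : W ≤ N[K] := (W1.trans inf_le_left).trans nK0
  have sW : Sol W := sol_of_im (φ := quo K) nK'
    ((sol_of_odd (odd_O _)).of_le (by rw [quo_ker]; exact inf_le_right)) W6.abel.sol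
  have two : ∀ T ≤ X, PiG {2} T → T ≤ W := fun T hT pT => pT.le_of_idx (sup_le (normG _) nW) hT (by
      rw [relIndex_sup_l nW]; exact (pig2_of_odd oY).relIndex _)
  have aX : PLoc.AbSyl2 X := fun T hT h2 => by
    have pT := pig_of_pg Nat.prime_two h2
    exact (abel_iff_der.2 (eq_bot_iff.2 ((le_inf (der_le T) ((derS (two T hT pT)).trans
      ((quo_abel_iff nK').1 W6.abel))).trans (pT.inf_bot (O_pig _ _)).le))).comm
  have hPX : Syl p P X := (hP.sub le_sup_right YL).trans' le_sup_right (by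
    rw [(isProd_l nW).symm.relIndex]
    have : PiN {2} (K.relIndex W) := by rw [← card_quo nK']; exact W6.pig Nat.prime_two
    exact (this.ne_compl p2.symm).of_dvd (relIndex_dvd_left KD W))
  have oO : Odd #O[{p}ᶜ](X) := by
    by_contra hn
    obtain ⟨s, hs, os⟩ := exists_ord_two hn
    have sI : s ∈ Iv Z L α := ⟨(Xα (O_le _ _ hs)).1, W5 s (two _ (zp_le (O_le _ _ hs)) (pig_zpowers.2 (by
      rw [PiE, os]; exact pin_single_self Nat.prime_two)) (mem_zpowers s)) os, (Xα (O_le _ _ hs)).2⟩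
    obtain ⟨m, hm, mc⟩ := (hQ'.orb ht (mem_XZ tL ht) hc).symm
    have tI : m * t * m⁻¹ ∈ Iv Z L α := mc ▸ S.iv_conj ⟨tL, ht, hc⟩ (XZ_le _ _ hm)
    obtain ⟨j, hj, e⟩ := S.K_trans ht tL tα sI tI
    have t' : m * t * m⁻¹ ∈ O[{p}ᶜ](X) := e ▸ conj_mem (O_norm _ _ (mem_sup_right (mem_sup_left hj.1))) hs
    have z' : m * z * m⁻¹ ∈ X := mem_sup_left (W3 (conj_mem (nK0 hm) zK))
    have oz' : Odd #(zpowers (m * z * m⁻¹)) := by rw [← cj_zpowers, card_cj, card_zpowers']; exact oz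
    have := tc_le_of_norm (ord_conj t2 m) oz' t' ((zp_le z').trans (O_norm _ _)) (mem_tc ⟨mem_zpowers _, by
      calc _ = m * (t * z * t⁻¹) * m⁻¹ := by group
        _ = _ := by rw [hz.2]; group⟩)
    exact z1 (pz.eq_one (pie_conj.1 ((O_pig _ _).elt this)))
  have fac := ZJ_factor hp p2 (sW.sup_l (sol_of_odd oY) nW) aX hPX
  set V := ZJ P with hV
  have P1 : P ≠ ⊥ := ne_bot_of_mem (zP (mem_zpowers z)) z1
  have ZP : V ≤ P := ZJ_le P
  have pV : PiG {p} V := hP.pi.of_le ZP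
  have oV := odd_of_p pV p2
  have PD : P ≤ D := hP.le.trans inf_le_right
  have nt : N[V] ≠ ⊤ := S.N_ne_top' (ZJ_ne_bot hP.pi P1) oV
  have tZ : t ∈ N[V] := normZJ (zp_le tP) (mem_zpowers t)
  have N4 : FourZ Z (N[V] ⊓ St G α) := by
    obtain ⟨x, hx, y, hy, ox, oy, h⟩ := L4
    refine (S.four_of_idx (Y := X ⊓ N[V]) ⟨x, mem_sup_left (W4 x ⟨mem_XZ hx.1 ox, ox, hx.2⟩), y,
      mem_sup_left (W4 y ⟨mem_XZ hy.1 oy, oy, hy.2⟩), ox, oy, h⟩ inf_le_left ?_).mono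
      (le_inf inf_le_right (inf_le_left.trans (Xα.trans inf_le_right)))
    rw [fac.symm.relIndex]; exact (pig2_of_odd oO).relIndex _
  have hPD : Syl p P D := by
    have h1 := hmax N[V] ⟨nt, tZ, N4, normZJ (normG P) (zP (mem_zpowers z))⟩
    have h2 := syl_of_card hp (le_inf (normZJ (normG P)) PD) hP.pi (by rw [Syl.card_pp hP hp]; exact h1)
    exact Syl.of_norm (h2.sub (le_inf PD (normG P)) (le_inf (inf_le_right.trans (normZJ le_rfl)) inf_le_left)) hp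
  have B := S.toBT nt N4 fun e => tα (e tZ)
  set X' := XZ Z N[V]
  have tX' : t ∈ X' := mem_XZ tZ ht
  have oc : Orb X' α c := B.orb ht tX' hc
  have Nc : ¬ N[V] ≤ St G c := fun e => not_le_St_orb B.nle oc ((XZ_le _ _).trans e)
  obtain ⟨oD₀, -⟩ := I.sup hPD.le (odd_of_p hP.pi p2)
  set D₀ := O[{2}ᶜ](D) ⊔ P
  have DD : D₀ ≤ D := sup_le (O_le _ _) PD
  have f1 := ZJ_factor_odd hp p2 oD₀ (hPD.sub le_sup_right DD)
  have nO : P ≤ N[O[{2}ᶜ](D)] := PD.trans (O_norm _ _)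
  rw [show O[{p}ᶜ](D₀) = A from le_antisymm (O_le_O _ le_sup_left ((O_pig _ _).le_of_idx (sup_le (normG _) nO)
    (O_le _ _) (by rw [relIndex_sup_l nO]; exact (hP.pi.relIndex _).compl_compl)))
    (O_le_of_normal _ le_sup_left (DD.trans (O_norm _ _)))] at f1
  have fin : ∀ L : Subgroup G, L ≠ ⊤ → A ≤ L → D₀ ⊓ N[V] ≤ L → t ∈ L → Orb L c α → False := fun L hL h1 h2 h3 h4 =>
    S.s0' hL ht h3 hc αc (fun k hk => f1.sup.ge.trans (sup_le h1 h2) (mem_sup_left hk.1)) h4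
  have finΛ : ∀ Λ : Set Ω, α ∈ Λ → (∀ x ∈ Λ, A ≤ St G x) → D₀ ⊓ N[V] ≤ SS G Λ → t ∈ SS G Λ → Orb (SS G Λ) c α →
      False := fun Λ h0 h1 h2 h3 h4 => by
    by_cases e : SS G Λ = ⊤
    · refine fin _ nt (fun g hg => ?_) inf_le_right tZ (oc.symm.mono (XZ_le _ _))
      rw [S.eq_one (g := g) fun d => ?_]; exact one_mem _
      obtain ⟨x, rfl⟩ := S.tr α d
      exact h1 _ (e.ge (mem_top x) α h0) hg
    · exact fin _ e (fun g hg x hx => (h1 x hx hg).symm ▸ hx) h2 h3 h4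
  by_cases hcase : t ∈ C[V]
  · obtain ⟨m, hm, m1, m2⟩ := B.tr2 (Orb.refl _ _) (orb_smul tX' α) (Orb.refl _ _) oc tα.symm αc
    have mV : m ∈ C[V] := XZ_le_of (fun s hs sZ => by
      obtain ⟨x, hx, rfl⟩ := S.conj_in ht tZ hc Nc sZ hs
      exact conj_mem (normC le_rfl hx) hcase) hm
    set R := V ⊓ O[{2}ᶜ](D)
    have R1 : R ≠ ⊥ := fun e => hP.pi.nil.meet_C (K := P ⊓ O[{2}ᶜ](D)) inf_le_left (normI (normG _) nO)
      (ne_bot_of_mem ⟨zP (mem_zpowers z), I.mem_O zD oz hz.2⟩ z1) (eq_bot_iff.2 ((le_inf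
        (Z_le_ZJ (inf_le_right.trans (centS (inf_le_left.trans inf_le_left))) (inf_le_inf_right _ inf_le_left))
        (inf_le_left.trans inf_le_right)).trans e.le))
    have pR : PiG {p} R := pV.of_le inf_le_left
    have eD : cj m D = St2 G α c := by rw [hD, SE.cj_St2, m1, m2]
    have mR : m ∈ N[R] := C_le_N _ (centS inf_le_left mV)
    have eR : cj m R = R := cj_of_mem_N mR
    have eV : cj m V = V := cj_of_mem_N (C_le_N _ mV)
    have f2 := f1.cj m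
    rw [cj_inf, cj_N, eV] at f2
    have RA : R ≤ N[A] := (inf_le_left.trans (ZP.trans PD)).trans nA
    have nR : D₀ ⊓ N[V] ≤ N[R] := normI inf_le_right (inf_le_left.trans (DD.trans (O_norm _ _)))
    have tR : t ∈ N[R] := normI (zp_le tZ) (zp_le I.normO) (mem_zpowers t)
    have a0 : ⁅A, R⁆ ≤ cj m D₀ := by
      have : R ≤ O[{2}ᶜ](St2 G α c) := by rw [← eD, ← cj_O, ← eR]; exact cj_mono m inf_le_right
      refine ((commS le_rfl this).trans (commR ((le_inf (AD.trans inf_le_left) Ac).trans (O_norm _ _)))).trans ?_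
      rw [← eD, ← cj_O]; exact cj_mono m le_sup_left
    have nA' : cj m D₀ ≤ N[cj m A] := norm_cj.2 (DD.trans nA)
    have VA : V ≤ N[cj m A] := by rw [← eV]; exact norm_cj.2 ((ZP.trans PD).trans nA)
    have nAZ : cj m D₀ ≤ N[cj m A ⊔ V] := f2.sup.ge.trans (sup_le (normsG le_sup_left)
      (normY (inf_le_left.trans nA') inf_le_right))
    have cc := cop_comm_comm RA (pR.coprime (O_pig _ _)) (Or.inl pR.sol)
    have a1 : ⁅A, R⁆ ≤ cj m A := ((O_pig _ _).of_le (commL RA)).le_of_idx (sup_le (normG _) VA)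
      (cc.ge.trans ((commS le_rfl (inf_le_left.trans le_sup_right)).trans (commR (a0.trans nAZ)))) (by
        rw [relIndex_sup_l VA]; exact (pV.relIndex _).compl_compl)
    have a2 : ⁅A, R⁆ = cj m ⁅A, R⁆ := eq_of_card_le (by
      rw [cj_comm, eR, ← cc]; exact commS a1 le_rfl) (card_cj _ _).le
    have ob : ∀ L : Subgroup G, t ∈ L → m ∈ L → Orb L c α := fun L h2 h3 => ⟨t * m⁻¹, mul_mem h2 (inv_mem h3), by
      rw [mul_smul, ← m2, inv_smul_smul, S.ss ht]⟩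
    by_cases e : ⁅A, R⁆ = ⊥
    · exact fin _ (S.N_ne_top' R1 (odd_of_p pR p2)) (cents_norm (comm_eq_bot.1 e)) nR tR (ob _ tR mR)
    · have := normR (zp_le tA) (zp_le tR) (mem_zpowers t)
      exact fin _ (S.N_ne_top' e (odd_of_le oA (commL RA))) (comm_norml _ _)
        (normR (inf_le_left.trans (DD.trans nA)) nR) this (ob _ this (mem_N_iff_cj.2 a2.symm))
  have nX : N[V] ≤ N[X'] := S.XZ_norm' _
  rcases B.lp_or ht tX' tα with ⟨s, hs, c', hc', sc⟩ | ⟨J, J1, J2, J3, J4⟩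
  · obtain rfl := S.uniq ht hc hc'
    have st : s • t • α = c := by rw [← sc, S.ss hs.2.1]
    have Kc : ∀ s' ∈ Iv Z X' α, ∃ k ∈ X' ⊓ D, t * k * t⁻¹ = k⁻¹ ∧ s' • t • α = k • c := fun s' hs' => by
      obtain ⟨k, hk, rfl⟩ := S.K_trans ht tX' tα hs hs'
      have := O_le _ _ hk.1
      exact ⟨k, this, hk.2, by rw [mul_smul, mul_smul, inv_smul_eq_iff.2 (show k • t • α = _ from this.2.2).symm, st]⟩
    have cj' : ∀ g ∈ N[X'], g ∈ D → ∀ s' ∈ Iv Z X' α, ∃ s'' ∈ Iv Z X' α, s'' • t • α = g • s' • t • α :=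
      fun g g1 g2 s' hs' => ⟨g * s' * g⁻¹, ⟨conj_mem g1 hs'.1, S.conj hs'.2.1 g,
        (show g • α = α from g2.1) ▸ conj_smul_fix hs'.2.2 g⟩, by
          rw [mul_smul, mul_smul, inv_smul_eq_iff.2 (show g • t • α = _ from g2.2).symm]⟩
    have tS : t ∈ SS G {x | x = α ∨ x = t • α ∨ ∃ s' ∈ Iv Z X' α, s' • t • α = x} := by
      rintro _ (rfl | rfl | ⟨s', hs', rfl⟩)
      · exact .inr (.inl rfl)
      · exact .inl (S.ss ht _)
      obtain ⟨k, k1, k2, k3⟩ := Kc s' hs'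
      obtain ⟨s'', h1, h2⟩ := cj' k⁻¹ (normG _ (inv_mem k1.1)) (inv_mem k1.2) s hs
      refine .inr (.inr ⟨s'', h1, ?_⟩)
      rw [h2, k3, st, ← k2, mul_smul, mul_smul, inv_smul_eq_iff.2 hc.symm]
    have sS : s ∈ SS G {x | x = α ∨ x = t • α ∨ ∃ s' ∈ Iv Z X' α, s' • t • α = x} := by
      rintro _ (rfl | rfl | ⟨s', hs', rfl⟩)
      · exact .inl hs.2.2
      · exact .inr (.inr ⟨s, hs, rfl⟩)
      rcases B.mul_cases hs hs' with e | ⟨v, hv, e⟩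
      · exact .inr (.inl (by rw [← mul_smul]; exact (O_le _ _ e).2 _ (orb_smul tX' α)))
      · refine .inr (.inr ⟨v, hv, ?_⟩)
        have := (O_le _ _ e).2 _ (orb_smul tX' α)
        rw [mul_smul, inv_smul_eq_iff, mul_smul] at this
        exact this.symm
    refine finΛ _ (.inl rfl) ?_ (fun g hg => ?_) tS ⟨t * s, mul_mem tS sS, by rw [mul_smul, sc, S.ss ht]⟩
    · rintro _ (rfl | rfl | ⟨s', hs', rfl⟩)
      · exact AD.trans inf_le_left
      · exact AD.trans inf_le_right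
      obtain ⟨k, k1, -, k3⟩ := Kc s' hs'
      rw [k3]; exact fix_smul (nA k1.2) Ac
    · rintro _ (rfl | rfl | ⟨s', hs', rfl⟩)
      · exact .inl (DD hg.1).1
      · exact .inr (.inl (DD hg.1).2)
      exact .inr (.inr (cj' g (nX hg.2) (DD hg.1) s' hs'))
  · have JN : J ≤ N[V] := J1.trans (inf_le_left.trans (XZ_le _ _))
    obtain ⟨E, EV, nE, j, hj, j', hj', j1, j1', iE, cE⟩ := exists_B J2 J3 (abel_of (PLoc.isEA_ZJOf P).1) pV p2 JN
      fun j hj j1 e => Nc (S.F4 ht hc tZ hcase (J4 j hj j1) (le_C1_iff.1 e))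
    have CE : ∀ b ∈ E, b ≠ 1 → C1[b] ≤ St G α := fun b hb b1 => by
      rw [← C_zpowers]
      exact (C_le_N _).trans (S.F4 (J4 j hj j1) (J1 hj).2 (t_norm_zp (iE b hb)) (by
        rw [C_zpowers]; exact fun e => ne_of_inv (odd_ord_of_mem oV (EV hb)) (iE b hb) b1 (C1_symm e))
        (J4 j' hj' j1') (by rw [C_zpowers]; exact C1_symm (cE hb)))
    have NS : N[V] ≤ SS G {x | Orb X' α x} := fun g hg x hx => by
      obtain ⟨s, hs⟩ := B.iv (Orb.refl _ _)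
      exact S.norm_orb (nX hg) (S.orb_XZ hs.2.1 (XZ_le _ _ hs.1) hs.2.2 (orb_smul hg α)) hx
    refine finΛ _ (Orb.refl _ _) ?_ (inf_le_right.trans NS) (NS tZ) (oc.symm.mono ((XZ_le _ _).trans NS))
    rintro _ ⟨x, hx, rfl⟩
    have EV' : cj x E ≤ V := (cj_mono x EV).trans (cj_of_mem_N (XZ_le _ _ hx)).le
    refine cop_gen_cent1 ((abel_of (PLoc.isEA_ZJOf P).1).of_le EV') (mt cyc_cj.1 nE)
      ((EV'.trans (ZP.trans PD)).trans nA) ((pV.of_le EV').coprime (O_pig _ _)) fun b hb b1 => ?_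
    obtain ⟨b, hb', rfl⟩ := mem_map.1 hb
    rw [← cj_St, show C1[(MulAut.conj x).toMonoidHom b] = cj x C1[b] from (cj_C1 x b).symm]
    exact inf_le_right.trans (cj_mono x (CE b hb' fun e => b1 (by simp [e])))

end A0

end Cfsg.Agent.ZD
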