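import Cfsg.Agent.ZD.A3

/-! # Part A, fourth file: the subgroup `W = [O(E),t]` and the maximal subgroups containing `W⟨t⟩` -/

set_option autoImplicit false
set_option linter.unusedVariables false
set_option linter.unusedSectionVars false

namespace Cfsg.Agent.ZD
open Cfsg Cfsg.Agent.BG Cfsg.Agent.Inv Cfsg.Agent.SE MulAction Subgroup PHom

variable {G Ω : Type*} [Group G] [Finite G] [MulAction G Ω] {Z : Set G}
variable {A B D H K L M M₁ N P Q R T U W X Y : Subgroup G} {a b c d : Ω} {t s s' u k g w f x y z : G} {p q r : ℕ}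
  {π : Set ℕ}

/-- the situation of the main argument -/
structure Ctx (Z : Set G) (t : G) (c : Ω) (W : Subgroup G) : Prop extends A0 Ω Z where
  ht : t ∈ Z
  hc : t • c = c
  exW : ∃ a, a ≠ c ∧ W = tc t O[{2}ᶜ](St2 G a (t • a) ⊓ St G c)
  max : ∀ a, a ≠ c → kc t O[{2}ᶜ](St2 G a (t • a) ⊓ St G c) ≤ kc t W
  one_lt : 1 < kc t W

/-- subgroups that produce bottom pairs -/
structure Bot2 (c : Ω) (M N : Subgroup G) : Prop where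
  le : N ≤ O[{2}ᶜ](M)
  norm : M ⊓ St G c ≤ N[N]
  nle : ¬ N ≤ St G c
  nn : N ≤ N[N ⊓ St G c]
  nf : N ≤ N[F[O[{2}ᶜ](M)] ⊓ St G c]

theorem Bot2.fix (h : Bot2 c M N) (f : G) (hf : f ∈ N) : F[O[{2}ᶜ](M)] ⊓ St G c ≤ St G (f • c) :=
  fix_smul (h.nf hf) inf_le_right

theorem A0.exists_ctx (S : A0 Ω Z) : ∃ (t : G) (c : Ω) (W : Subgroup G), Ctx Z t c W := by
  have := S.ng
  simp only [G1, not_forall] at this
  obtain ⟨t, k, a, c, ht, hc, ok, hi, kc', ka, ac, k1⟩ := this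
  haveI : Finite Ω := Finite.of_surjective (fun g : G => g • c) fun d => S.tr c d
  obtain ⟨b, bc, hm⟩ := exists_max_of (fun a : Ω => a ≠ c) (fun a => kc t O[{2}ᶜ](St2 G a (t • a) ⊓ St G c)) ac
  refine ⟨t, c, _, S, ht, hc, ⟨b, bc, rfl⟩, fun a h => by rw [kc_tc]; exact hm a h, ?_⟩
  rw [kc_tc]
  refine lt_of_lt_of_le ?_ (hm a ac)
  have IE := S.isnE ht hc ac
  have kE : k ∈ St2 G a (t • a) ⊓ St G c := ⟨⟨ka, fix_smul (t_norm_zp hi) (zp_le ka) (mem_zpowers k)⟩, kc'⟩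
  refine lt_of_le_of_ne (kc_pos _ _) fun e => ?_
  exact ne_of_inv ok hi k1 ((kc_eq_one (S.ord ht) (odd_O _) IE.normO).1 e.symm (IE.mem_O kE ok hi))

namespace Ctx
variable (S : Ctx Z t c W)
include S

local notation "𝓞" M:max => O[{2}ᶜ](M)
local notation "𝓕" M:max => F[O[{2}ᶜ](M)]
local notation "𝓓" a:max => St2 G a (t • a)

theorem t2 : orderOf t = 2 := S.ord S.ht
theorem iD (h : a ≠ c) : Isn (𝓓 a) t := S.isnD S.ht (S.ne_smul S.ht S.hc h)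
theorem iE (h : a ≠ c) : Isn (𝓓 a ⊓ St G c) t := S.isnE S.ht S.hc h
theorem Wc : W ≤ St G c := by
  obtain ⟨a, -, rfl⟩ := S.exW; exact (tc_le _ _).trans ((O_le _ _).trans inf_le_right)
theorem oW : Odd #W := by obtain ⟨a, h, e⟩ := S.exW; rw [e]; exact odd_of_le (odd_O _) (tc_le _ _)
theorem tW : t ∈ N[W] := by obtain ⟨a, h, e⟩ := S.exW; rw [e]; exact t_norm_tc _ _
theorem tcW : tc t W = W := by obtain ⟨a, h, e⟩ := S.exW; rw [e]; exact tc_tc _ _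
theorem WD (h : W ≤ St G a) : W ≤ 𝓓 a := le_inf h (fix_smul S.tW h)
theorem WOD (h : a ≠ c) (h1 : W ≤ St G a) : W ≤ O[{2}ᶜ](𝓓 a) := S.tcW.ge.trans ((S.iD h).tc_le (S.WD h1) S.oW)
theorem canon (h : a ≠ c) (h1 : W ≤ St G a) : tc t O[{2}ᶜ](𝓓 a ⊓ St G c) = W := by
  rw [tc, ← inv_eq_of_kc_le (S.tcW.ge.trans ((S.iE h).tc_le (le_inf (S.WD h1) S.Wc) S.oW)) (S.max a h)]
  exact S.tcW
theorem E_norm (h : a ≠ c) (h1 : W ≤ St G a) : 𝓓 a ⊓ St G c ≤ N[W] := by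
  rw [← S.canon h h1]; exact (S.iE h).norm_tc
theorem W_ne : W ≠ ⊥ := by
  obtain ⟨k, hk, k1⟩ := exists_inv_of_lt S.one_lt; exact ne_bot_of_mem hk.1 k1

theorem ND (h1 : W ≤ St G a) : N[𝓓 a] ≠ ⊤ :=
  S.N_ne_top (fun e => S.W_ne (eq_bot_iff.2 (e ▸ S.WD h1))) fun e => S.not_le a (e.ge.trans inf_le_left)

theorem D_nle (h : a ≠ c) (h1 : W ≤ St G a) : ¬ 𝓓 a ≤ St G c := fun e => by
  have e1 : 𝓓 a = St2 G a c := eq_of_card_le (le_inf inf_le_left e) (S.card_D S.ht S.hc h).le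
  obtain ⟨w, ow, wc⟩ := S.swap h.symm
  refine S.s0' (S.ND h1) S.ht (norm_St2 S.t2 a) S.hc h (fun k hk => normG _ (O_le _ _ hk.1)) ⟨w, ?_, wc⟩
  rw [e1, SE.St2_comm, ← wc]; exact norm_St2 (S.ord ow) c

theorem exists_K (h : a ≠ c) (h1 : W ≤ St G a) : ∃ k ∈ invertedBy O[{2}ᶜ](𝓓 a) t, k ∉ St G c :=
  exists_inv_not_mem S.t2 (odd_O _) (S.iD h).normO (fun e => S.D_nle h h1 ((S.iD h).le_of e
    (inf_le_right.trans (S.C1_le S.ht S.hc)))) (inf_le_right.trans (S.C1_le S.ht S.hc))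

theorem exists_M (hL : L ≠ ⊤) (h1 : t ∈ L) (h2 : W ≤ L) (h3 : ¬ L ≤ St G c) : ∃ M, InM t c W M ∧ L ≤ M := by
  obtain ⟨M, hM, le⟩ := (eq_top_or_exists_le_coatom L).resolve_left hL
  exact ⟨M, ⟨hM, le h1, h2.trans le, fun e => h3 (le.trans e)⟩, le⟩

theorem exists_pi : ∃ p, p.Prime ∧ ¬ O[{p}](W) ≤ C1[t] := by
  by_contra hn
  push Not at hn
  exact S.one_lt.ne' ((kc_eq_one S.t2 S.oW S.tW).2 (le_C1_of_F S.t2 S.oW S.tW (F_le_of_O hn)))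

theorem tY (π : Set ℕ) : t ∈ N[O[π](W)] := normO _ (zp_le S.tW) (mem_zpowers t)

theorem dvd_of_pi (hp : p.Prime) (h : ¬ O[{p}](W) ≤ C1[t]) : p ∣ kc t W := by
  have h1 := kc_le_pp S.t2 S.oW S.tW hp (O_le _ _) (O_pig _ _) (S.tY _)
  refine (one_lt_pp hp (kc_pos _ _).ne').1 (lt_of_lt_of_le (lt_of_le_of_ne (kc_pos _ _) fun e => h ?_) h1)
  exact (kc_eq_one S.t2 (odd_of_le S.oW (O_le _ _)) (S.tY _)).1 e.symm

theorem ne_two (hp : p.Prime) (h : p ∣ kc t W) : p ≠ 2 :=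
  ne_two_of_odd hp S.oW (h.trans (kc_dvd S.t2 S.oW S.tW))

theorem A_le (ha : a ≠ c) (h1 : W ≤ St G a) (h : 𝓓 a ⊓ C[O[{p}](W)] ≤ St G c) : O[{p}ᶜ](O[{2}ᶜ](𝓓 a)) ≤ St G c := by
  by_contra hn
  exact S.cent_not_le S.ht S.hc (odd_of_le (odd_O _) (O_le _ _)) (normO _ (zp_le (S.iD ha).normO) (mem_zpowers t))
    hn (odd_O _) (S.iE ha).normO ((O_le _ _).trans inf_le_right)
    (((O_le _ _).trans inf_le_left).trans (normO _ (O_norm _ _)))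
    (by rw [S.canon ha h1]; exact O_le _ _) ((O_pig _ _).coprime (O_pig _ _))
    ((inf_le_inf_right _ ((O_le _ _).trans (O_le _ _))).trans h)

theorem lt_of_A (ha : a ≠ c) (h1 : W ≤ St G a) (hp : p.Prime) (hd : p ∣ kc t W)
    (h : O[{p}ᶜ](O[{2}ᶜ](𝓓 a)) ≤ St G c) (h2 : O[{p}ᶜ](W) ≤ C1[t]) :
    pp p (kc t W) < pp p (nI Z (⊤ : Subgroup G) c) := by
  by_contra hn
  have p2 := S.ne_two hp hd
  have I := S.iD ha
  have oA := odd_of_le (odd_O (𝓓 a)) (O_le {p}ᶜ _)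
  have AC : O[{p}ᶜ](O[{2}ᶜ](𝓓 a)) ≤ C1[t] := by
    have l : tc t O[{p}ᶜ](O[{2}ᶜ](𝓓 a)) ≤ W := by
      rw [← S.canon ha h1]; exact (S.iE ha).tc_le' (le_inf ((O_le _ _).trans (O_le _ _)) h) oA
    exact le_C1_of_tc S.t2 oA (normO _ (zp_le I.normO) (mem_zpowers t)) ((le_inf l (tc_le _ _)).trans
      ((le_O inf_le_left (normI (normG _) ((S.WD h1).trans (normO _ (O_norm _ _))))
        ((O_pig _ _).of_le inf_le_right)).trans h2))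
  obtain ⟨P₀, hP₀, tP₀, -⟩ := exists_syl_inv S.t2 S.oW S.tW hp bot_le (pig_bot _) (norm_bot ⊤ (mem_top _))
  obtain ⟨P, hP, tP, le⟩ := I.syl hp p2 (hP₀.le.trans (S.WD h1)) hP₀.pi tP₀
  have e0 := kc_syl S.t2 S.oW S.tW hp hP₀ tP₀
  have e := inv_eq_of_kc_le (t := t) le (by
    rw [I.kc_syl hp p2 hP tP, S.kc_D S.ht (S.ne_smul S.ht S.hc ha) c, e0]
    exact not_lt.1 hn)
  obtain ⟨k, hk, k1⟩ := exists_inv_of_lt (t := t) (X := P₀) (by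
    rw [e0]; exact (one_lt_pp hp (kc_pos _ _).ne').2 hd)
  have oP := odd_of_p hP.pi p2
  have Pc := S.le_St_of_inv S.ht S.hc oP tP fun k hk => S.Wc (hP₀.le (e ▸ hk).1)
  have hP' : Syl p P (⊤ ⊓ St2 G c a) := by
    rw [top_inf_eq, SE.St2_comm]
    exact syl_of_card hp (le_inf (hP.le.trans inf_le_left) Pc) hP.pi
      (by rw [S.card_D S.ht S.hc ha, Syl.card_pp hP hp])
  obtain ⟨w, ow, wc⟩ := S.swap ha.symm
  obtain ⟨u, hu, -, uc⟩ := S.swap_norm hp p2 ha.symm (mem_top w) ow wc hP'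
  exact S.s0' (S.N_ne_top' (ZJ_ne_bot hP.pi (ne_bot_of_mem (le hk.1) k1)) (odd_of_le oP (ZJ_le _))) S.ht
    (normZJ (zp_le tP) (mem_zpowers t)) S.hc ha (fun k hk => I.zj_step hp p2 hP tP AC (mem_tc hk))
    ⟨u, normZJ le_rfl hu.2, uc⟩

section M
variable (hM : InM t c W M)
include hM

theorem rk1 : ¬ FourZ Z M := by
  obtain ⟨k, hk, k1⟩ := exists_inv_of_lt S.one_lt
  exact S.bt hM.co.1 S.ht hM.mem S.hc hM.nle (hM.le hk.1) (S.Wc hk.1) (odd_ord_of_mem S.oW hk.1) hk.2 k1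

theorem iM : Isn M t := S.isn4 (S.rk1 hM) S.ht hM.mem
theorem tO : t ∈ N[𝓞 M] := O_norm _ _ hM.mem
theorem WO : W ≤ 𝓞 M := S.tcW.ge.trans ((S.iM hM).tc_le hM.le S.oW)
theorem nF : M ≤ N[𝓕 M] := normF (O_norm _ _)
theorem FM : 𝓕 M ≤ M := (F_le _).trans (O_le _ _)
theorem oF : Odd #(𝓕 M) := odd_of_le (odd_O M) (F_le _)

theorem O_nle : ¬ 𝓞 M ≤ St G c := fun e => hM.nle fun m hm => by
  obtain ⟨o, ho, h⟩ := S.rk1_trans (S.rk1 hM) S.ht hM.mem S.hc (orb_smul hm c)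
  exact h.symm.trans (e ho)

theorem exists_bot : ∃ N, Bot2 c M N := by
  by_cases h : 𝓕 M ≤ St G c
  · obtain ⟨N, -, ⟨h1, h2, h3⟩, hm⟩ := exists_minimal
      (P := fun N : Subgroup G => N ≤ 𝓞 M ∧ M ≤ N[N] ∧ ¬ N ≤ St G c) ⟨le_rfl, O_norm _ _, S.O_nle hM⟩
    refine ⟨N, h1, inf_le_left.trans h2, h3, norm_of_der_le (le_inf (der_le _) ?_) inf_le_left, by
      rw [inf_eq_left.2 h]; exact h1.trans (F_norm _)⟩
    by_contra hn
    exact ((sol_of_odd (odd_of_le (odd_O M) h1)).der_lt (fun e => h3 (e ▸ bot_le))).ne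
      (hm _ ⟨(der_le _).trans h1, normD h2, hn⟩ (der_le _))
  · have lt := (F_nil (𝓞 M)).lt_norm (inf_lt_left.2 h)
    have n1 : M ⊓ St G c ≤ N[𝓕 M ⊓ St G c] := normI (inf_le_left.trans (S.nF hM)) (normsG inf_le_right)
    refine ⟨𝓕 M ⊓ N[𝓕 M ⊓ St G c], inf_le_left.trans (F_le _), normI (inf_le_left.trans (S.nF hM)) (normN n1),
      fun e => lt.not_ge (le_inf inf_le_left e), ?_, inf_le_right⟩
    rw [show 𝓕 M ⊓ N[𝓕 M ⊓ St G c] ⊓ St G c = 𝓕 M ⊓ St G c from le_antisymm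
      (inf_le_inf_right _ inf_le_left) (le_inf lt.le inf_le_right)]
    exact inf_le_right

theorem bot_t (hN : Bot2 c M N) : t ∈ N[N] := hN.norm ⟨hM.mem, S.hc⟩

theorem bot_x (hN : Bot2 c M N) : ∃ x ∈ invertedBy N t, x • c ≠ c :=
  exists_inv_not_mem S.t2 (odd_of_le (odd_O M) hN.le) (S.bot_t hM hN) hN.nle
    (inf_le_right.trans (S.C1_le S.ht S.hc))

theorem bot_fix (hN : Bot2 c M N) (hf : f ∈ N) : tc t (𝓞 M ⊓ St G c) ≤ St G (f • c) :=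
  S.tc_fix S.ht S.hc (odd_of_le (odd_O M) hN.le) (S.bot_t hM hN) hN.nn (odd_of_le (odd_O M) inf_le_left)
    inf_le_right ((inf_le_inf_right _ (O_le _ _)).trans hN.norm) hf

theorem tc_O : tc t (𝓞 M ⊓ St G c) = W := by
  obtain ⟨N, hN⟩ := S.exists_bot hM
  obtain ⟨x, hx, xc⟩ := S.bot_x hM hN
  have h1 : W ≤ tc t (𝓞 M ⊓ St G c) := S.tcW.ge.trans (tc_mono _ (le_inf (S.WO hM) S.Wc))
  have h2 := S.bot_fix hM hN hx.1
  refine le_antisymm ?_ h1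
  rw [← tc_tc, ← S.canon xc (h1.trans h2)]
  exact (S.iE xc).tc_le' (le_inf (le_inf h2 (fix_smul (t_norm_tc _ _) h2)) ((tc_le _ _).trans inf_le_right))
    (odd_of_le (odd_O M) ((tc_le _ _).trans inf_le_left))

theorem bot_W (hN : Bot2 c M N) (hf : f ∈ N) : W ≤ St G (f • c) := S.tc_O hM ▸ S.bot_fix hM hN hf

theorem O_W_le (π : Set ℕ) : O[π](W) ≤ O[π](𝓞 M) := by
  rw [← S.tc_O hM]
  exact O_tc_le S.t2 (odd_O M) (S.tO hM) inf_le_left (normI (zp_le (S.tO hM)) (normsG (zp_le S.hc)) (mem_zpowers t))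
    (inf_le_inf_left _ (S.C1_le S.ht S.hc)) π

theorem Y_le (p : ℕ) : O[{p}](W) ≤ O[{p}](𝓕 M) := by rw [O_F]; exact S.O_W_le hM _

theorem X_cent (p : ℕ) : O[{p}ᶜ](𝓕 M) ≤ C[O[{p}](W)] := (O_cent_O' _ _).trans (centS (S.Y_le hM p))

theorem tc_le_W (h : X ≤ M ⊓ St G c) (hX : Odd #X) : tc t X ≤ W := by
  rw [← S.tc_O hM, ← tc_tc]
  exact tc_mono _ (le_inf ((S.iM hM).tc_le (h.trans inf_le_left) hX)
    ((tc_le _ _).trans (h.trans inf_le_right)))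

theorem MD_le (ho : Orb M c a) (ha : a ≠ c) (h1 : W ≤ St G a) : M ⊓ 𝓓 a ≤ St G c := by
  obtain ⟨s, hs⟩ := S.exists_iv S.ht hM.mem S.hc ho
  have e := S.kc_eq_nI S.ht hM.mem (S.ne_smul S.ht S.hc ha) hs
  rw [← S.nI_orb ho] at e
  have le : nI Z M c ≤ kc t W := Set.ncard_le_ncard_of_injOn (fun u => t * u) (fun u hu => by
    rw [← S.tc_O hM, inv_tc]
    refine ⟨⟨S.rk1_mul (S.rk1 hM) S.ht hM.mem hu.2.1 hu.1, mul_mem (S.hc : t ∈ St G c) hu.2.2⟩, ?_⟩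
    rw [mul_inv_rev, S.inv hu.2.1, ← mul_assoc, S.sq S.ht, one_mul])
    (fun _ _ _ _ h => mul_left_cancel h)
  have I := S.isnM S.ht hM.mem (S.ne_smul S.ht S.hc ha)
  have e2 := inv_eq_of_kc_le (t := t) (S.tcW.ge.trans (I.tc_le (le_inf hM.le (S.WD h1)) S.oW)) (e ▸ le)
  exact I.le_of (S.le_St_of_inv S.ht S.hc (odd_O _) I.normO fun k hk => S.Wc (e2 ▸ hk).1)
    (inf_le_right.trans (S.C1_le S.ht S.hc))

theorem le_F (h1 : U ≤ M) (h2 : M ≤ N[U]) (h3 : Nil U) (h4 : Odd #U) : U ≤ 𝓕 M :=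
  BG.le_F (le_O h1 h2 (pig2_of_odd h4)) ((O_le _ _).trans h2) h3

/-- an `r`-group centralizing `F` with `r ∤ |F|` centralizes `O(M)` -/
theorem cent_O (h1 : R ≤ M) (h2 : R ≤ C[𝓕 M]) (h3 : (#R).Coprime #(𝓕 M)) : R ≤ C[𝓞 M] := by
  have l : ⁅𝓞 M, R⁆ ≤ 𝓕 M := (le_inf (commL (h1.trans (O_norm _ _))) ((commS le_rfl h2).trans
    (commR (normC (F_norm _))))).trans (C_F_le (sol_of_odd (odd_O M)))
  exact cent_symm ((cop_prod_of_comm_le (h1.trans (S.nF hM)) h3 (.inr (F_nil _).sol) (F_le _) l).sup.ge.trans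
    (sup_le inf_le_right (cent_symm h2)))

theorem N_le' (h1 : U ≠ ⊥) (h2 : M ≤ N[U]) (h3 : U ≠ ⊤) : N[U] ≤ M :=
  ((hM.co.le_iff.1 h2).resolve_left (S.N_ne_top h1 h3)).le

theorem N_le (h1 : U ≠ ⊥) (h2 : M ≤ N[U]) (h3 : Odd #U) : N[U] ≤ M :=
  ((hM.co.le_iff.1 h2).resolve_left (S.N_ne_top' h1 h3)).le

theorem C_le (h1 : U ≠ ⊥) (h2 : M ≤ N[U]) (h3 : Odd #U) : C[U] ≤ M := (C_le_N _).trans (S.N_le hM h1 h2 h3)

theorem no_syl (hp : p.Prime) (hd : p ∣ kc t W) (hlt : pp p (kc t W) < pp p (nI Z (⊤ : Subgroup G) c))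
    (h1 : P ≤ M) (tP : t ∈ N[P]) : ¬ Syl p P ⊤ := fun hP => by
  obtain ⟨a, ac, e⟩ := S.exW
  refine S.sc hp S.ht S.hc ac (by rw [← kc_tc, ← e]; exact hd) hP tP fun R hR tR => lt_of_le_of_lt ?_ hlt
  have pR := hP.pi.of_le (hR.trans inf_le_left)
  rw [← kc_tc]
  exact kc_le_pp S.t2 S.oW S.tW hp (S.tc_le_W hM (hR.trans (inf_le_inf_right _ h1))
    (odd_of_pig2 (pR.ne_compl (S.ne_two hp hd)))) (pR.of_le (tc_le _ _)) (t_norm_tc _ _)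

end M

end Ctx

end Cfsg.Agent.ZD
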