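import Cfsg.Agent.ZD.C21c

/-!
# End game, `i = 1`: `|Ω| = q³ + 1`

`H = G_a`, `J = J a`, `C = C(J)`, `r` bad, `V = C_C(r) = J ⟨r⟩`, `N = N_C(V) = E ⟨r⟩` (`C21b`, `C21c`), `P ≥ N` Sylow in `H`, `M = N_H(N) ≥ P`.
All conjugates of `r` in `P` lie in `E r`, so by transfer `r` lies in every `K ≥ E` with `P / K` abelian.  For `q = 2 ^ m`, `m` odd take the kernel of
the determinant on `E`.  If `P ≤ C` take `K = E`.  If `C ⊓ M ≰ N` then `H = C D` and `noidx` gives `P ≤ C`.  Otherwise `M / N` is a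
2-transitive group on the cosets of `J` in `E r` without normal 2-subgroup, impossible for `m` even (`aff`).
-/

set_option autoImplicit false
set_option linter.unusedVariables false
set_option linter.unusedSectionVars false

namespace Cfsg.Agent.ZD
open Cfsg Cfsg.Agent.BG Cfsg.Agent.Inv Cfsg.Agent.SE MulAction Subgroup PHom

variable {G Ω : Type*} [Group G] [Finite G] [MulAction G Ω] {Z : Set G} {q : ℕ}

namespace C21
variable {a b c d : Ω} {g r : G} {E P : Subgroup G} (S : C2 Ω Z q 1) (hr : Bd Z a r)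
  (hE : ∀ y, y ∈ E ↔ y ∈ NN Z a r ∧ Bd Z a (y * r)) (hP : Syl 2 P (St G a)) (h2 : NN Z a r ≤ P)
include S hr hE hP h2

theorem caseOdd {m : ℕ} (hq : q = 2 ^ m) (hm : Odd m) : False := by
  let _ : CommGroup E := { (inferInstance : Group E) with mul_comm := fun x y => Subtype.ext (hr.abE S hE x.2 y.2) }
  obtain ⟨χ, hχ⟩ := det_hom (E := E) (n := m) (fun x => Subtype.ext (by
      rw [show 4 = 2 + 2 from rfl, pow_add, pow_two]; exact S.J_sq (hr.sqJ S hE x.2)))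
    (fun x i => let ⟨y, j, e⟩ := hr.root S hE (hr.omE S hE x.2 (by rw [← pow_two]; exact congrArg Subtype.val i))
      ⟨⟨y, j⟩, Subtype.ext (by rw [← e, pow_two]; rfl)⟩)
    (by rw [hr.cardE S hE, hq, ← pow_mul, mul_comm, pow_mul]; rfl) hm
  let f := (χ.comp E.normalizerMonoidHom).toHomUnits
  have PN : P ≤ N[E] := fun g i => hr.normE S hE (hP.le i) (hr.sylM S hE hP.pi hP.le h2 i)
  have EP := (hr.EN S hE).trans h2
  refine hr.kill S hE hP h2 (K := P ⊓ f.ker.map (N[E]).subtype) inf_le_left (fun y i => ⟨EP i, ⟨y, normG E i⟩, ?_, rfl⟩)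
    (fun ⟨_, ⟨y, i⟩, j, e⟩ => hχ ?_) fun x i y j => mem_inf.2 ⟨mul_mem (mul_mem (mul_mem i j) (inv_mem i)) (inv_mem j),
      ⟨x, PN i⟩ * ⟨y, PN j⟩ * ⟨x, PN i⟩⁻¹ * ⟨y, PN j⟩⁻¹, by
        rw [SetLike.mem_coe, MonoidHom.mem_ker, map_mul, map_mul, map_mul, map_inv, map_inv, mul_inv_cancel_comm,
          mul_inv_cancel], rfl⟩
  · refine Units.ext ((congrArg χ (MulEquiv.ext fun x => Subtype.ext ?_)).trans χ.map_one)
    exact mul_inv_eq_iff_eq_mul.2 (hr.abE S hE i x.2)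
  · obtain rfl : y = r := e
    exact (congrArg χ (MulEquiv.ext fun x => Subtype.ext (hr.invE S hE x.2).symm)).trans (congrArg Units.val j)

theorem caseC (h : P ≤ C[JJ Z a]) : False := by
  have sq : ∀ g ∈ P, g * g ∈ E := fun g i => by
    have n := hr.sylM S hE hP.pi hP.le h2 i
    have e := hr.dE S hE (hP.le i) n
    have e' := conj_mem (hr.normE S hE (hP.le i) n) e
    have j : g * g ∈ NN Z a r := hr.memN S (mul_mem (h i) (h i)) (by
      convert hr.omE S hE (mul_mem e' e) ?_ using 1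
      · group
      generalize g * r * g⁻¹ * r⁻¹ = x at e e'
      rw [← pow_two, Commute.mul_pow (hr.abE S hE e' e), conj_pow, pow_two,
        ← mem_C.1 (h i) _ (hr.sqJ S hE e), mul_inv_cancel_right, S.J_sq (hr.sqJ S hE e)])
    exact (hE _).2 ⟨j, (hr.alt S j).resolve_left fun l => ne_one_of_ord2 l.bad.1
      (l.sqV S ⟨h i, mem_C1.2 (mul_assoc g g g).symm⟩)⟩
  refine hr.kill S hE hP h2 ((hr.EN S hE).trans h2) le_rfl (hr.rE S hE) fun x i y j => ?_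
  convert mul_mem (mul_mem (sq x i) (sq _ (mul_mem (inv_mem i) j))) (sq _ (inv_mem j)) using 1; group

theorem caseT (ba : b ≠ a) (hb : r • b = b) (hg : g ∈ C[JJ Z a]) (gN : g ∈ N[NN Z a r]) (n : g ∉ NN Z a r) :
    P ≤ C[JJ Z a] := by
  have ga := S.CJ_le a hg
  have tr : ∀ c, c ≠ a → Orb C[JJ Z a] b c := fun c ca => by
    obtain ⟨x, xN, hx, xc⟩ := hr.cover S hE ca
    have e := hr.BE S hE xN hx
    obtain ⟨t, tC, tN, i⟩ : ∃ t ∈ C[JJ Z a], t ∈ N[NN Z a r] ∧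
        t * r * t⁻¹ * r⁻¹ * (t * r * t⁻¹ * r⁻¹) = x * r⁻¹ * (x * r⁻¹) := by
      by_cases j : x * r⁻¹ * (x * r⁻¹) = 1
      · exact ⟨1, one_mem _, one_mem _, by simp [j]⟩
      have d := hr.dE S hE ga gN
      obtain ⟨k, hk, l⟩ := S.Ktrans a b ba.symm _ (hr.sqJ S hE d) _ (hr.sqJ S hE e)
        (fun l => n (hr.memN S hg (hr.omE S hE d l))) j
      obtain ⟨ka, kr, kN⟩ := hr.K S ba hb hk
      refine ⟨_, conj_mem (HC S ka) hg, conj_mem (normG _ kN) gN, ?_⟩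
      have o : k⁻¹ * r * k = r := by rw [mul_assoc, ← mem_C1.1 kr, inv_mul_cancel_left]
      rw [← l, ← conj_mul]
      congr 1 <;> rw [show k * g * k⁻¹ * r * (k * g * k⁻¹)⁻¹ * r⁻¹ = k * (g * (k⁻¹ * r * k) * g⁻¹ * (k⁻¹ * r * k)⁻¹) * k⁻¹ by
        group, o]
    have ta := S.CJ_le a tC
    have d := hr.dE S hE ta tN
    obtain ⟨y, yN, j⟩ := (hr.cj S ta).surj S (hr.omE S hE (mul_mem e (inv_mem d)) (by
      rw [← pow_two, Commute.mul_pow (hr.abE S hE e (inv_mem d)), inv_pow, pow_two, pow_two, i, mul_inv_cancel]))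
    rw [show x * r⁻¹ * (t * r * t⁻¹ * r⁻¹)⁻¹ * (t * r * t⁻¹) = x * (t * r * t⁻¹)⁻¹ * (t * r * t⁻¹) by group,
      inv_mul_cancel_right] at j
    have ya := S.CJ_le a yN.1
    exact ((orb_smul tC b).smul yN.1).trans ((line1 S (hx.C S) (ne_one_of_ord2 hx.bad.1)
      (j ▸ conj_smul_fix (conj_smul_fix hb t) y) xc (ne_smul S ya (ne_smul S ta ba)) ca).mono (S.abJ a))
  have dec : ∀ g ∈ St G a, ∃ c ∈ C[JJ Z a], ∃ d ∈ St2 G a b, g = c * d := fun g i => by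
    obtain ⟨c, j, l⟩ := tr _ (ne_smul S i ba)
    exact ⟨c, j, c⁻¹ * g, mem_inf.2 ⟨mul_mem (inv_mem (S.CJ_le a j)) i, by
      rw [mem_St, mul_smul, ← l, inv_smul_smul]⟩, by group⟩
  have KH : KK Z a b ≤ St G a := (S.Kle a b ba.symm).trans inf_le_left
  have NH := sup_le (S.CJ_le a) KH
  have o := S.noidx a _ NH (comm_le_iff.2 fun g i h j => by
    obtain ⟨c, i1, d, i2, rfl⟩ := dec g i
    obtain ⟨c', j1, d', j2, rfl⟩ := dec h j
    have l : d * d' * d⁻¹ * d'⁻¹ ∈ C[JJ Z a] ⊔ KK Z a b := by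
      have t := commutator_mem_commutator i2 j2
      have t1 := (S.Kcyc a b ba.symm).der_cent (S.Knorm a b ba.symm) t
      have t2 := (der_le _ t).1
      rw [commutatorElement_def] at t1 t2
      generalize d * d' * d⁻¹ * d'⁻¹ = t at t1 t2
      obtain ⟨z, zZ, za⟩ := S.exists_J a
      have hz := (S.memJ a z).2 (.inr ⟨zZ, za⟩)
      obtain ⟨k, hk, e⟩ := S.Ktrans a b ba.symm z hz _ (conj_mem (S.normJ a t2) hz) (S.ne_one zZ)
        (by simpa using S.ne_one zZ)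
      rw [← mul_inv_cancel_left k t]
      refine mul_mem (mem_sup_right hk) (mem_sup_left (mem_C.2 fun u hu => ?_))
      by_cases u1 : u = 1
      · simp [u1]
      obtain ⟨k', hk', rfl⟩ := S.Ktrans a b ba.symm z hz u hu (S.ne_one zZ) u1
      have p : k⁻¹ * t ∈ C1[k'] := C_le_C1 hk' (mul_mem (inv_mem ((S.Kcyc a b ba.symm).abel hk)) t1)
      have p' : k⁻¹ * t ∈ C1[z] := mem_C1.2 (by rw [mul_assoc, mul_inv_eq_iff_eq_mul.1 e.symm]; group)
      exact mem_C1.1 (mul_mem (mul_mem (C1_symm p) (C1_symm p')) (inv_mem (C1_symm p)))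
    convert mul_mem (mul_mem (mul_mem (mul_mem (mem_sup_left i1) (mem_sup_left (conj_mem (HC S i2.1) j1)))
      (mem_sup_left (conj_mem (HC S (conj_mem (normG _ i2.1) j2.1)) (inv_mem i1)))) l) (mem_sup_left (inv_mem j1)) using 1
    group)
  refine le_of_cop_relIndex (HC S) hP.le ?_
  obtain ⟨n, e⟩ := IsPGroup.iff_card.1 (hP.pi.pg Nat.prime_two)
  rw [e, ← relIndex_mul_relIndex _ _ _ le_sup_left NH, relIndex_sup_l (KH.trans (HC S))]
  exact (Nat.coprime_two_left.2 (((oddK S ba).of_dvd_nat (relIndex_dvd _ _)).mul o)).pow_left n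

theorem caseA (ba : b ≠ a) (hb : r • b = b) {m : ℕ} (hq : q = 2 ^ m) (hm : Even m)
    (h : C[JJ Z a] ⊓ N[NN Z a r] ≤ NN Z a r) : False := by
  obtain ⟨M, hM⟩ : ∃ M, M = St G a ⊓ N[NN Z a r] := ⟨_, rfl⟩
  have M1 : ∀ g : M, (g : G) • a = a := fun g => (hM.le g.2).1
  have M2 : ∀ g : M, (g : G) ∈ N[NN Z a r] := fun g => (hM.le g.2).2
  have dE := fun g : M => hr.dE S hE (M1 g) (M2 g)
  let _ : MulAction M (JJ Z a) :=
    { smul := fun g u => ⟨g * u * g.1⁻¹ * (g * r * g.1⁻¹ * r⁻¹ * (g * r * g.1⁻¹ * r⁻¹)),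
        mul_mem (conj_mem (S.normJ a (M1 g)) u.2) (hr.sqJ S hE (dE g))⟩
      one_smul := fun u => Subtype.ext (by change _ * _ = _; simp)
      mul_smul := fun g h u => Subtype.ext (by
        have i := hr.abE S hE (dE g) (conj_mem (hr.normE S hE (M1 g) (M2 g)) (dE h))
        change (g * h : G) * u * (g * h : G)⁻¹ * (g * h * r * (g * h : G)⁻¹ * r⁻¹ * (g * h * r * (g * h : G)⁻¹ * r⁻¹)) =
          g * (h * u * h.1⁻¹ * (h * r * h.1⁻¹ * r⁻¹ * (h * r * h.1⁻¹ * r⁻¹))) * g.1⁻¹ *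
            (g * r * g.1⁻¹ * r⁻¹ * (g * r * g.1⁻¹ * r⁻¹))
        rw [show g * h * r * (g * h : G)⁻¹ * r⁻¹ = g * (h * r * h.1⁻¹ * r⁻¹) * g.1⁻¹ * (g * r * g.1⁻¹ * r⁻¹) by group]
        generalize (h : G) * r * h.1⁻¹ * r⁻¹ = x at i
        generalize (g : G) * r * g.1⁻¹ * r⁻¹ = y at i
        rw [mul_assoc _ y, ← mul_assoc y, i]; group) }
  have sm : ∀ (g : M) (u : JJ Z a), ((g • u : JJ Z a) : G) =
      g * u * g.1⁻¹ * (g * r * g.1⁻¹ * r⁻¹ * (g * r * g.1⁻¹ * r⁻¹)) := fun _ _ => rfl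
  let φ := (toPermHom M (JJ Z a)).rangeRestrict
  have ap : ∀ (g : M) (u : JJ Z a), φ g • u = g • u := fun _ _ => rfl
  have fa : ∀ g : (toPermHom M (JJ Z a)).range, (∀ u : JJ Z a, g • u = u) → g = 1 := fun g i => Subtype.ext (Equiv.ext i)
  have k1 : ∀ g : M, g.1 ∈ NN Z a r → φ g = 1 := fun g i => fa _ fun u => Subtype.ext (by
    rw [ap, sm, ← mem_C.1 i.1 u u.2, S.J_sq (i.2 r (hr.V S))]; simp)
  have k2 : ∀ g : M, φ g = 1 → g.1 ∈ NN Z a r := fun g i => h ⟨mem_C.2 fun u j => by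
    have l := sm g 1
    have n := sm g ⟨u, j⟩
    rw [← ap, i, one_smul] at l n
    rw [OneMemClass.coe_one, mul_one, mul_inv_cancel, one_mul] at l
    rw [← l, mul_one, eq_mul_inv_iff_mul_eq] at n
    exact n, M2 g⟩
  have KM : KK Z a b ≤ M := fun k i => hM.ge ⟨(hr.K S ba hb i).1, (hr.K S ba hb i).2.2⟩
  have sK : ∀ (k : M) (u : JJ Z a), k.1 ∈ KK Z a b → ((φ k • u : JJ Z a) : G) = k * u * k.1⁻¹ := fun k u i => by
    rw [ap, sm, mem_C1.1 (hr.K S ba hb i).2.1]; simp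
  have NM : NN Z a r ≤ M := fun x i => hM.ge ⟨S.CJ_le a i.1, normG _ i⟩
  have t1 : ∀ u : JJ Z a, ∃ g, φ g • (1 : JJ Z a) = u := fun u => by
    obtain ⟨e, i, j⟩ := hr.root S hE u.2
    have l := ((hE e).1 i).2
    obtain ⟨c, ca, hc⟩ := l.pt S
    obtain ⟨g, hg, rfl⟩ := syl_tr S hP ba ca
    have n := hr.sylM S hE hP.pi hP.le h2 hg
    have rN := hr.VN S (hr.V S)
    refine ⟨⟨g, hM.ge ⟨hP.le hg, n⟩⟩, Subtype.ext ?_⟩
    rw [ap, sm, (hr.cj S (hP.le hg)).uniq S l ca (conj_smul_fix hb g) hc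
      ((hr.pigN S).elt (mul_mem (conj_mem n rN) (mul_mem (hr.EN S hE i) rN))), ← j]; simp
  obtain ⟨m, rfl⟩ : ∃ n, m = n + 1 := ⟨m - 1, by
    have := S.four_le; rcases m with _ | m <;> simp_all⟩
  obtain ⟨N, n1, n2, n3⟩ := aff (a := (1 : JJ Z a)) (K := ((KK Z a b).subgroupOf M).map φ) fa ((S.cardJ a).trans hq)
    (fun u v => by
      obtain ⟨g, rfl⟩ := t1 u
      obtain ⟨h, rfl⟩ := t1 v
      exact ⟨φ h * (φ g)⁻¹, by rw [mul_smul, inv_smul_smul]⟩) ⟨by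
      rintro _ ⟨k, i, rfl⟩; exact Subtype.ext (by rw [sK k 1 i]; simp), fun x i => by
      obtain ⟨g, rfl⟩ := (toPermHom M (JJ Z a)).rangeRestrict_surjective x
      have j := sm g 1
      rw [← ap, mem_St.1 i, OneMemClass.coe_one, mul_one, mul_inv_cancel, one_mul] at j
      obtain ⟨y, l, n⟩ := hr.surj S (hr.omE S hE (dE g) j.symm)
      rw [inv_mul_cancel_right] at n
      have o : y⁻¹ * g ∈ C1[r] := mem_C1.2 (by rw [mul_assoc, mul_inv_eq_iff_eq_mul.1 n.symm]; group)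
      have oa : (y⁻¹ * g) • a = a := mul_mem (inv_mem (S.CJ_le a l.1)) (M1 g)
      obtain ⟨u, hu, p⟩ := line1 S (hr.C S) (ne_one_of_ord2 hr.bad.1) (by
        rw [← mul_smul, ← mem_C1.1 o, mul_smul, hb]) hb (ne_smul S oa ba) ba
      have w := mul_mem (hr.VN S (hr.JV S hu)) (inv_mem l)
      rw [← one_mul (φ g), ← k1 ⟨_, NM w⟩ w, ← map_mul]
      refine le_normalizer_map φ (mem_map_of_mem φ (mem_N_of fun k t => mem_subgroupOf.2 (conj_mem (g := u * y⁻¹ * g)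
        (S.Knorm a b ba.symm (SE.mem_St2.2 ⟨?_, ?_⟩)) t))) <;> rw [mul_assoc, mul_smul]
      exacts [by rw [oa]; exact JJ_le Z a hu, p],
      Cyc.map ((S.Kcyc a b ba.symm).equiv (subgroupOfEquivOfLe KM).symm) φ, fun u v i j => by
      obtain ⟨k, l, n⟩ := S.Ktrans a b ba.symm u u.2 v v.2 (by simpa using i) (by simpa using j)
      exact ⟨_, mem_map_of_mem φ (show ⟨k, KM l⟩ ∈ _ from l), Subtype.ext ((sK ⟨k, KM l⟩ u l).trans n)⟩, by
      have : Fact (Nat.Prime 3) := ⟨Nat.prime_three⟩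
      obtain ⟨k, o⟩ := exists_prime_orderOf_dvd_card' (G := KK Z a b) 3 (by
        obtain ⟨n, e⟩ := hm
        have i := S.Kcard a b ba.symm
        have j := Nat.pow_mod 4 n 3
        rw [hq, e, ← two_mul, pow_mul] at i
        simp at j i; omega)
      refine ⟨_, mem_map_of_mem φ (show ⟨k, KM k.2⟩ ∈ _ from k.2), orderOf_eq_prime (by
        rw [← map_pow, show (⟨k, KM k.2⟩ ^ 3 : M) = 1 from Subtype.ext (show k.1 ^ 3 = 1 by
          rw [← o, ← orderOf_coe, pow_orderOf_eq_one]),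
          map_one]) fun e => ?_⟩
      obtain ⟨z, zZ, za⟩ := S.exists_J a
      have hz := (S.memJ a z).2 (.inr ⟨zZ, za⟩)
      rw [show k = 1 from Subtype.ext (S.Kfree a b ba.symm k k.2 z hz (S.ne_one zZ) (mem_C.1 (k2 _ e).1 z hz).symm),
        orderOf_one] at o
      omega⟩
  have R : PiG {2} ((N.comap φ).map M.subtype) := (pig_iff Nat.prime_two).2 ((n2.comap_of_ker_isPGroup φ
    fun g => by simpa [Subtype.ext_iff] using ((hr.pigN S).elt (k2 _ g.2)).pow_eq_one Nat.prime_two).map _)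
  have RM : M ≤ N[(N.comap φ).map M.subtype] := fun g i => mem_N_of (by
    rintro _ ⟨x, j, rfl⟩; exact ⟨_, (n1.comap φ).conj_mem x j ⟨g, i⟩, rfl⟩)
  obtain ⟨z, ⟨hz, zC⟩, z1⟩ := Inv.exists_ne_one (PiG.meet_C (V := JJ Z a) (by rw [PiG, S.cardJ]; exact pinq S) R
    ((map_subtype_le _).trans (hM.le.trans (inf_le_left.trans (S.normJ a)))) fun e => by
      have i := S.cardJ a; have := S.four_le; rw [e, card_bot'] at i; omega)
  refine n3 (eq_bot_iff.2 fun x i => ?_)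
  obtain ⟨g, rfl⟩ := (toPermHom M (JJ Z a)).rangeRestrict_surjective x
  refine k1 g (h ⟨mem_C.2 fun u hu => ?_, M2 g⟩)
  by_cases u1 : u = 1
  · simp [u1]
  obtain ⟨k, hk, rfl⟩ := S.Ktrans a b ba.symm z hz u hu z1 u1
  exact (mem_C.1 (conj_mem (normC RM (KM hk)) zC) g ⟨g, i, rfl⟩).symm

end C21
open C21

theorem C2.false1 (S : C2 Ω Z q 1) : False := by
  obtain ⟨a, b, ab⟩ := S.nt.exists_pair_ne
  obtain ⟨r, h, ha, hb⟩ := S.exists_bad ab
  have hr : Bd Z a r := ⟨h, ha⟩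
  obtain ⟨E, hE⟩ := hr.exE S
  obtain ⟨P, hP, h2⟩ := syl_superset Nat.prime_two (U := NN Z a r) (fun x i => S.CJ_le a i.1) (hr.pigN S)
  obtain ⟨m, -, hq⟩ := S.pow
  rcases m.even_or_odd with hm | hm
  · exact caseA S hr hE hP h2 ab.symm hb hq hm fun g i => by_contra fun n =>
      caseC S hr hE hP h2 (caseT S hr hE hP h2 ab.symm hb i.1 i.2 n)
  · exact caseOdd S hr hE hP h2 hq hm

end Cfsg.Agent.ZD
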