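import Cfsg.Agent.ZD.C2def
import Cfsg.Agent.S0200

/-! # End game, `i = 1`: general lemmas (orbits, an affine 2-transitive group, a determinant) -/

set_option autoImplicit false
set_option linter.unusedVariables false
set_option linter.unusedSectionVars false

namespace Cfsg.Agent.ZD.C21
open Cfsg Cfsg.Agent.BG Cfsg.Agent.Inv Cfsg.Agent.SE MulAction Subgroup

variable {G Ω : Type*} [Group G] [Finite G] [MulAction G Ω] {M K S : Subgroup G} {a b c d : Ω} {g k x y : G} {n : ℕ}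

theorem orb_card (M : Subgroup G) (a : Ω) : {c | Orb M a c}.ncard = (St G a).relIndex M := by
  rw [relIndex, show (St G a).subgroupOf M = stabilizer M a from rfl, index_stabilizer]
  congr 1; ext c
  exact ⟨fun ⟨m, h, e⟩ => ⟨⟨m, h⟩, e⟩, fun ⟨m, e⟩ => ⟨m, m.2, e⟩⟩

theorem syl_orb (hS : Syl 2 S M) (h : PiN {2} {d | Orb M c d}.ncard) (hd : Orb M c d) : Orb S c d := by
  obtain ⟨g, hg, rfl⟩ := hd
  obtain ⟨s, hs, t, ht, rfl⟩ := (hS.prod_idx (K := St G c ⊓ M) inf_le_right (by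
    rwa [inf_relIndex_right, ← orb_card])).ex g hg
  exact ⟨s, hs, by rw [mul_smul, ht.1]⟩

theorem exists_fix {X : Set Ω} (fin : X.Finite) (hX : PiN {2} X.ncard) (h : ∀ y ∈ zpowers k, ∀ c ∈ X, y • c ∈ X)
    (k1 : k ≠ 1) (ok : Odd (orderOf k)) : ∃ y ∈ zpowers k, y ≠ 1 ∧ ∃ c ∈ X, y • c = c := by
  obtain ⟨p, hp, m, e⟩ := Nat.exists_prime_and_dvd (mt orderOf_eq_one_iff.1 k1)
  have m0 : 0 < m := Nat.pos_of_mul_pos_left (e ▸ orderOf_pos k)
  have hy : k ^ m ∈ zpowers k := npow_mem_zpowers k m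
  refine ⟨k ^ m, hy, pow_ne_one_of_lt_orderOf m0.ne' (e ▸ lt_mul_left m0 hp.one_lt), by_contra fun n => ?_⟩
  have := ncard_modEq fin (f := (k ^ m • ·)) (h _ hy) hp fun y _ => by
    rw [smul_iterate_apply, ← pow_mul, mul_comm, ← e, pow_orderOf_eq_one, one_smul]
  rw [show {y ∈ X | k ^ m • y = y} = ∅ from Set.eq_empty_of_forall_notMem fun c i => n ⟨c, i⟩, Set.ncard_empty] at this
  obtain rfl : p = 2 := hX p hp (Nat.modEq_zero_iff_dvd.1 this)
  exact (Nat.not_even_iff_odd.2 ok) (e ▸ even_two_mul m)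

/-- a cyclic normal subgroup of the point stabilizer, transitive on the other points -/
structure Tor (a : Ω) (K : Subgroup G) : Prop where
  le : K ≤ St G a
  nm : St G a ≤ N[K]
  cy : Cyc K
  tr : ∀ b c, b ≠ a → c ≠ a → ∃ k ∈ K, k • b = c
  th : ∃ w ∈ K, orderOf w = 3

theorem Tor.cj (h : Tor a K) (g : G) : Tor (g • a) (cj g K) := by
  obtain ⟨w, hw, o⟩ := h.th
  refine ⟨cj_St g a ▸ cj_mono g h.le, by rw [← cj_St, ← cj_N]; exact cj_mono g h.nm, h.cy.map _, fun b c i j => ?_,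
    _, mem_cj_conj.2 hw, by rw [orderOf_conj', o]⟩
  obtain ⟨k, hk, e⟩ := h.tr (g⁻¹ • b) (g⁻¹ • c) (by rwa [Ne, inv_smul_eq_iff]) (by rwa [Ne, inv_smul_eq_iff])
  exact ⟨_, mem_cj_conj.2 hk, by rw [mul_smul, mul_smul, e, smul_inv_smul]⟩

section
variable (fa : ∀ g : G, (∀ c : Ω, g • c = c) → g = 1) (h : Tor a K)
include fa h

theorem Tor.free (ha : x • a = a) (hb : x • b = b) (ab : b ≠ a) (hx : x ∈ C[K]) : x = 1 := fa x fun c => by
  by_cases e : c = a
  · rw [e, ha]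
  obtain ⟨k, hk, rfl⟩ := h.tr b c ab e
  rw [← mul_smul, ← mem_C.1 hx k hk, mul_smul, hb]

theorem Tor.comm (ab : b ≠ a) (hx : x ∈ St2 G a b) (hy : y ∈ St2 G a b) : x * y = y * x := by
  have i := commutator_mem_commutator hx hy
  have j := der_le _ i
  exact commutatorElement_eq_one_iff_mul_comm.1
    (h.free fa j.1 j.2 ab (h.cy.der_cent (inf_le_left.trans h.nm) i))

theorem Tor.move (ha : x • a = a) (hb : x • b = b) (hc : x • c = c) (ab : b ≠ a) (ac : c ≠ a) :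
    ∃ k ∈ C1[x], k • a = a ∧ k • b = c := by
  obtain ⟨k, hk, e⟩ := h.tr b c ab ac
  have i := mul_mem (inv_mem hk) (conj_mem (h.nm ha) hk)
  refine ⟨k, mem_C1'.2 (mul_inv_eq_iff_eq_mul.1 (inv_mul_eq_one.1 (h.free fa (h.le i) ?_ ab (h.cy.abel i))).symm),
    h.le hk, e⟩
  rw [mul_smul, mul_smul, mul_smul, inv_smul_eq_iff.2 hb.symm, e, hc, inv_smul_eq_iff, e]

theorem Tor.third (ha : x • a = a) (hb : x • b = b) (ab : b ≠ a) (ox : Odd (orderOf x)) :
    ∃ c, x • c = c ∧ c ≠ a ∧ c ≠ b := by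
  obtain ⟨w, hw, o⟩ := h.th
  have i : zpowers x ≤ N[zpowers w] := h.cy.norm_sub (zpowers_le.2 hw) (zpowers_le.2 (h.nm ha))
  have j := idx_cent_prime Nat.prime_three (by rw [Nat.card_zpowers, o]) i
  have e : x ∈ C[zpowers w] := mem_of_cop_relIndex (normC i) (mem_zpowers x)
    ((Nat.coprime_two_right.2 ox).coprime_dvd_right j)
  refine ⟨w • b, by rw [← mul_smul, ← mem_C.1 e w (mem_zpowers w), mul_smul, hb], fun i => ab (smul_left_cancel w
    (i.trans (h.le hw).symm)), fun i => ?_⟩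
  rw [h.free fa (h.le hw) i ab (h.cy.abel hw), orderOf_one] at o; omega

end

theorem aff [Finite Ω] (fa : ∀ g : G, (∀ c : Ω, g • c = c) → g = 1) (hΩ : Nat.card Ω = 2 ^ (n + 1))
    (tr : ∀ b c : Ω, ∃ g : G, g • b = c) (h : Tor a K) : ∃ N : Subgroup G, N.Normal ∧ IsPGroup 2 N ∧ N ≠ ⊥ := by
  have T : ∀ c : Ω, ∃ K : Subgroup G, Tor c K := fun c => by
    obtain ⟨g, rfl⟩ := tr a c; exact ⟨_, h.cj g⟩
  have pu : PiN {2} (Set.univ : Set Ω).ncard := by
    rw [Set.ncard_univ, hΩ]; exact (pin_single_self Nat.prime_two).pow _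
  have o : ∀ c : Ω, {d | Orb (⊤ : Subgroup G) c d} = Set.univ := fun c => Set.eq_univ_of_forall fun d =>
    (tr c d).imp fun g e => ⟨mem_top g, e⟩
  obtain ⟨S, hS⟩ := syl_exists Nat.prime_two (⊤ : Subgroup G)
  have S1 : S ≠ ⊥ := hS.ne_bot' Nat.prime_two (((dvd_pow_self 2 n.succ_ne_zero).trans (by
    rw [← hΩ, ← Set.ncard_univ, ← o a, orb_card])).trans (relIndex_dvd (St G a) ⊤))
  obtain ⟨s, hs, os⟩ : ∃ s ∈ Z[S], orderOf s = 2 :=
    exists_involution_mem (even_iff_two_dvd.2 ((PiG.of_le hS.pi inf_le_left).dvd ((PiG.nil hS.pi).Z_ne_bot S1)))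
  have sf : ∀ c : Ω, s • c ≠ c := fun c e => ne_one_of_ord2 os (fa s fun d => by
    obtain ⟨g, hg, rfl⟩ := syl_orb hS (c := c) (d := d) (o c ▸ pu) (o c ▸ Set.mem_univ d : d ∈ {d | Orb ⊤ c d})
    rw [← mul_smul, ← mem_C.1 hs.2 g hg, mul_smul, e])
  by_contra! n
  obtain ⟨k, k1, ok, e⟩ := S0200.result s os fun N i j l => ne_one_of_ord2 os (mem_bot.1 (n N i j ▸ l))
  obtain ⟨x, ⟨m, rfl⟩, x1, b, -, hb⟩ := exists_fix (Set.toFinite _) pu (fun _ _ _ _ => Set.mem_univ _) k1 ok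
  have ox : Odd (orderOf (k ^ m)) := ok.of_dvd_nat (orderOf_dvd_of_mem_zpowers (zpow_mem_zpowers k m))
  have ex : s * k ^ m * s⁻¹ = (k ^ m)⁻¹ := by rw [← conj_zpow, e, inv_zpow]
  simp only at x1 hb
  generalize k ^ m = x at x1 hb ox ex
  have hc : x • s • b = s • b := by
    rw [← inv_inv x, inv_smul_eq_iff, ← ex, mul_smul, mul_smul, inv_smul_smul, hb]
  obtain ⟨K1, T1⟩ := T b
  obtain ⟨c, h1, h2, h3⟩ := T1.third fa hb hc (sf b) ox
  obtain ⟨K2, T2⟩ := T c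
  obtain ⟨K3, T3⟩ := T (s • b)
  obtain ⟨u, u1, -, u3⟩ := T2.move fa h1 hb hc h2.symm h3.symm
  obtain ⟨v, v1, v2, v3⟩ := T3.move fa hc (b := u • s • b) (by rw [← mul_smul, ← mem_C1.1 u1, mul_smul, hc]) hb
    (fun i => sf b (smul_left_cancel u (i.trans u3.symm))) (sf b).symm
  have := T1.comm fa (sf b) (x := s * (v * u)) (y := x) (SE.mem_St2.2 ⟨by
    rw [mul_smul, mul_smul, u3, v2, smul_smul_of_ord os], by rw [mul_smul, mul_smul, v3]⟩) ⟨hb, hc⟩
  rw [mul_assoc, mem_C1.1 (mul_mem v1 u1), ← mul_assoc, ← mul_assoc x, mul_left_inj] at this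
  rw [this, mul_inv_cancel_right, eq_inv_iff_mul_eq_one] at ex
  exact x1 (mem_bot.1 (mem_of_sq_mem ox (ex ▸ one_mem ⊥)))

theorem det_hom {E : Type*} [CommGroup E] [Finite E] (h4 : ∀ x : E, x ^ 4 = 1) (hs : ∀ x : E, x ^ 2 = 1 → ∃ y, y ^ 2 = x)
    (hc : Nat.card E = 4 ^ n) (hn : Odd n) : ∃ χ : MulAut E →* ZMod 4, χ (MulEquiv.inv E) ≠ 1 := by
  classical
  obtain ⟨ι, _, r, hr, ⟨e⟩⟩ := CommGroup.equiv_prod_multiplicative_zmod_of_finite E
  obtain rfl : r = fun _ => 4 := funext fun i => by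
    have h1 : ((4 : ℕ) : ZMod (r i)) = 0 := by
      have := congrFun (congrArg e (h4 (e.symm (Pi.mulSingle i (Multiplicative.ofAdd 1))))) i
      simpa [← ofAdd_nsmul] using this
    have h2 := (ZMod.natCast_eq_zero_iff _ _).1 h1
    have h3 := Nat.le_of_dvd (by decide) h2
    have h5 := hr i
    by_contra n
    have h6 : r i = 2 := by interval_cases r i <;> simp_all
    have h7 : ((2 : ℕ) : ZMod (r i)) = 0 := (ZMod.natCast_eq_zero_iff _ _).2 h6.dvd
    obtain ⟨y, hy⟩ := hs (e.symm (Pi.mulSingle i (Multiplicative.ofAdd 1))) (by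
      rw [← map_pow, ← Pi.mulSingle_pow, ← ofAdd_nsmul, nsmul_eq_mul, h7]; simp)
    have := congrFun (congrArg e hy) i
    rw [map_pow, e.apply_symm_apply, Pi.mulSingle_eq_same, Pi.pow_apply, ← ofAdd_toAdd (e y i), ← ofAdd_nsmul, nsmul_eq_mul,
      h7, zero_mul] at this
    have _ : Fact (1 < r i) := ⟨h5⟩
    exact zero_ne_one (Multiplicative.ofAdd.injective this)
  have ci : Fintype.card ι = n := by
    rw [Nat.card_congr e.toEquiv, Nat.card_pi] at hc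
    exact Nat.pow_right_injective (show 2 ≤ 4 by decide) (by simpa using hc)
  let f : MulAut E → (ι → ZMod 4) →+ (ι → ZMod 4) := fun φ => AddMonoidHom.mk'
    (fun v i => (e (φ (e.symm fun j => Multiplicative.ofAdd (v j))) i).toAdd) fun v w => funext fun i => by
      rw [Pi.add_apply, ← toAdd_mul, ← Pi.mul_apply, ← map_mul, ← map_mul, ← map_mul]; rfl
  refine ⟨⟨⟨fun φ => LinearMap.det ((f φ).toZModLinearMap 4), ?_⟩, fun φ ψ => ?_⟩, ?_⟩
  · rw [show (f 1).toZModLinearMap 4 = LinearMap.id from LinearMap.ext fun v => by simp [f], LinearMap.det_id]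
  · exact (congrArg LinearMap.det (LinearMap.ext fun v => by simp [f])).trans (map_mul _ _ _)
  · change LinearMap.det _ ≠ 1
    have _ : Nontrivial (ZMod 4) := ⟨0, 1, by decide⟩
    rw [show (f (MulEquiv.inv E)).toZModLinearMap 4 = (-1 : ZMod 4) • LinearMap.id from LinearMap.ext fun v => by
      ext; simp [f], LinearMap.det_smul, LinearMap.det_id, Module.finrank_fintype_fun_eq_card, ci, hn.neg_one_pow]
    decide

end Cfsg.Agent.ZD.C21
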