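import Cfsg.Agent.ZD.C21a

/-! # End game, `i = 1`: the centraliser of a bad involution in `C(J)` has order `2 q` -/

set_option autoImplicit false
set_option linter.unusedVariables false
set_option linter.unusedSectionVars false

namespace Cfsg.Agent.ZD.C21
open Cfsg Cfsg.Agent.BG Cfsg.Agent.Inv Cfsg.Agent.SE MulAction Subgroup

variable {G Ω : Type*} [Group G] [Finite G] [MulAction G Ω] {Z : Set G} {q : ℕ}
variable {a b c d : Ω} {g k r s u v w x y : G}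

/-- `C_C(r)` -/
abbrev VV (Z : Set G) (a : Ω) (r : G) : Subgroup G := C[JJ Z a] ⊓ C1[r]

/-- the centraliser of `V / J` in `C` -/
def NN (Z : Set G) (a : Ω) (r : G) : Subgroup G where
  carrier := {x | x ∈ C[JJ Z a] ∧ ∀ v ∈ VV Z a r, x * v * x⁻¹ * v⁻¹ ∈ JJ Z a}
  one_mem' := ⟨one_mem _, fun v _ => by simp⟩
  mul_mem' := fun {x y} i j => ⟨mul_mem i.1 j.1, fun v l => by
    convert mul_mem (conj_mem (C_le_N _ i.1) (j.2 v l)) (i.2 v l) using 1; group⟩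
  inv_mem' := fun {x} i => ⟨inv_mem i.1, fun v l => by
    convert conj_mem (C_le_N _ (inv_mem i.1)) (inv_mem (i.2 v l)) using 1; group⟩

/-- a bad involution fixing `a` -/
structure Bd (Z : Set G) (a : Ω) (r : G) : Prop where
  bad : Bad Z r
  fix : r • a = a

theorem pie4 (e : x ^ 4 = 1) : PiE {2} x := fun p i j =>
  (Nat.prime_dvd_prime_iff_eq i Nat.prime_two).1 (i.dvd_of_dvd_pow (n := 2) (j.trans (orderOf_dvd_of_pow_eq_one e)))

theorem Bd.sq (h : Bd Z a r) : r * r = 1 := sq_of_ord2 h.bad.1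
theorem Bd.inv (h : Bd Z a r) : r⁻¹ = r := inv_of_ord2 h.bad.1

variable (S : C2 Ω Z q 1)
include S

theorem pinq : PiN {2} q := by
  obtain ⟨m, -, rfl⟩ := S.pow; exact (pin_single_self Nat.prime_two).pow _

theorem card3 : ({a}ᶜ : Set Ω).ncard = q ^ 3 := by
  have := S.finite
  have h := Set.ncard_add_ncard_compl ({a} : Set Ω)
  obtain ⟨p, rfl⟩ : ∃ p, q = p + 1 := ⟨q - 1, by have := S.four_le; omega⟩
  rw [S.cardΩ, Set.ncard_singleton, Nat.add_sub_cancel] at h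
  linarith

theorem orbJ (h : c ≠ a) : {d | Orb (JJ Z a) c d}.ncard = q := by
  rw [orb_card, ← S.cardJ a, ← card_inf_mul_relIndex (St G c),
    show St G c ⊓ JJ Z a = ⊥ from eq_bot_iff.2 fun u i => S.J_free i.2 h i.1, card_bot', one_mul]

theorem ne_smul (hg : g • a = a) (h : c ≠ a) : g • c ≠ a := fun e => h (smul_left_cancel g (e.trans hg.symm))

theorem line1 (hy : y ∈ C[JJ Z a]) (y1 : y ≠ 1) (hc : y • c = c) (hd : y • d = d) (ca : c ≠ a) (da : d ≠ a) :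
    Orb (JJ Z a) c d := by
  have := S.finite
  have h : zpowers y ≤ WW Z a c := zpowers_le.2 ⟨⟨S.CJ_le a hy, hc⟩, hy⟩
  obtain ⟨j, L, hj⟩ := S.locY ca.symm h (by simpa using y1)
  have f : fixedBy Ω y = orbit (XZ Z C[zpowers y]) a := Set.ext fun e =>
    (zpowers_le.symm.trans (S.fixY (h.trans (inf_le_inf_right _ inf_le_left)) e)).trans
      ⟨fun ⟨m, h, e⟩ => ⟨⟨m, h⟩, e⟩, fun ⟨m, e⟩ => ⟨m, m.2, e⟩⟩
  have n := L.card
  rw [← f] at n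
  obtain rfl | ⟨rfl, -⟩ | ⟨rfl, -⟩ := L.cases
  · have i : insert a {e | Orb (JJ Z a) c e} = fixedBy Ω y := Set.eq_of_subset_of_ncard_le (by
      rintro _ (rfl | ⟨u, hu, rfl⟩)
      exacts [S.CJ_le _ hy, by rw [mem_fixedBy, ← mul_smul, ← mem_C.1 hy u hu, mul_smul, hc]]) (by
      rw [n, Set.ncard_insert_of_notMem (s := {e | Orb (JJ Z a) c e})
        (fun ⟨u, hu, e⟩ => ne_smul S (JJ_le Z a hu) ca e), orbJ S ca, pow_one])
    exact (i.ge hd).resolve_left da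
  · exact absurd (hj.1 rfl) (by decide)
  · refine absurd (S.faithful y fun e => (((fixedBy Ω y).eq_univ_iff_ncard).2 ?_).ge (Set.mem_univ e)) y1
    rw [n, ← card3 S (a := a), ← Set.ncard_add_ncard_compl {a}, Set.ncard_singleton, add_comm]

theorem oddK (h : c ≠ a) : Odd #(KK Z a c) := by
  obtain ⟨m, p, rfl⟩ := S.pow
  rw [← Nat.not_even_iff_odd, ← Nat.even_add_one, S.Kcard a c h.symm]; exact Nat.even_pow.2 ⟨even_two, by omega⟩

theorem HC : St G a ≤ N[C[JJ Z a]] := normC (S.normJ a)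

theorem bdJ (h : r * r = 1) (hC : r ∈ C[JJ Z a]) (hJ : r ∉ JJ Z a) : Bd Z a r :=
  ⟨S.bad_of (ord2_iff.2 ⟨h, fun e => hJ (e ▸ one_mem _)⟩) (S.CJ_le a hC) hJ, S.CJ_le a hC⟩

theorem Bd.cj (hr : Bd Z a r) (hg : g • a = a) : Bd Z a (g * r * g⁻¹) :=
  ⟨hr.bad.conj S.toZW g, hg ▸ conj_smul_fix hr.fix g⟩

theorem cj_VV (hg : g • a = a) (r : G) : cj g (VV Z a r) = VV Z a (g * r * g⁻¹) := by
  rw [cj_inf, cj_C1, cj_of_mem_N (HC S hg)]

theorem norm_NN (hg : g • a = a) (h : g ∈ N[VV Z a r]) : g ∈ N[NN Z a r] := mem_N_of fun x i =>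
  ⟨conj_mem (HC S hg) i.1, fun v j => by
    convert conj_mem (S.normJ a hg) (i.2 _ (conj_mem (inv_mem h) j)) using 1; group⟩

variable (hr : Bd Z a r)
include hr

theorem Bd.C : r ∈ C[JJ Z a] := le_C1_iff.1 (S.centJ r a hr.bad hr.fix)
theorem Bd.V : r ∈ VV Z a r := ⟨hr.C S, mem_C1_self r⟩
theorem Bd.nJ : r ∉ JJ Z a := fun h => ((S.memJ a r).1 h).elim (ne_one_of_ord2 hr.bad.1) fun i => hr.bad.2 i.1
theorem Bd.JV : JJ Z a ≤ VV Z a r := le_inf (S.abJ a) (S.centJ r a hr.bad hr.fix)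
theorem Bd.mulJ (hu : u ∈ JJ Z a) : Bd Z a (u * r) := bdJ S (by
  rw [mul_assoc, ← mul_assoc r, ← mem_C.1 (hr.C S) u hu, mul_assoc, hr.sq, mul_one, S.J_sq hu])
  (mul_mem (S.abJ a hu) (hr.C S)) fun i => hr.nJ S ((mul_mem_cancel_left hu).1 i)

theorem Bd.pt : ∃ b, b ≠ a ∧ r • b = b := by
  have := S.finite
  obtain ⟨b, h, n⟩ := Set.exists_ne_of_one_lt_ncard (s := fixedBy Ω r) (by
    rw [S.cardF r hr.bad, pow_one]; have := S.four_le; omega) a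
  exact ⟨b, n, h⟩

theorem Bd.dec (ba : b ≠ a) (hb : r • b = b) (hy : y ∈ VV Z a r) : ∃ u ∈ JJ Z a, (u * y) • b = b := by
  simp only [mul_smul]
  exact line1 S (hr.C S) (ne_one_of_ord2 hr.bad.1) (by rw [← mul_smul, ← mem_C1.1 hy.2, mul_smul, hb]) hb
    (ne_smul S (S.CJ_le a hy.1) ba) ba

theorem Bd.sqV (hy : y ∈ VV Z a r) : y * y = 1 := by
  obtain ⟨b, ba, hb⟩ := hr.pt S
  have sq : ∀ y ∈ VV Z a r, (y * y) • b = b := fun y hy => by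
    obtain ⟨u, hu, e⟩ := hr.dec S ba hb hy
    rw [show y * y = u * y * (u * y) by
      rw [mul_assoc, ← mul_assoc y, ← mem_C.1 hy.1 u hu, ← mul_assoc, ← mul_assoc, S.J_sq hu, one_mul], mul_smul, e, e]
  obtain ⟨u, uZ, ua⟩ := S.exists_J a
  have hu := (S.memJ a u).2 (.inr ⟨uZ, ua⟩)
  obtain ⟨g, ga, e⟩ := S.conjB r a hr.bad hr.fix u hu
  have i : g * y * g⁻¹ ∈ VV Z a r := by
    have j : g * y * g⁻¹ ∈ VV Z a (r * u) := by rw [← e, ← cj_VV S ga]; exact mem_cj_conj.2 hy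
    exact ⟨j.1, mem_C1.2 (mul_right_cancel (b := u) (by
      rw [mul_assoc, mem_C1.1 j.2, mul_assoc, mem_C.1 j.1 u hu, mul_assoc r]))⟩
  by_contra n
  obtain ⟨j, hj, l⟩ := line1 S (mul_mem i.1 i.1) (by simpa [conj_mul] using n) (sq _ i)
    (by rw [conj_mul]; exact conj_smul_fix (sq y hy) g) ba (ne_smul S ga ba)
  have m := conj_smul_fix hb g
  rw [e, ← l, ← mem_C.1 (hr.C S) u hu, mul_smul, ← mul_smul r, ← mem_C.1 (hr.C S) j hj, mul_smul, hb] at m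
  exact S.ne_one uZ (S.J_free hu (ne_smul S (JJ_le Z a hj) ba) m)

theorem Bd.abV (hx : x ∈ VV Z a r) (hy : y ∈ VV Z a r) : x * y = y * x := by
  rw [eq_inv_of_mul_eq_one_left (hr.sqV S (mul_mem hx hy)), mul_inv_rev, inv_eq_of_mul_eq_one_left (hr.sqV S hx),
    inv_eq_of_mul_eq_one_left (hr.sqV S hy)]

theorem Bd.ofV (hx : x ∈ VV Z a r) (h : x ∉ JJ Z a) : Bd Z a x := bdJ S (hr.sqV S hx) hx.1 h

theorem Bd.eqV (hx : x ∈ VV Z a r) (h : x ∉ JJ Z a) : VV Z a x = VV Z a r :=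
  le_antisymm (fun y i => ⟨i.1, mem_C1.2 ((hr.ofV S hx h).abV S i ⟨hr.C S, C1_symm hx.2⟩)⟩)
    fun y i => ⟨i.1, mem_C1.2 (hr.abV S i hx)⟩

theorem Bd.inter (hs : Bd Z a s) (n : VV Z a r ≠ VV Z a s) (h1 : x ∈ VV Z a r) (h2 : x ∈ VV Z a s) : x ∈ JJ Z a :=
  by_contra fun i => n ((hr.eqV S h1 i).symm.trans (hs.eqV S h2 i))

theorem Bd.VN : VV Z a r ≤ NN Z a r := fun x i => ⟨i.1, fun v j => by simp [hr.abV S i j]⟩

theorem Bd.pigN : PiG {2} (NN Z a r) := pig_of_elts fun x i => pie4 (by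
  have j := i.2 r (hr.V S)
  rw [show 4 = 2 + 2 from rfl, pow_add, pow_two]
  refine hr.sqV S ⟨mul_mem i.1 i.1, mem_C1.2 ?_⟩
  calc _ = x * (x * r * x⁻¹ * r⁻¹) * r * x := by group
    _ = x * r * x⁻¹ * r⁻¹ * (x * r * x⁻¹ * r⁻¹) * (r * (x * x)) := by rw [← mem_C.1 i.1 _ j]; group
    _ = _ := by rw [S.J_sq j, one_mul])

omit hr in
theorem syl_tr {P : Subgroup G} (hP : Syl 2 P (St G a)) (ba : b ≠ a) (ca : c ≠ a) : Orb P b c := by
  have e : {d | Orb (St G a) b d} = {a}ᶜ := Set.ext fun d => ⟨fun ⟨g, i, j⟩ => j ▸ ne_smul S i ba, fun i =>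
    (S.tr2 a b a d ba.symm (Ne.symm i)).imp fun g j => j⟩
  exact syl_orb hP (by rw [e, card3 S]; exact (pinq S).pow 3) (e.ge ca)

theorem Bd.pair : ∃ s, Bd Z a s ∧ VV Z a r ≠ VV Z a s ∧ VV Z a s ≤ NN Z a r ∧ VV Z a r ≤ NN Z a s := by
  have := S.finite
  obtain ⟨b, ba, hb⟩ := hr.pt S
  have VH : VV Z a r ≤ St G a := inf_le_left.trans (S.CJ_le a)
  obtain ⟨P, hP, VP⟩ := syl_superset Nat.prime_two VH ((hr.pigN S).of_le (hr.VN S))
  have lt : P ⊓ N[VV Z a r] < P := inf_lt_left.2 fun h => by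
    choose f f1 f2 using fun u : JJ Z a => (hr.mulJ S u.2).pt S
    have i : ({a}ᶜ : Set Ω) ⊆ (fun p : JJ Z a × JJ Z a => (p.2 : G) • f p.1) '' Set.univ := fun c ca => by
      obtain ⟨g, hg, rfl⟩ := syl_tr S hP ba ca
      have j := hr.cj S (hP.le hg)
      obtain ⟨u, hu, e⟩ := j.dec S ca (conj_smul_fix hb g) (hr.eqV S (conj_mem (h hg) (hr.V S)) (j.nJ S) ▸ hr.V S)
      have l := hr.mulJ S hu
      obtain ⟨v, hv, e⟩ := line1 S (l.C S) (ne_one_of_ord2 l.bad.1) (f2 ⟨u, hu⟩) e (f1 _) ca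
      exact ⟨(⟨u, hu⟩, ⟨v, hv⟩), trivial, e⟩
    have j := (Set.ncard_le_ncard i).trans (Set.ncard_image_le (Set.toFinite _))
    rw [card3 S, Set.ncard_univ, Nat.card_prod, S.cardJ] at j
    have := S.four_le
    nlinarith [Nat.mul_le_mul this this]
  obtain ⟨g, ⟨gP, gN⟩, n⟩ := SetLike.exists_of_lt ((PiG.nil hP.pi).lt_norm lt)
  have ga := hP.le gP
  have hs := hr.cj S ga
  have ne : VV Z a r ≠ VV Z a (g * r * g⁻¹) := fun e => n ⟨gP, mem_N_iff_cj.2 ((cj_VV S ga r).trans e.symm)⟩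
  have l := le_inf VP (normG (VV Z a r))
  have n1 : VV Z a (g * r * g⁻¹) ≤ N[VV Z a r] := by
    rw [← cj_VV S ga]; exact ((cj_mono g l).trans (cj_of_mem_N gN).le).trans inf_le_right
  have n2 : VV Z a r ≤ N[VV Z a (g * r * g⁻¹)] := by
    rw [← cj_VV S ga, ← cj_N]; exact (l.trans (cj_of_mem_N gN).ge).trans (cj_mono g inf_le_right)
  exact ⟨_, hs, ne, fun x i => ⟨i.1, fun v j => hr.inter S hs ne (mul_mem (conj_mem (n1 i) j) (inv_mem j))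
      (by simpa [mul_assoc] using mul_mem i (conj_mem (n2 j) (inv_mem i)))⟩,
    fun x i => ⟨i.1, fun v j => hr.inter S hs ne (by simpa [mul_assoc] using mul_mem i (conj_mem (n1 j) (inv_mem i)))
      (mul_mem (conj_mem (n2 i) j) (inv_mem j))⟩⟩

theorem Bd.K (ba : b ≠ a) (hb : r • b = b) (hk : k ∈ KK Z a b) : k • a = a ∧ k ∈ C1[r] ∧ k ∈ N[NN Z a r] := by
  have ka := (S.Kle a b ba.symm hk).1
  have i : k ∈ C1[r] := (S.KleL a b ba.symm).trans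
    (sup_le (S.centJ r a hr.bad hr.fix) (S.centJ r b hr.bad hb)) hk
  exact ⟨ka, i, norm_NN S ka (mem_N_iff_cj.2 (by rw [cj_VV S ka, mem_C1.1 i, mul_inv_cancel_right]))⟩

theorem Bd.kth (ba : b ≠ a) (hb : r • b = b) (hx : x ∈ NN Z a r) (h : x ∉ C1[r]) (hu : u ∈ JJ Z a) (u1 : u ≠ 1) :
    ∃ k ∈ KK Z a b, k * x * k⁻¹ * r * (k * x * k⁻¹)⁻¹ = u * r := by
  obtain ⟨k, hk, e⟩ := S.Ktrans a b ba.symm _ (hx.2 r (hr.V S)) u hu
    (fun e => h (mem_C1.2 (mul_inv_eq_iff_eq_mul.1 (mul_inv_eq_one.1 e)))) u1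
  have i := mem_C1.1 (hr.K S ba hb hk).2.1
  refine ⟨k, hk, ?_⟩
  calc _ = k * (x * (k⁻¹ * (r * k)) * x⁻¹ * r⁻¹) * k⁻¹ * (k * r * k⁻¹) := by group
    _ = _ := by rw [← i, inv_mul_cancel_left, e, i, mul_inv_cancel_right]

theorem Bd.surj (hu : u ∈ JJ Z a) : ∃ y ∈ NN Z a r, y * r * y⁻¹ = u * r := by
  by_cases u1 : u = 1
  · exact ⟨1, one_mem _, by simp [u1]⟩
  obtain ⟨s, hs, n, i, -⟩ := hr.pair S
  obtain ⟨b, ba, hb⟩ := hr.pt S
  obtain ⟨k, hk, e⟩ := hr.kth S ba hb (i (hs.V S)) (fun j => hs.nJ S (hr.inter S hs n ⟨hs.C S, j⟩ (hs.V S))) hu u1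
  exact ⟨_, conj_mem (hr.K S ba hb hk).2.2 (i (hs.V S)), e⟩

theorem Bd.two (hv : v ∈ VV Z a r) : v ∈ JJ Z a ∨ v * r ∈ JJ Z a := by
  have := S.finite
  by_contra! n
  obtain ⟨s, hs, ne, -, i⟩ := hr.pair S
  obtain ⟨b, ba, hb⟩ := hr.pt S
  obtain ⟨c, ca, hc⟩ := hs.pt S
  have o : ∀ x ∈ VV Z a r, x ∈ C1[s] → x ∈ JJ Z a := fun x j l => hr.inter S hs ne j ⟨j.1, l⟩
  obtain ⟨k, hk, e⟩ := hs.kth S ca hc (i (hr.V S)) (fun j => hr.nJ S (o r (hr.V S) j)) ((i hv).2 s (hs.V S))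
    fun e => n.1 (o v hv (mem_C1.2 (mul_inv_eq_iff_eq_mul.1 (mul_inv_eq_one.1 e))))
  obtain ⟨ka, -, -⟩ := hs.K S ca hc hk
  have h1 := hr.cj S ka
  have h2 : v⁻¹ * (k * r * k⁻¹) ∈ C1[s] := mem_C1.2 (by
    rw [inv_mul_cancel_right, mul_inv_eq_iff_eq_mul] at e
    rw [mul_assoc, e]; group)
  have h3 : v⁻¹ * (k * r * k⁻¹) ∈ VV Z a r := by
    have j := hs.sqV S (mem_inf.2 ⟨mul_mem (inv_mem (mem_inf.1 hv).1) (h1.C S), h2⟩)
    rw [← hr.eqV S hv n.1]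
    refine mul_mem (inv_mem (mem_inf.2 ⟨hv.1, mem_C1_self v⟩)) (mem_inf.2 ⟨h1.C S, mem_C1.2 ?_⟩)
    rw [inv_eq_of_mul_eq_one_left (hr.sqV S hv)] at j
    rw [← eq_inv_of_mul_eq_one_left j |>.symm, mul_inv_rev, h1.inv, inv_eq_of_mul_eq_one_left (hr.sqV S hv)]
  have kN : zpowers k ≤ N[VV Z a r] := zpowers_le.2 (mem_N_iff_cj.2 ((cj_VV S ka r).trans
    (hr.eqV S ((mul_mem_cancel_left (inv_mem hv)).1 h3) (h1.nJ S))))
  have e : {d | d ≠ a ∧ ∃ y ∈ VV Z a r, y ≠ 1 ∧ y • d = d} = {d | Orb (NN Z a r) b d} := Set.ext fun d =>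
    ⟨fun ⟨da, y, j, l, m⟩ => by
      have yJ : y ∉ JJ Z a := fun p => l (S.J_free p da m)
      obtain ⟨u, hu, m⟩ := (hr.ofV S j yJ).dec S da m (hr.eqV S j yJ ▸ hr.V S)
      obtain ⟨x, hx, p⟩ := hr.surj S hu
      have t := hr.mulJ S hu
      exact (orb_smul hx b).trans ((line1 S (t.C S) (ne_one_of_ord2 t.bad.1) (p ▸ conj_smul_fix hb x) m
        (ne_smul S (S.CJ_le a hx.1) ba) da).mono ((hr.JV S).trans (hr.VN S))),
    fun ⟨x, hx, p⟩ => ⟨p ▸ ne_smul S (S.CJ_le a hx.1) ba, x * r * x⁻¹,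
      by simpa using mul_mem (hr.JV S (hx.2 r (hr.V S))) (hr.V S), by simpa using ne_one_of_ord2 hr.bad.1,
      p ▸ conj_smul_fix hb x⟩⟩
  have kK := zpowers_le.2 hk
  obtain ⟨y, hy, y1, d, ⟨da, x, j, l, m⟩, p⟩ := exists_fix (k := k)
    (X := {d | d ≠ a ∧ ∃ y ∈ VV Z a r, y ≠ 1 ∧ y • d = d}) (Set.toFinite _) (by
      rw [e, orb_card]; exact (hr.pigN S).relIndex _)
    (fun y hy d ⟨da, x, j, l, m⟩ => ⟨ne_smul S (S.Kle a c ca.symm (kK hy)).1 da, _, conj_mem (kN hy) j, by simpa using l,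
      conj_smul_fix m y⟩)
    (fun p => n.2 (by
      have := o _ h3 h2
      rwa [p, one_mul, inv_one, mul_one, inv_eq_of_mul_eq_one_left (hr.sqV S hv)] at this))
    (odd_ord_of_mem (oddK S ca) hk)
  obtain rfl := (S.Kfix a c ca.symm y (kK hy) y1 d p).resolve_left da
  refine l (S.J_free (o x j (mem_C1.2 (mul_inv_eq_iff_eq_mul.1 (mul_inv_eq_one.1
    (S.J_free ((i j).2 s (hs.V S)) da ?_))))) da m)
  rw [mul_smul, mul_smul, mul_smul, inv_smul_eq_iff.2 hc.symm, inv_smul_eq_iff.2 m.symm, hc, m]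

end Cfsg.Agent.ZD.C21
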