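import Cfsg.Agent.ZD.C21b
import Cfsg.Agent.S1241

/-! # End game, `i = 1`: the group `N = E ⟨r⟩`, `E` homocyclic of exponent 4 inverted by `r` -/

set_option autoImplicit false
set_option linter.unusedVariables false
set_option linter.unusedSectionVars false

namespace Cfsg.Agent.ZD.C21
open Cfsg Cfsg.Agent.BG Cfsg.Agent.Inv Cfsg.Agent.SE MulAction Subgroup

variable {G Ω : Type*} [Group G] [Finite G] [MulAction G Ω] {Z : Set G} {q : ℕ}
variable {a b c d : Ω} {e g k r s u v w x y : G} {E P K : Subgroup G}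

variable (S : C2 Ω Z q 1) (hr : Bd Z a r)
include S hr

theorem Bd.memN (hx : x ∈ C[JJ Z a]) (h : x * r * x⁻¹ * r⁻¹ ∈ JJ Z a) : x ∈ NN Z a r := ⟨hx, fun v i => by
  rcases hr.two S i with j | j
  · simp [← mem_C.1 hx v j]
  · obtain ⟨u, rfl⟩ : ∃ u, v = u * r := ⟨v * r, by rw [mul_assoc, hr.sq, mul_one]⟩
    rw [mul_assoc, hr.sq, mul_one] at j
    convert conj_mem (normG _ j) h using 1
    rw [← mul_assoc x, ← mem_C.1 hx u j]; group⟩

theorem Bd.Jmul (hu : u ∈ JJ Z a) : Bd Z a (r * u) := mem_C.1 (hr.C S) u hu ▸ hr.mulJ S hu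

theorem Bd.alt (hw : w ∈ NN Z a r) : Bd Z a w ∨ Bd Z a (w * r) := by
  have key : ∀ x, x⁻¹ * w ∈ VV Z a r → (∀ u ∈ JJ Z a, Bd Z a (x * u)) → Bd Z a w ∨ Bd Z a (w * r) := fun x i j =>
    (hr.two S i).imp (fun l => by simpa using j _ l) fun l => by simpa [mul_assoc] using j _ l
  have hu := hw.2 r (hr.V S)
  by_cases u1 : w * r * w⁻¹ * r⁻¹ = 1
  · exact key r (mul_mem (inv_mem (hr.V S)) (mem_inf.2 ⟨hw.1, mem_C1.2 (mul_inv_eq_iff_eq_mul.1 (mul_inv_eq_one.1 u1))⟩))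
      fun u => hr.Jmul S
  obtain ⟨s, hs, n, i, -⟩ := hr.pair S
  obtain ⟨b, ba, hb⟩ := hr.pt S
  obtain ⟨k, hk, e⟩ := hr.kth S ba hb (i (hs.V S)) (fun j => hs.nJ S (hr.inter S hs n ⟨hs.C S, j⟩ (hs.V S))) hu u1
  have h := hs.cj S (hr.K S ba hb hk).1
  generalize k * s * k⁻¹ = x at e h
  refine key x (mem_inf.2 ⟨mul_mem (inv_mem (h.C S)) hw.1, mem_C1.2 ?_⟩) fun u => h.Jmul S
  rw [inv_mul_cancel_right, mul_inv_eq_iff_eq_mul] at e
  rw [mul_assoc, inv_mul_eq_iff_eq_mul, ← mul_assoc, ← mul_assoc, e]; group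

theorem Bd.nmul (hs : Bd Z a s) : ¬ Bd Z a (r * s) := fun h => by
  have e : s * r = r * s := by rw [← h.inv, mul_inv_rev, hr.inv, hs.inv]
  exact (hr.two S ⟨hs.C S, mem_C1.2 e⟩).elim (hs.nJ S) fun i => h.nJ S (e ▸ i)

theorem Bd.exE : ∃ E : Subgroup G, ∀ y, y ∈ E ↔ y ∈ NN Z a r ∧ Bd Z a (y * r) := by
  have rN := hr.VN S (hr.V S)
  refine ⟨⟨⟨⟨{y | y ∈ NN Z a r ∧ Bd Z a (y * r)}, fun {x y} i j => ⟨mul_mem i.1 j.1,
    (hr.alt S (mul_mem i.1 j.1)).resolve_left fun l => i.2.nmul S j.2 ?_⟩⟩, one_mem _, by rwa [one_mul]⟩,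
    fun {x} i => ⟨inv_mem i.1, ?_⟩⟩, fun _ => Iff.rfl⟩
  · convert l.Jmul S ((inv_mem j.1).2 r (hr.V S)) using 1
    rw [hr.inv]; group
  · convert i.2.cj S hr.fix using 1
    rw [mul_assoc, mul_inv_cancel_right, ← mul_left_inj r, mul_assoc, hr.sq, mul_one, inv_eq_iff_mul_eq_one,
      ← i.2.sq]; group

theorem Bd.uniq (hs : Bd Z a s) (ca : c ≠ a) (h1 : r • c = c) (h2 : s • c = c) (h : PiE {2} (r * s)) : r = s := by
  by_contra n
  obtain ⟨o, i, j⟩ := s0209 r s hr.bad.1 hs.bad.1 (even_iff_two_dvd.2 (h.dvd fun e => n (by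
    rw [eq_inv_of_mul_eq_one_left e, hs.inv])))
  have vC := pow_mem (mul_mem (hr.C S) (hs.C S)) (orderOf (r * s) / 2)
  have vc : _ ∈ St G c := pow_mem (mul_mem h1 h2) (orderOf (r * s) / 2)
  generalize (r * s) ^ (orderOf (r * s) / 2) = v at *
  have k : ∀ r, Bd Z a r → r • c = c → Commute v r → v * r = 1 := fun r hr h i => S.J_free ((hr.two S ⟨vC, mem_C1.2 i⟩).resolve_left
    fun l => ne_one_of_ord2 o (S.J_free l ca vc)) ca (by rw [mul_smul, h, vc])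
  exact n (mul_left_cancel ((k r hr h1 i).trans (k s hs h2 j).symm))

variable (hE : ∀ y, y ∈ E ↔ y ∈ NN Z a r ∧ Bd Z a (y * r))
include hE

theorem Bd.EN : E ≤ NN Z a r := fun y i => ((hE y).1 i).1
theorem Bd.rE : r ∉ E := fun i => ne_one_of_ord2 ((hE r).1 i).2.bad.1 hr.sq
theorem Bd.BE (hx : x ∈ NN Z a r) (h : Bd Z a x) : x * r⁻¹ ∈ E :=
  (hE _).2 ⟨mul_mem hx (inv_mem (hr.VN S (hr.V S))), by rwa [inv_mul_cancel_right]⟩
theorem Bd.JE : JJ Z a ≤ E := fun u i => (hE u).2 ⟨hr.VN S (hr.JV S i), hr.mulJ S i⟩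
theorem Bd.invE (hy : y ∈ E) : r * y * r⁻¹ = y⁻¹ := by
  rw [hr.inv, eq_comm, inv_eq_iff_mul_eq_one, ← ((hE y).1 hy).2.sq]; group
theorem Bd.abE (hx : x ∈ E) (hy : y ∈ E) : x * y = y * x := by
  have := hr.invE S hE (mul_mem hx hy)
  rwa [← conj_mul, hr.invE S hE hx, hr.invE S hE hy, ← mul_inv_rev, inv_inj, eq_comm] at this
theorem Bd.sqE (hy : y ∈ E) : y * y = y * r * y⁻¹ * r⁻¹ := by
  rw [mul_assoc, mul_assoc, ← mul_assoc r, hr.invE S hE (inv_mem hy), inv_inv]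
theorem Bd.sqJ (hy : y ∈ E) : y * y ∈ JJ Z a := hr.sqE S hE hy ▸ (hr.EN S hE hy).2 r (hr.V S)
theorem Bd.omE (hy : y ∈ E) (h : y * y = 1) : y ∈ JJ Z a :=
  (hr.two S ⟨(hr.EN S hE hy).1, mem_C1.2 (mul_inv_eq_iff_eq_mul.1 (mul_inv_eq_one.1 (hr.sqE S hE hy ▸ h)))⟩).resolve_right
    (((hE y).1 hy).2.nJ S)
theorem Bd.root (hu : u ∈ JJ Z a) : ∃ y ∈ E, y * y = u := by
  obtain ⟨w, hw, e⟩ := hr.surj S hu
  rcases hr.alt S hw with h | h
  · exact ⟨_, hr.BE S hE hw h, by rw [← mul_inv_cancel_right u r, ← e, h.inv, hr.inv]; group⟩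
  · have i := (hE w).2 ⟨hw, h⟩
    exact ⟨w, i, by rw [hr.sqE S hE i, e, mul_inv_cancel_right]⟩

theorem Bd.cardE : #E = q ^ 2 := by
  let f : E →* G := MonoidHom.mk' (fun y => y * y) fun x y => by
    rw [coe_mul, mul_assoc, ← mul_assoc y.1, hr.abE S hE y.2 x.2]; group
  have h1 : f.ker = (JJ Z a).subgroupOf E := Subgroup.ext fun y => ⟨hr.omE S hE y.2, S.J_sq⟩
  have h2 : f.range = JJ Z a := Subgroup.ext fun y => ⟨fun ⟨x, e⟩ => e ▸ hr.sqJ S hE x.2, fun i =>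
    let ⟨x, j, e⟩ := hr.root S hE i; ⟨⟨x, j⟩, e⟩⟩
  rw [← card_mul_index f.ker, index_ker, h1, h2, Nat.card_congr (subgroupOfEquivOfLe (hr.JE S hE)).toEquiv, S.cardJ, pow_two]

theorem Bd.cover (ca : c ≠ a) : ∃ x ∈ NN Z a r, Bd Z a x ∧ x • c = c := by
  have := S.finite
  have B := fun e : E => ((hE e).1 e.2).2
  have N := fun e : E => mul_mem (hr.EN S hE e.2) (hr.VN S (hr.V S))
  choose f f1 f2 using fun e : E => (B e).pt S
  have fx : ∀ (e : E) (u : JJ Z a), (e * r) • (u : G) • f e = (u : G) • f e := fun e u => by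
    rw [← mul_smul, ← mem_C.1 ((B e).C S) u u.2, mul_smul, f2]
  have ne : ∀ (e : E) (u : JJ Z a), (u : G) • f e ≠ a := fun e u => ne_smul S (JJ_le Z a u.2) (f1 e)
  have inj : Function.Injective fun p : E × JJ Z a => (p.2 : G) • f p.1 := fun ⟨e, u⟩ ⟨e', u'⟩ i => by
    obtain rfl : e = e' := Subtype.ext (mul_right_cancel ((B e).uniq S (B e') (ne e u) (fx e u) (by
      simp only at i; rw [i, fx]) ((hr.pigN S).elt (mul_mem (N e) (N e')))))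
    exact Prod.ext rfl (Subtype.ext (inv_mul_eq_one.1 (S.J_free (mul_mem (inv_mem u.2) u'.2) (f1 e) (by
      rw [mul_smul, inv_smul_eq_iff]; exact i.symm))))
  obtain ⟨⟨e, u⟩, -, rfl⟩ := (Set.eq_of_subset_of_ncard_le (s := (fun p : E × JJ Z a => (p.2 : G) • f p.1) '' Set.univ)
    (t := {a}ᶜ) (by rintro _ ⟨p, -, rfl⟩; exact ne _ _) (by
      rw [Set.ncard_image_of_injective _ inj, card3 S, Set.ncard_univ, Nat.card_prod, S.cardJ, hr.cardE S hE, ← pow_succ])).ge ca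
  exact ⟨_, N e, B e, fx e u⟩

theorem Bd.sylM (hP : PiG {2} P) (h1 : P ≤ St G a) (h2 : NN Z a r ≤ P) : P ≤ N[NN Z a r] := fun g hg => by
  have k : ∀ x ∈ NN Z a r, Bd Z a x → g * x * g⁻¹ ∈ NN Z a r := fun x i j => by
    have l := j.cj S (h1 hg)
    obtain ⟨c, ca, hc⟩ := l.pt S
    obtain ⟨y, m, n, o⟩ := hr.cover S hE ca
    rwa [l.uniq S n ca hc o (hP.elt (mul_mem (conj_mem (normG _ hg) (h2 i)) (h2 m)))]
  have rN := hr.VN S (hr.V S)
  refine mem_N_of fun x i => (hr.alt S i).elim (k x i) fun j => ?_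
  convert mul_mem (k _ (mul_mem i rN) j) (inv_mem (k r rN hr)) using 1; group

theorem Bd.dE (ga : g • a = a) (hg : g ∈ N[NN Z a r]) : g * r * g⁻¹ * r⁻¹ ∈ E :=
  hr.BE S hE (conj_mem hg (hr.VN S (hr.V S))) (hr.cj S ga)

theorem Bd.normE (ga : g • a = a) (hg : g ∈ N[NN Z a r]) : g ∈ N[E] := mem_N_of fun y i => by
  have j := (hE y).1 i
  convert mul_mem (hr.BE S hE (conj_mem hg (mul_mem j.1 (hr.VN S (hr.V S)))) (j.2.cj S ga))
    (inv_mem (hr.dE S hE ga hg)) using 1; group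

theorem Bd.inN (hy : Bd Z a y) (h : y ∈ N[NN Z a r]) : y ∈ NN Z a r := by
  obtain ⟨c, ca, hc⟩ := hy.pt S
  obtain ⟨x, i, j, l⟩ := hr.cover S hE ca
  have m := (j.cj S hy.fix).uniq S j ca (hc ▸ conj_smul_fix l y) l ((hr.pigN S).elt (mul_mem (conj_mem h i) i))
  rwa [eq_inv_of_mul_eq_one_left (S.J_free ((j.two S ⟨hy.C S, mem_C1.2 (mul_inv_eq_iff_eq_mul.1 m)⟩).resolve_left
    (hy.nJ S)) ca (by rw [mul_smul, l, hc])), inv_mem_iff]

theorem Bd.kill (hP : Syl 2 P (St G a)) (h2 : NN Z a r ≤ P) (h3 : K ≤ P) (h4 : E ≤ K) (h5 : r ∉ K)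
    (h6 : ∀ x ∈ P, ∀ y ∈ P, x * y * x⁻¹ * y⁻¹ ∈ K) : False := by
  have := S.simple
  have := S.finite
  have : IsPretransitive G Ω := ⟨S.tr⟩
  refine S1241.result (p := 2) P K h3 (normal_subgroupOf_iff_le_normalizer h3 |>.2 (norm_of_der_le (comm_le_iff.2 h6) h3))
    h6 ?_ r (h2 (hr.VN S (hr.V S))) h5 ⟨1, hr.bad.1⟩ (fun m g i => ?_) ?_
  · rw [← relIndex_mul_index hP.le, index_stabilizer_of_transitive, ← Set.ncard_add_ncard_compl {a}, card3 S,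
      Set.ncard_singleton]
    refine .mul_right ((Nat.Prime.coprime_iff_not_dvd Nat.prime_two).2 (hP.not_dvd Nat.prime_two)) ?_
    obtain ⟨m, p, rfl⟩ := S.pow
    rw [Nat.coprime_two_left]
    exact odd_one.add_even ((Nat.even_pow.2 ⟨even_two, by omega⟩).pow_of_ne_zero (by decide))
  · rcases mem_zp0 hr.bad.1 (zpow_mem_zpowers r m) with e | e <;> rw [e] at i ⊢
    · simp
    · have j : Bd Z a (g * r * g⁻¹) := ⟨hr.bad.conj S.toZW g, hP.le i⟩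
      exact h4 (hr.BE S hE (hr.inN S hE j (hr.sylM S hE hP.pi hP.le h2 i)) j)
  · refine ((inferInstance : (commutator G).Normal).eq_bot_or_eq_top.resolve_left fun e => ?_) ▸ mem_top r
    obtain ⟨u, uZ, ua⟩ := S.exists_J a
    obtain ⟨y, -, i⟩ := hr.surj S ((S.memJ a u).2 (.inr ⟨uZ, ua⟩))
    have := commutator_mem_commutator (mem_top y) (mem_top r)
    rw [← commutator_def, e, mem_bot, commutatorElement_def, i, mul_inv_cancel_right] at this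
    exact S.ne_one uZ this

end Cfsg.Agent.ZD.C21
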