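import Cfsg.Agent.ZD.C22a

/-!
# End game, `i = 2`: `|Ω| - 1 = q³ μ`, `μ = q² - q + 1`, `3 ∤ q - 1` (so `3 ∥ μ`)

Notation as in `C21`.  The line `ℓ` = orbit of `L = J a ⊔ J b` has `q² + 1` points (`loc`, `j = 2`), `Fix y = ℓ` for `1 ≠ y ∈ W`,
`Q = QQ L a ≤ C` is transitive on `ℓ - a`; the stabilizer of `ℓ` in `H` is `Q D`.  `κ` = common size of the `C`-orbits on `Ω - a`, `d = (|Ω|-1)/κ = |H : C D|`.
* (FP) `g ∈ H` a `p`-element, `p ∣ q - 1`, `C_J(g) = 1`, three fixed points: impossible.  `Z ∩ C(g) = ∅` (`sym`).  For `α ≠ β ∈ Fix g` the subgroup of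
  order `p` of `KK α β` is centralized by `g` and fixes only `α, β`; Gleason: `C(g)_α` is transitive on `Fix g - α` (orbit of `β` is `≡ 1`, the others
  `≡ 0 mod p`), so `|C(g)|` is even.  An involution `r' ∈ C(g)` is bad, `Fix g ⊆ Fix r'` (`cent_uniqZ`); `g` normalizes `X = ⟨Z ∩ C(r')⟩` and fixes
  `a, b', c'` in its orbit, so it centralizes mod kernel the `x ∈ QQ X a` with `x b' = c'`, then (`inv`, `sq`) some `1 ≠ u ∈ J`.
* `3 ∤ κ`: else a Sylow 3-subgroup `R₀` of `W` is not Sylow in `C`; if `R₀ ≠ 1`, `N_C(R₀)` stabilizes `ℓ`, lies in `Q W`: contradiction; so `3 ∤ |W|`,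
  `R = ⟨x⟩ ∈ Syl₃(C)` has order 3 and fixes only `a`.  Frattini in `K C`: a `p`-element `g ∈ N_{KC}(R) - C` (`p ∣ q-1`, `p ≥ 5`) centralizes `x`, is
  fixed point free on `J`, fixes some `c ≠ a` (`p ∤ |Ω| - 1`), so also `x c`: (FP).
* `|D : W|` is odd: a 2-element `x ∈ D - W` with `x² ∈ W` has `|C_J(x)| = q₀ < q ≤ q₀²`, `q₀ - 1 = |C_K(x)|`-orbit count divides `q - 1`, so `q = q₀²`, `3 ∣ q - 1`.
  (Or: `x` acts on the cyclic group `K`, `K = C_K(x) × [K,x]`.)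
* If `|H : C|` is odd: `fit_mul` (R1b) makes `(H/C)'` semiregular on `J#`, so `N = K C H' ⊴ H` has `|N : C|` a `π(q-1)`-number; `N`-orbits on `Ω - a` have size
  `κ e ∣ q³ μ`, coprime to `q - 1`, so `K` fixes every `C`-orbit, and a point in it (`κ` is prime to `p`): `d = 1` by `Kfix`, `3 ∣ κ`.
* So `d` is even and `q³ ∤ κ`.  Let `P₁ ∈ Syl₂(Q W)`, `Y = Ω₁Z(P₁) = Y₀ × J`, `Y₀ = Y ⊓ W ≠ 1` (an element of `Y` acts on `ℓ - a` as an element of `J`: `center`, `inv`).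
  If `P₁` is not Sylow in `C`, `g ∈ N_P(P₁) - P₁` moves `ℓ`, fixes a coset `y J` (`y ∈ Y₀#`), `y^g = y u`, `u ≠ 1`; with `K` all `y u` are
  `C`-conjugate, `|C|₂ ≥ q |P₁| = q³ |W|₂`, so `q³ ∣ κ`.  So `P₁` is Sylow in `C`, `κ₂ = q²`, `H = C N_H(P₁)`, and `N_H(P₁)` moves `ℓ` only to the lines
  `Fix (y u)`, `u ∈ J` (a complement to `J` in `Y` contains some `y u`): `d ≤ q`, `d₂ = q`, so `d = q`, `3 ∣ κ`.
-/

set_option autoImplicit false
set_option linter.unusedVariables false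
set_option linter.unusedSectionVars false

namespace Cfsg.Agent.ZD
open Cfsg Cfsg.Agent.BG Cfsg.Agent.Inv Cfsg.Agent.SE MulAction Subgroup PHom

variable {G Ω : Type*} [Group G] [Finite G] [MulAction G Ω] {Z : Set G} {q : ℕ}

namespace H5
variable {p : ℕ} {a b c d : Ω} {g u x y : G}

/-- the elements of `C(J)` moving `y` inside the coset `J y` -/
def TT (J : Subgroup G) (y : G) : Subgroup G where
  carrier := {c | c ∈ C[J] ∧ c * y * c⁻¹ * y⁻¹ ∈ J}
  one_mem' := ⟨one_mem _, by simp⟩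
  mul_mem' := fun {c d} hc hd => ⟨mul_mem hc.1 hd.1, by
    have := mul_mem (conj_mem (C_le_N J hc.1) hd.2) hc.2
    convert this using 1; group⟩
  inv_mem' := fun {c} hc => ⟨inv_mem hc.1, by
    have := conj_mem' (C_le_N J hc.1) (inv_mem hc.2)
    convert this using 1; group⟩

variable (S : C2 Ω Z q 2)
include S

theorem odd_DW (ab : a ≠ b) : Odd (C[JJ Z a].relIndex (St2 G a b)) := by
  rw [← Nat.not_even_iff_odd, even_iff_two_dvd]
  intro h
  have nJ : St2 G a b ≤ N[JJ Z a] := inf_le_left.trans (S.normJ a)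
  rw [← card_aut_im nJ] at h
  obtain ⟨f, hf, o⟩ := cauchy Nat.prime_two h
  obtain ⟨x, hx, rfl⟩ := (mem_im' (φ := aut (JJ Z a)) nJ).1 hf
  have x2 : x * x ∈ C[JJ Z a] := by
    rw [← aut_ker, mem_ker]; exact ⟨mul_mem (nJ hx) (nJ hx), by rw [app_mul (nJ hx) (nJ hx), mul_self_of_ord o]⟩
  have x1 : x ∉ C[JJ Z a] := fun e => by
    rw [← aut_ker, mem_ker] at e; exact ne_one_of_ord2 o e.2
  have e1 := card_conj (JJ Z a) x
  have e2 : {y | ∃ d ∈ JJ Z a, d * x * d⁻¹ = y}.ncard ≤ #(JJ Z a ⊓ C1[x]) := by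
    refine Set.ncard_le_ncard_of_injOn (fun y => y * x⁻¹) ?_ (fun _ _ _ _ e => mul_right_cancel e) (Set.toFinite _)
    rintro _ ⟨d, hd, rfl⟩
    have m := conj_mem (nJ hx) (inv_mem hd)
    refine ⟨by simpa [mul_assoc] using mul_mem hd m, mem_C1.2 ?_⟩
    have i : d⁻¹ = d := inv_eq_of_mul_eq_one_right (S.J_sq hd)
    rw [i] at m ⊢
    have c1 := mem_C_comm (S.abJ a) hd m
    have c2 := mem_C.1 x2 d hd
    calc d * x * d * x⁻¹ * x = x * (x⁻¹ * d * x * d) := by group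
      _ = x * (x⁻¹ * (d * (x * x)) * x⁻¹ * d) := by group
      _ = x * (x * d * x⁻¹ * d) := by rw [c2]; group
      _ = _ := by rw [← c1]; group
  rw [S.cardJ] at e1
  have four := S.four_le
  generalize hj : #(JJ Z a ⊓ C1[x]) = j at e1 e2
  generalize {y | ∃ d ∈ JJ Z a, d * x * d⁻¹ = y}.ncard = e at e1 e2
  obtain ⟨u, hu, u1⟩ := Inv.exists_ne_one (H := JJ Z a ⊓ C1[x]) fun n => by
    rw [n, card_bot'] at hj; subst hj; omega
  have e3 := card_conj (KK Z a b ⊓ C1[x]) u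
  rw [show {y | ∃ d ∈ KK Z a b ⊓ C1[x], d * u * d⁻¹ = y} = ((JJ Z a ⊓ C1[x] : Subgroup G) : Set G) \ {1} from Set.ext fun v => ⟨by
      rintro ⟨k, hk, rfl⟩
      exact ⟨⟨conj_mem (nJ (S.Kle a b ab hk.1)) hu.1, conj_mem (normG _ hk.2) hu.2⟩, by simpa using u1⟩, fun hv => by
      obtain ⟨k, hk, rfl⟩ := S.Ktrans a b ab u hu.1 v hv.1.1 u1 hv.2
      refine ⟨k, ⟨hk, mem_C1.2 ?_⟩, rfl⟩
      have := S.Kfree a b ab _ (mul_mem (inv_mem hk) (conj_mem (S.Knorm a b ab hx) hk)) u hu.1 u1 (by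
        have c1 := mem_C1.1 hu.2
        have c2 := mem_C1.1 hv.1.2
        calc _ = k⁻¹ * x * k * (x⁻¹ * (u * x)) * x⁻¹ := by group
          _ = k⁻¹ * (x * (k * u * k⁻¹)) * k * x⁻¹ := by rw [c1]; group
          _ = _ := by rw [← c2]; group)
      rw [inv_mul_eq_one, eq_mul_inv_iff_mul_eq] at this; exact this⟩] at e3
  have e4 := Set.ncard_sdiff_singleton_add_one (s := ((JJ Z a ⊓ C1[x] : Subgroup G) : Set G)) (a := 1)
    (JJ Z a ⊓ C1[x]).one_mem
  replace e3 := (Dvd.intro_left _ e3.symm).trans (cardS (inf_le_left : _ ≤ KK Z a b))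
  rw [Nat.eq_sub_of_add_eq (S.Kcard a b ab)] at e3
  replace e4 := e4.trans hj
  generalize (((JJ Z a ⊓ C1[x] : Subgroup G) : Set G) \ {1}).ncard = i at e3 e4
  subst e4
  have n1 : e ≠ 1 := by
    rintro rfl
    exact x1 (le_C1_iff.1 (inf_eq_left.1 (eq_of_card_le inf_le_left (by rw [S.cardJ, hj]; omega))))
  obtain ⟨f, rfl⟩ : ∃ f, e = f + 1 := ⟨e - 1, by rcases e with _ | e <;> omega⟩
  rw [show q - 1 = i * (f + 1) + f by rw [e1]; ring_nf; omega, Nat.dvd_add_right (dvd_mul_right _ _)] at e3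
  have := Nat.le_of_dvd (by omega) e3
  obtain rfl : i = f := by omega
  have m := mod3 S
  rw [e1, Nat.mul_mod] at m
  have : (i + 1) % 3 < 3 := Nat.mod_lt _ (by decide)
  generalize (i + 1) % 3 = s at m this
  interval_cases s <;> simp at m

theorem der_free (ab : a ≠ b) (h : Odd (C[JJ Z a].relIndex (St G a))) (hg : g ∈ ⁅St G a, St G a⁆) (hu : u ∈ JJ Z a)
    (u1 : u ≠ 1) (e : g * u = u * g) : g ∈ C[JJ Z a] := by
  have := (S.abJ a).comm
  have nJ := S.normJ a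
  rw [← card_aut_im nJ] at h
  open scoped IsMulCommutative in
  obtain ⟨-, h4⟩ := fit_mul ((aut (JJ Z a)).im (St G a)) h Nat.prime_two
    (fun e => Subtype.ext (by simpa [sq] using S.J_sq e.2)) (fun x y hx hy => by
      obtain ⟨k, k1, k2⟩ := S.Ktrans a b ab x x.2 y y.2 (by simpa using hx) (by simpa using hy)
      have kH := (S.Kle a b ab k1).1
      exact ⟨_, app_mem_im kH (nJ kH), Subtype.ext ((aut_app (nJ kH) x).trans k2)⟩) (sol_of_odd h)
  have gN := nJ (der_le _ hg)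
  have m := app_mem_im (φ := aut (JJ Z a)) hg gN
  rw [im_der nJ, ← map_subtype_commutator] at m
  obtain ⟨f, hf, e1⟩ := m
  rw [← aut_ker, mem_ker]
  refine ⟨gN, ?_⟩
  rw [← e1, h4 f hf ⟨u, hu⟩ (Subtype.ext (by
    rw [show (f : MulAut (JJ Z a)) = _ from e1, aut_app gN, e, mul_inv_cancel_right])) (by simpa using u1), map_one]

theorem sylD (ab : a ≠ b) (hp : p.Prime) (pd : p ∣ q - 1) {P : Subgroup G} (h : Syl p P (St2 G a b)) :
    Syl p P (St G a) :=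
  h.trans' inf_le_left ((pin_compl hp).2 (by
    rw [idxD S ab]; exact not_dvd_deg hp pd (by have := S.four_le; omega)))

theorem odd_case (ab : a ≠ b) (h : Odd (C[JJ Z a].relIndex (St G a))) : St G a ≤ St2 G a b ⊔ C[JJ Z a] := by
  have l : ⁅St G a, St G a⁆ ≤ St2 G a b ⊔ C[JJ Z a] := le_of_syl fun p hp _ => by
    by_cases pd : p ∣ q - 1
    · obtain ⟨P, hP⟩ := syl_exists hp (St2 G a b)
      exact ⟨_, (sylD S ab hp pd hP).inf_norm' (der_le _) (der_norm _), inf_le_left.trans (hP.le.trans le_sup_left)⟩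
    obtain ⟨P, hP⟩ := syl_exists hp ⁅St G a, St G a⁆
    refine ⟨P, hP, le_sup_of_le_right (by_contra fun n => pd ?_)⟩
    have m := hP.pi.card_modEq hp (hP.le.trans ((der_le _).trans (S.normJ a)))
    rw [S.cardJ, show JJ Z a ⊓ C[P] = ⊥ from eq_bot_iff.2 fun u hu => by_contra fun u1 =>
      n fun g hg => der_free S ab h (hP.le hg) hu.1 u1 (mem_C.1 hu.2 g hg), card_bot'] at m
    exact (Nat.modEq_iff_dvd' (by have := S.four_le; omega)).1 m.symm
  obtain ⟨p, hp, pd⟩ := exists_p S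
  obtain ⟨V, v1, v2, v3, v4⟩ := exists_V S hp pd (pie_one _) (one_smul G a) (one_smul G b) ab
  obtain ⟨P, hP, VP⟩ := syl_superset hp (le_inf (v2.trans inf_le_right) v3) v1
  have lM := sup_le (inf_le_left : St2 G a b ≤ _) (S.CJ_le a)
  refine (Syl.frattini ((sylD S ab hp pd hP).sub (hP.le.trans le_sup_left) lM) hp lM
    (norm_of_der_le l lM)).sup.ge.trans (sup_le le_rfl fun g hg => mem_sup_left ⟨hg.1, ?_⟩)
  exact (v4 _ fun v hv => fix_smul hg.2 (hP.le.trans inf_le_right) (VP hv)).resolve_left fun e =>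
    ab (smul_left_cancel g (hg.1.trans e.symm))

section syl
variable {T : Subgroup G} (ab : a ≠ b) (hT : Syl 2 T (WW Z a b))
include ab hT

theorem T_cent : T ≤ C[QQ (LL Z a b) a] := hT.le.trans ((W_cent S ab).trans (centS (Q_le S a b)))

theorem P_pig : PiG {2} (QQ (LL Z a b) a ⊔ T) := (O_pig _ _).sup_l hT.pi (cents_norm (T_cent S ab hT))

theorem P_le : QQ (LL Z a b) a ⊔ T ≤ C[JJ Z a] := sup_le (Q_C S ab) (hT.le.trans inf_le_right)

theorem inf_eq {P : Subgroup G} (h1 : PiG {2} P) (h2 : P ≤ C[JJ Z a]) (h3 : T ≤ P) : St G b ⊓ P = T :=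
  hT.max (h1.of_le inf_le_right) (le_inf (le_inf (inf_le_right.trans (h2.trans (S.CJ_le a))) inf_le_left)
    (inf_le_right.trans h2)) (le_inf (hT.le.trans (inf_le_left.trans inf_le_right)) h3)

theorem P_card : #(QQ (LL Z a b) a ⊔ T) = #T * q ^ 2 := by
  rw [← card_inf_mul_relIndex (St G b), inf_eq S ab hT (P_pig S ab hT) (P_le S ab hT) le_sup_right, relIndex_stab,
    ← ncard_line S ab]
  congr 2; ext c
  rw [mem_orb]
  refine ⟨?_, fun h => ?_⟩
  · rintro ⟨m, hm, rfl⟩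
    refine ⟨?_, fun e => ab (smul_left_cancel m ((S.CJ_le a (P_le S ab hT hm)).trans e.symm))⟩
    obtain ⟨x, hx, w, hw, rfl⟩ := (mem_sup_l (cents_norm (T_cent S ab hT))).1 hm
    rw [mul_smul, show w • b = b from (hT.le hw).1.2]
    exact mem_orb.2 ((orb_b S ab).smul (Q_le S a b hx))
  · obtain ⟨x, hx, e⟩ := (locL S ab).trans b c (orb_b S ab) (mem_orb.1 h.1) ab.symm h.2
    exact ⟨x, mem_sup_left hx, e⟩

theorem Z_dec (hy : y ∈ Z[QQ (LL Z a b) a ⊔ T]) : ∃ u ∈ JJ Z a, ∃ w ∈ WW Z a b, y = u * w := by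
  obtain ⟨x, hx, w, hw, rfl⟩ := (mem_sup_l (cents_norm (T_cent S ab hT))).1 hy.1
  have c : x ∈ C[QQ (LL Z a b) a] := (mul_mem_cancel_right (T_cent S ab hT hw)).1 (centS le_sup_left hy.2)
  obtain ⟨u, hu, z, hz, rfl⟩ := (locL S ab).center (by decide) x hx fun y hy => by
    rw [← mem_C.1 c y hy]; simp
  exact ⟨u, hu, z * w, mul_mem (Ker_W S ab hz) (hT.le hw), mul_assoc _ _ _⟩

theorem J_le : JJ Z a ≤ Z[QQ (LL Z a b) a ⊔ T] := le_inf ((locL S ab).Ule.trans le_sup_left) (cent_symm (P_le S ab hT))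

theorem exists_y : ∃ y ∈ Z[QQ (LL Z a b) a ⊔ T], y ∉ JJ Z a := by
  obtain ⟨r, hr, ha, hb⟩ := S.exists_bad ab
  obtain ⟨y, hy, y1⟩ := Inv.exists_ne_one (hT.pi.nil.Z_ne_bot
    (hT.ne_bot' Nat.prime_two (hr.1 ▸ orderOf_dvd (S.bad_W hr ha hb))))
  exact ⟨y, ⟨mem_sup_right hy.1, centY (inf_le_left.trans (T_cent S ab hT)) inf_le_right hy⟩,
    fun e => y1 (S.J_free e ab.symm (hT.le hy.1).1.2)⟩

theorem not_syl (h : ¬ Syl 2 (QQ (LL Z a b) a ⊔ T) C[JJ Z a]) : q ^ 3 ∣ (St2 G a b).relIndex C[JJ Z a] := by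
  obtain ⟨P, hP, l⟩ := syl_superset Nat.prime_two (P_le S ab hT) (P_pig S ab hT)
  have lt := lt_norm_of_not_syl Nat.prime_two hP l h
  obtain ⟨g, hg, n⟩ := SetLike.exists_of_lt lt
  obtain ⟨y0, y1, y2⟩ := exists_y S ab hT
  obtain ⟨x, hx, x1, x2⟩ := (hP.pi.of_le (inf_le_left : P ⊓ N[QQ (LL Z a b) a ⊔ T] ≤ P)).nil.exists_Z_mod
    ((J_le S ab hT).trans (inf_le_left.trans lt.le)) (inf_le_left.trans (cents_norm hP.le)) (normZ inf_le_right)
    (inf_le_left.trans lt.le) fun e => y2 (e y1)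
  obtain ⟨u, hu, y, hy, rfl⟩ := Z_dec S ab hT hx
  have yZ := (mul_mem_cancel_left (J_le S ab hT hu)).1 hx
  have y1 : y ≠ 1 := fun e => x1 (by rw [e, mul_one]; exact hu)
  have gC := hP.le hg.1
  have gT : g ∈ TT (JJ Z a) y := ⟨gC, by
    have := conj_mem' (normG _ hu) (inv_mem (x2 (comm_mem (mem_zpowers _) hg)))
    convert this using 1
    calc _ = u⁻¹ * (u * g) * y * g⁻¹ * y⁻¹ := by group
      _ = _ := by rw [mem_C.1 gC u hu]; group⟩
  have v1 : g * y * g⁻¹ * y⁻¹ ≠ 1 := fun e => by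
    rw [mul_inv_eq_one, mul_inv_eq_iff_eq_mul] at e
    obtain ⟨x, hx, e2⟩ := orbC S hy.2 y1 hy.1.2 (c := g • b) (by rw [← mul_smul, ← e, mul_smul, show y • b = b from hy.1.2])
      ab fun e => ab (smul_left_cancel g ((S.CJ_le a gC).trans e))
    have : x⁻¹ * g ∈ St G b ⊓ P := mem_inf.2 ⟨by rw [mem_St, mul_smul, ← e2, inv_smul_smul],
      mul_mem (inv_mem (l (mem_sup_left hx))) (mem_inf.1 hg).1⟩
    rw [inf_eq S ab hT hP.pi hP.le (le_sup_right.trans l)] at this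
    exact n ((mul_mem_cancel_left (inv_mem (mem_sup_left hx))).1 (mem_sup_right this))
  have e := card_conj (TT (JJ Z a) y) y
  rw [show {x | ∃ d ∈ TT (JJ Z a) y, d * y * d⁻¹ = x} = (· * y) '' JJ Z a from Set.ext fun x => ⟨by
      rintro ⟨d, hd, rfl⟩
      exact ⟨_, hd.2, by simp⟩, by
      rintro ⟨v, hv, rfl⟩
      by_cases e : v = 1
      · exact ⟨1, one_mem _, by simp [e]⟩
      obtain ⟨k, hk, rfl⟩ := S.Ktrans a b ab _ gT.2 v hv v1 e
      have c := mem_C.1 (W_cent S ab hy) k (S.KleL a b ab hk)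
      have e : k * g * k⁻¹ * y * (k * g * k⁻¹)⁻¹ = k * (g * y * g⁻¹ * y⁻¹) * k⁻¹ * y := by
        have c' : k⁻¹ * y = y * k⁻¹ := by rw [inv_mul_eq_iff_eq_mul, ← mul_assoc, c]; group
        calc _ = k * g * (k⁻¹ * y) * k * g⁻¹ * k⁻¹ := by group
          _ = k * (g * y * g⁻¹ * y⁻¹) * (y * k⁻¹) := by rw [c']; group
          _ = _ := by rw [← c']; group
      exact ⟨k * g * k⁻¹, ⟨conj_mem (normC S a (S.Kle a b ab hk).1) gC, by rw [e, mul_inv_cancel_right]; exact hv⟩, e⟩⟩,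
    Set.ncard_image_of_injective _ (mul_left_injective y), ← Nat.card_coe_set_eq, SetLike.coe_sort_coe, S.cardJ] at e
  have d : #(QQ (LL Z a b) a ⊔ T) * q ∣ #C[JJ Z a] := by
    refine .trans ?_ (cardS (show TT (JJ Z a) y ≤ _ from fun _ h => h.1))
    rw [e]
    refine Nat.mul_dvd_mul_right (cardS fun c hc => ?_) _
    have := mem_C.1 yZ.2 c hc
    exact ⟨⟨P_le S ab hT hc, by rw [this]; simp⟩, mem_C1.2 this⟩
  rw [P_card S ab hT, ← card_inf_mul_relIndex (St2 G a b) C[JJ Z a], ← card_mul_relIndex hT.le, mul_assoc, mul_assoc,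
    Nat.mul_dvd_mul_iff_left (card_pos _), ← pow_succ] at d
  obtain ⟨m, -, rfl⟩ := S.pow
  exact Nat.Coprime.dvd_of_dvd_mul_left (Nat.Coprime.pow_left _ (Nat.Coprime.pow_left _
    ((Nat.prime_two.coprime_iff_not_dvd).2 (hT.not_dvd Nat.prime_two)))) d

theorem syl_le (h : Syl 2 (QQ (LL Z a b) a ⊔ T) C[JJ Z a]) : (St2 G a b ⊔ C[JJ Z a]).relIndex (St G a) ≤ q := by
  obtain ⟨y, y1, y2⟩ := exists_y S ab hT
  rw [← S.cardJ a]
  refine relIndex_le_of (fun h (u : JJ Z a) => ∃ c ∈ C[JJ Z a], (u * y) • c • h • b = c • h • b) (fun g hg => ?_) ?_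
  · obtain ⟨c, hc, n, hn, rfl⟩ := (h.frattini Nat.prime_two (S.CJ_le a) (normC S a)).ex g hg
    obtain ⟨u, hu, w, hw, e⟩ := Z_dec S ab hT (conj_mem' (normZ inf_le_right hn) y1)
    refine ⟨⟨_, conj_mem (S.normJ a hn.1) (inv_mem hu)⟩, c⁻¹, inv_mem hc, ?_⟩
    rw [mul_smul c, inv_smul_smul, show (n * u⁻¹ * n⁻¹) * y = n * (u⁻¹ * (n⁻¹ * y * n)) * n⁻¹ by group, e,
      inv_mul_cancel_left]
    exact conj_smul_fix hw.1.2 n
  rintro g hg k hk u ⟨c, hc, e1⟩ ⟨d, hd, e2⟩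
  have nb : ∀ c ∈ C[JJ Z a], ∀ g ∈ St G a, a ≠ c • g • b := fun c hc g hg e =>
    ab (smul_left_cancel g (hg.trans (smul_left_cancel c ((S.CJ_le a hc).trans e))))
  obtain ⟨x, hx, e⟩ := orbC S (mul_mem (S.abJ a u.2) (P_le S ab hT y1.1))
    (fun e => y2 ((mul_mem_cancel_left u.2).1 (e ▸ one_mem _))) e1 e2 (nb c hc g hg) (nb d hd k hk)
  have m := mul_mem (inv_mem hd) (mul_mem (Q_C S (nb c hc g hg) hx) hc)
  have : k⁻¹ * (d⁻¹ * (x * c)) * g ∈ St2 G a b := mem_inf.2 ⟨mul_mem (mul_mem (inv_mem hk) (S.CJ_le a m)) hg, by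
    rw [mem_St, mul_smul, mul_smul, mul_smul, mul_smul, e, inv_smul_smul, inv_smul_smul]⟩
  have := mul_mem (mem_sup_right (conj_mem' (normC S a hg) m) : _ ∈ St2 G a b ⊔ C[JJ Z a]) (mem_sup_left (inv_mem this))
  convert this using 1; group

end syl

end H5

open H5 in
theorem C2.false2 (S : C2 Ω Z q 2) : False := by
  obtain ⟨a, b, ab⟩ := S.nt.exists_pair_ne
  obtain ⟨T, hT⟩ := syl_exists Nat.prime_two (WW Z a b)
  have e := kd S ab
  have m3 : 3 ∣ q * (q - 1) + 1 := by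
    obtain ⟨s, rfl⟩ : ∃ s, q = 3 * s + 2 := ⟨q / 3, by have := mod3 S; omega⟩
    exact ⟨3 * (s * s + s) + 1, by rw [show 3 * s + 2 - 1 = 3 * s + 1 from rfl]; ring⟩
  have four := S.four_le
  refine not3 S ab ?_
  by_cases h : Syl 2 (QQ (LL Z a b) a ⊔ T) C[JJ Z a]
  · have le := syl_le S ab hT h
    have e1 := card_mul_relIndex h.le
    rw [P_card S ab hT, ← card_inf_mul_relIndex (St2 G a b) C[JJ Z a], ← card_mul_relIndex hT.le, mul_assoc, mul_assoc,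
      Nat.mul_right_inj (card_ne _)] at e1
    have n := h.not_dvd Nat.prime_two
    have d0 := relIndex_pos (St2 G a b ⊔ C[JJ Z a]) (St G a)
    generalize (St2 G a b ⊔ C[JJ Z a]).relIndex (St G a) = d at e le d0
    generalize (St2 G a b).relIndex C[JJ Z a] = κ at e e1
    generalize (QQ (LL Z a b) a ⊔ T).relIndex C[JJ Z a] = o' at e1 n
    generalize T.relIndex (WW Z a b) = o at e1
    have : q ∣ o' * d := ⟨o * (q * (q - 1) + 1), Nat.eq_of_mul_eq_mul_left (by positivity : 0 < q ^ 2) (by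
      rw [← mul_assoc, e1, mul_assoc, e]; ring)⟩
    obtain rfl : d = q := le.antisymm (Nat.le_of_dvd d0 (Nat.Coprime.dvd_of_dvd_mul_left (by
      obtain ⟨m, -, rfl⟩ := S.pow
      exact Nat.Coprime.pow_left _ ((Nat.prime_two.coprime_iff_not_dvd).2 n)) this))
    rw [Nat.eq_of_mul_eq_mul_right d0 (e.trans (by ring) : κ * d = d ^ 2 * (d * (d - 1) + 1) * d)]
    exact m3.mul_left _
  obtain ⟨k, hk⟩ := not_syl S ab hT h
  have o : Odd ((St2 G a b ⊔ C[JJ Z a]).relIndex (St G a)) := by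
    rw [hk, mul_assoc, Nat.mul_right_inj (by positivity)] at e
    exact (Even.add_one (Nat.even_mul_pred_self q)).of_dvd_nat (Dvd.intro_left _ e)
  have := odd_case S ab (by
    rw [← relIndex_mul_relIndex _ _ _ le_sup_right (sup_le inf_le_left (S.CJ_le a)), sup_comm,
      relIndex_sup_l (inf_le_left.trans (normC S a)), sup_comm]
    exact (odd_DW S ab).mul o)
  rw [relIndex_eq_one.2 this, mul_one] at e
  rw [e]; exact m3.mul_left _

end Cfsg.Agent.ZD
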