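import Cfsg.Agent.ZD.C2def

/-!
# End game, `i = 2`, first part: lines, (FP), `3 ∤ κ`
-/

set_option autoImplicit false
set_option linter.unusedVariables false
set_option linter.unusedSectionVars false

namespace Cfsg.Agent.ZD.H5
open Cfsg Cfsg.Agent.BG Cfsg.Agent.Inv Cfsg.Agent.SE MulAction Subgroup PHom

variable {G Ω : Type*} [Group G] [Finite G] [MulAction G Ω] {Z : Set G} {q p : ℕ}
variable {a b c d : Ω} {g u x y : G}

/-- the group of the line through `a` and `b` -/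
abbrev LL (Z : Set G) (a b : Ω) : Subgroup G := JJ Z a ⊔ JJ Z b

theorem XZ_L (Z : Set G) (a b : Ω) : XZ Z (LL Z a b) = LL Z a b :=
  le_antisymm (XZ_le _ _) (sup_le ((XZ_XZ Z _).ge.trans (XZ_mono le_sup_left))
    ((XZ_XZ Z _).ge.trans (XZ_mono le_sup_right)))

theorem mem_orb {M : Subgroup G} : c ∈ orbit M a ↔ Orb M a c :=
  ⟨fun ⟨m, e⟩ => ⟨m, m.2, e⟩, fun ⟨m, hm, e⟩ => ⟨⟨m, hm⟩, e⟩⟩

theorem not_dvd_deg (hp : p.Prime) (h : p ∣ q - 1) (h0 : 0 < q) : ¬ p ∣ q ^ 3 * (q * (q - 1) + 1) := by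
  obtain ⟨t, rfl⟩ : ∃ t, q = t + 1 := ⟨q - 1, by omega⟩
  rw [Nat.add_sub_cancel] at h ⊢
  intro e
  rcases (Nat.Prime.dvd_mul hp).1 e with e | e
  · exact hp.one_lt.ne' (Nat.dvd_one.1 ((Nat.dvd_add_right h).1 (hp.dvd_of_dvd_pow e)))
  · exact hp.one_lt.ne' (Nat.dvd_one.1 ((Nat.dvd_add_right (h.mul_left _)).1 e))

theorem relIndex_le_of {M H : Subgroup G} {ι : Type*} [Finite ι] (P : G → ι → Prop) (h1 : ∀ h ∈ H, ∃ i, P h i)
    (h2 : ∀ g ∈ H, ∀ h ∈ H, ∀ i, P g i → P h i → g⁻¹ * h ∈ M) : M.relIndex H ≤ Nat.card ι := by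
  refine Nat.card_le_card_of_injective (fun x : H ⧸ M.subgroupOf H => (h1 x.out x.out.2).choose) fun x y e => ?_
  rw [← x.out_eq, ← y.out_eq]
  exact QuotientGroup.eq.2 (h2 _ x.out.2 _ y.out.2 _ (h1 x.out x.out.2).choose_spec
    (by have := (h1 y.out y.out.2).choose_spec; dsimp only at e; rwa [← e] at this))

variable (S : C2 Ω Z q 2)
include S

theorem W_cent (ab : a ≠ b) : WW Z a b ≤ C[LL Z a b] := centY inf_le_right (S.Wsym a b ab)

theorem locL (ab : a ≠ b) : Loc Z (LL Z a b) a (JJ Z a) q 2 := by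
  obtain ⟨r, hr, ha, hb⟩ := S.exists_bad ab
  obtain ⟨j, h, e⟩ := S.loc (LL Z a b) a (fun e => S.C_ne_top (Y := zpowers r)
    (ne_bot_of_mem (mem_zpowers r) (ne_one_of_ord2 hr.1))
    (top_le_iff.1 (e.ge.trans (cent_symm ((zp_le (S.bad_W hr ha hb)).trans (W_cent S ab)))))) le_sup_left fun e => by
      obtain ⟨u, h1, h2⟩ := S.exists_J b
      exact ab (S.uniq h1 (e (mem_sup_right ((S.memJ b u).2 (.inr ⟨h1, h2⟩)))) h2)
  rw [XZ_L, e.2 rfl] at h; exact h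

theorem mod3 : q % 3 = 2 := by
  obtain ⟨a, b, ab⟩ := S.nt.exists_pair_ne
  have h : ¬ 3 ∣ q - 1 := by
    rcases (locL S ab).cases with h | h | h
    · omega
    · exact h.2
    · omega
  obtain ⟨m, -, e⟩ := S.pow
  have h2 : ¬ 3 ∣ q := fun h => by
    rw [e] at h; exact absurd (Nat.prime_three.dvd_of_dvd_pow h) (by decide)
  have := S.four_le
  omega

theorem fix_iff (ab : a ≠ b) (hy : y ∈ WW Z a b) (y1 : y ≠ 1) (c : Ω) : y • c = c ↔ Orb (LL Z a b) a c := by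
  haveI := S.finite
  obtain ⟨j, h, e⟩ := S.locY ab (zp_le hy) (ne_bot_of_mem (mem_zpowers y) y1)
  rw [e.2 rfl] at h
  have l : LL Z a b ≤ XZ Z C[zpowers y] := (XZ_L Z a b).ge.trans (XZ_mono (cent_symm ((zp_le hy).trans (W_cent S ab))))
  have := Set.eq_of_subset_of_ncard_le (s := orbit (LL Z a b) a) (t := orbit (XZ Z C[zpowers y]) a)
    (fun c hc => mem_orb.2 ((mem_orb.1 hc).mono l)) (h.card.trans (locL S ab).card.symm).le
  rw [← mem_orb, this, mem_orb, ← S.fixY (zp_le ⟨hy.1.1, hy.2⟩), zpowers_le, mem_St]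

theorem orb_b (ab : a ≠ b) : Orb (LL Z a b) a b := by
  obtain ⟨r, hr, ha, hb⟩ := S.exists_bad ab
  exact (fix_iff S ab (S.bad_W hr ha hb) (ne_one_of_ord2 hr.1) b).1 hb

theorem W_fix (ab : a ≠ b) (hy : y ∈ WW Z a b) (h : Orb (LL Z a b) a c) : y • c = c := by
  by_cases e : y = 1
  · rw [e, one_smul]
  exact (fix_iff S ab hy e c).2 h

theorem Ker_W (ab : a ≠ b) : Ker (LL Z a b) a ≤ WW Z a b :=
  le_inf (le_inf (Ker_le_St (Orb.refl _ _)) (Ker_le_St (orb_b S ab))) ((locL S ab).cent.trans (centS le_sup_left))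

theorem Q_le (a b : Ω) : QQ (LL Z a b) a ≤ LL Z a b := (O_le _ _).trans inf_le_left

theorem Q_C (ab : a ≠ b) : QQ (LL Z a b) a ≤ C[JJ Z a] := cent_symm (locL S ab).Ucent

theorem D_norm (a b : Ω) : St2 G a b ≤ N[QQ (LL Z a b) a] :=
  normO _ (normI (normY (inf_le_left.trans (S.normJ a)) (inf_le_right.trans (S.normJ b))) (normsG inf_le_left))

theorem normC (a : Ω) : St G a ≤ N[C[JJ Z a]] := BG.normC (S.normJ a)

/-- two points other than `a` fixed by `1 ≠ y ∈ C` are in the same `C`-orbit -/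
theorem orbC (hy : y ∈ C[JJ Z a]) (y1 : y ≠ 1) (hb : y • b = b) (hc : y • c = c) (ab : a ≠ b) (ac : a ≠ c) :
    ∃ x ∈ QQ (LL Z a b) a, x • b = c :=
  (locL S ab).trans b c (orb_b S ab) ((fix_iff S ab ⟨⟨S.CJ_le a hy, hb⟩, hy⟩ y1 c).1 hc) ab.symm ac.symm

theorem ncard_compl (a : Ω) : ({a}ᶜ : Set Ω).ncard = q ^ 3 * (q * (q - 1) + 1) := by
  haveI := S.finite
  have h := Set.ncard_add_ncard_compl ({a} : Set Ω)
  rw [Set.ncard_singleton, S.cardΩ] at h
  obtain ⟨t, rfl⟩ : ∃ t, q = t + 1 := ⟨q - 1, by have := S.four_le; omega⟩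
  rw [Nat.add_sub_cancel] at h ⊢
  refine Nat.add_left_cancel (h.trans ?_)
  ring

theorem idxD (ab : a ≠ b) : (St2 G a b).relIndex (St G a) = q ^ 3 * (q * (q - 1) + 1) := by
  rw [inf_relIndex_left, relIndex_stab, ← ncard_compl S a]
  congr 1; ext c
  rw [mem_orb]
  refine ⟨?_, fun h => ?_⟩
  · rintro ⟨m, hm, rfl⟩ e
    exact ab (smul_left_cancel m (hm.trans e.symm))
  · obtain ⟨g, h1, h2⟩ := S.tr2 a b a c ab (Ne.symm h)
    exact ⟨g, h1, h2⟩

theorem kd (ab : a ≠ b) : (St2 G a b).relIndex C[JJ Z a] * (St2 G a b ⊔ C[JJ Z a]).relIndex (St G a) =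
    q ^ 3 * (q * (q - 1) + 1) := by
  rw [← (isProd_r (inf_le_left.trans (normC S a)) : IsProd (St2 G a b) C[JJ Z a] _).relIndex,
    relIndex_mul_relIndex _ _ _ le_sup_left (sup_le inf_le_left (S.CJ_le a)), idxD S ab]

theorem cjW (ab : a ≠ b) (ac : a ≠ c) : ∃ g : G, cj g (WW Z a b) = WW Z a c := by
  obtain ⟨g, h1, h2⟩ := S.tr2 a b a c ab ac
  exact ⟨g, by rw [cj_inf, SE.cj_St2, cj_C, S.cj_JJ, h1, h2]⟩

theorem cent_of_fix (hu : u ∈ JJ Z a) (ha : g • a = a) (hb : g • b = b) (h : g • u • b = u • b) (ab : a ≠ b) :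
    g * u = u * g := by
  have := S.J_free (mul_mem (inv_mem hu) (conj_mem (S.normJ a ha) hu)) ab.symm (by
    rw [mul_smul, mul_smul, mul_smul, inv_smul_eq_iff.2 hb.symm, h, inv_smul_smul])
  rw [inv_mul_eq_one, eq_mul_inv_iff_mul_eq] at this
  exact this.symm

/-- an element fixing three points of a line centralizes a member of `Z` -/
theorem line_cent (ha : g • a = a) (hb : g • b = b) (hc : g • c = c) (ab : a ≠ b) (ac : a ≠ c) (bc : b ≠ c)
    (h : Orb (LL Z a b) a c) : ∃ u ∈ JJ Z a, u ≠ 1 ∧ g * u = u * g := by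
  have T := locL S ab
  have o := orb_b S ab
  obtain ⟨x, hx, rfl⟩ := T.trans b c o h ab.symm ac.symm
  have z := T.reg _ (mul_mem (inv_mem hx) (conj_mem (D_norm S a b ⟨ha, hb⟩) hx)) b o ab.symm (by
    rw [mul_smul, mul_smul, mul_smul, inv_smul_eq_iff.2 hb.symm, hc, inv_smul_smul])
  obtain ⟨u, hu, z', hz, e⟩ := T.sq x hx
  by_cases u1 : u = 1
  · obtain ⟨v, hv, z'', hz', rfl⟩ := T.inv x hx (by rw [e, u1, one_mul]; exact hz)
    rw [mul_smul, hz'.2 b o] at hc bc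
    exact ⟨v, hv, fun e => bc (by rw [e, one_smul]), cent_of_fix S hv ha hb hc ab⟩
  refine ⟨u, hu, u1, cent_of_fix S hu ha hb ?_ ab⟩
  rw [← hz.2 b o, ← mul_smul u, ← e, mul_smul]
  have := z.2 _ h
  rw [mul_smul, mul_smul, mul_smul, inv_smul_eq_iff.2 hc.symm, inv_smul_eq_iff] at this
  exact this

theorem exists_V (hp : p.Prime) (pd : p ∣ q - 1) (hg : PiE {p} g) (ha : g • a = a) (hb : g • b = b) (ab : a ≠ b) :
    ∃ V : Subgroup G, PiG {p} V ∧ V ≤ C1[g] ⊓ St G a ∧ V ≤ St G b ∧ ∀ c : Ω, (∀ v ∈ V, v • c = c) → c = a ∨ c = b := by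
  have e := (S.Kcyc a b ab).card_Om hp (by rwa [Nat.eq_sub_of_add_eq (S.Kcard a b ab)])
  have l := (Om_le p _).trans (S.Kle a b ab)
  obtain ⟨k, hk, k1⟩ := Inv.exists_ne_one (ne_bot_of_prime (e.symm ▸ hp))
  refine ⟨_, pig_of_card' hp e, le_inf (le_C1_iff.2 ((pig_zpowers.2 hg).cent_of_prime hp e
    (normOm p (zp_le (S.Knorm a b ab ⟨ha, hb⟩))) (mem_zpowers g))) (l.trans inf_le_left), l.trans inf_le_right,
    fun c h => S.Kfix a b ab k (Om_le p _ hk) k1 c (h k hk)⟩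

theorem fixC (hx : x ∈ C1[g]) (ha : g • a = a) : g • x • a = x • a := by
  rw [← mul_smul, ← mem_C1.1 hx, mul_smul, ha]

theorem gleason (hp : p.Prime) (pd : p ∣ q - 1) (hg : PiE {p} g) (ha : g • a = a) (hb : g • b = b) (hc : g • c = c)
    (ab : a ≠ b) (ac : a ≠ c) : ∃ x ∈ C1[g] ⊓ St G a, x • b = c := by
  haveI := S.finite
  by_contra n
  have na : a ∉ orbit (C1[g] ⊓ St G a : Subgroup G) b := fun ⟨m, e⟩ =>
    ab (smul_left_cancel (m : G) (m.2.2.trans e.symm))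
  obtain ⟨V, v1, v2, v3, v4⟩ := exists_V S hp pd hg ha hb ab
  obtain ⟨U, u1, u2, u3, u4⟩ := exists_V S hp pd hg ha hc ac
  by_cases h : p ∣ (orbit (C1[g] ⊓ St G a : Subgroup G) b).ncard
  · obtain ⟨d, hd, e⟩ := exists_fixed_of_not_dvd hp v1 (X := orbit (C1[g] ⊓ St G a : Subgroup G) b \ {b})
      (fun r hr c hc => ⟨mem_orb.2 ((mem_orb.1 hc.1).smul (v2 hr)), fun e =>
        hc.2 (smul_left_cancel r (e.trans (v3 hr).symm))⟩) fun e => by
        rw [← Set.ncard_diff_singleton_add_one (mem_orbit_self b)] at h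
        exact hp.one_lt.ne' (Nat.dvd_one.1 ((Nat.dvd_add_right e).1 h))
    rcases v4 d e with rfl | rfl
    exacts [na hd.1, hd.2 rfl]
  · obtain ⟨d, hd, e⟩ := exists_fixed_of_not_dvd hp u1 (fun r hr c hc => mem_orb.2 ((mem_orb.1 hc).smul (u2 hr))) h
    rcases u4 d e with rfl | rfl
    exacts [na hd, n (mem_orb.1 hd)]

/-- (FP) -/
theorem FP (hp : p.Prime) (pd : p ∣ q - 1) (hg : PiE {p} g) (hJ : ∀ u ∈ JJ Z a, g * u = u * g → u = 1)
    (ha : g • a = a) (hb : g • b = b) (hc : g • c = c) (ab : a ≠ b) (ac : a ≠ c) (bc : b ≠ c) : False := by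
  have noZ : ∀ z ∈ Z, g ∉ C1[z] := fun z hz h => by
    obtain ⟨α, e⟩ := S.ex hz
    have m := (S.memJ α z).2 (.inr ⟨hz, e⟩)
    by_cases n : a = α
    · subst n; exact S.ne_one hz (hJ z m (mem_C1.1 h))
    obtain ⟨u, h1, h2, h3⟩ := S.sym a α n g ⟨ha, S.C1_le hz e h⟩ ⟨z, m, S.ne_one hz, h⟩
    exact h2 (hJ u h1 (mem_C1.1 h3))
  obtain ⟨x, hx, e1⟩ := gleason S hp pd hg hc ha hb ac.symm bc.symm
  obtain ⟨y, hy, e2⟩ := gleason S hp pd hg hb (fixC S hx.1 hb) ha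
    (fun e => ab (smul_left_cancel x (e1.trans e))) ab.symm
  obtain ⟨r, hr, o⟩ := exists_ord_two (X := C1[g]) fun o => ab (fix_of_odd_swap (odd_ord_of_mem o (mul_mem hy.1 hx.1))
    (by rw [mul_smul, e1]; exact hy.2) (by rw [mul_smul, e2]))
  have B : Bad Z r := ⟨o, fun e => noZ r e (C1_symm hr)⟩
  have f : ∀ c : Ω, g • c = c → r • c = c := fun c hc => by_contra fun n => by
    obtain ⟨z, ⟨z1, z2, z3⟩, -⟩ := S.uniqZ r c B n
    exact noZ z z1 (S.cent_uniqZ B z1 z2 n z3 (C1_symm hr) hc)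
  obtain ⟨u, h1, h2, h3⟩ := line_cent S ha hb hc ab ac bc
    ((fix_iff S ab (S.bad_W B (f a ha) (f b hb)) (ne_one_of_ord2 o) c).1 (f c hc))
  exact h2 (hJ u h1 h3)

theorem ncard_line (ab : a ≠ b) : (orbit (LL Z a b) a \ {a}).ncard = q ^ 2 := by
  haveI := S.finite
  exact Nat.add_right_cancel ((Set.ncard_diff_singleton_add_one (mem_orbit_self a)).trans (locL S ab).card)

theorem exists_p : ∃ p, p.Prime ∧ p ∣ q - 1 := Nat.exists_prime_and_dvd (by have := S.four_le; omega)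

theorem odd_p (hp : p.Prime) (h : p ∣ q - 1) : Odd p := by
  obtain ⟨m, h1, rfl⟩ := S.pow
  exact (Nat.Even.sub_odd (Nat.one_le_two_pow) (Nat.even_pow.2 ⟨even_two, by omega⟩) odd_one).of_dvd_nat h

theorem not3 (ab : a ≠ b) : ¬ 3 ∣ (St2 G a b).relIndex C[JJ Z a] := by
  intro h3
  have t := Nat.prime_three
  obtain ⟨R, hR⟩ := syl_exists t (WW Z a b)
  have key : ∀ (U : Subgroup G) (c : Ω), PiG {3} U → U ≤ C[JJ Z a] → a ≠ c → U ≤ St G c → #U ≤ #R := by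
    intro U c h1 h2 h3 h4
    obtain ⟨g, e⟩ := cjW S ab h3
    rw [← card_cj g R]
    exact Syl.card_le (hR.cj g) h1 (e ▸ le_inf (le_inf (h2.trans (S.CJ_le a)) h4) h2)
  have ns : ¬ Syl 3 R C[JJ Z a] := fun h => h.not_dvd t (by
    rw [← relIndex_mul_relIndex _ _ _ hR.le inf_le_right, inf_relIndex_right]; exact h3.mul_left _)
  have l := hR.le.trans inf_le_right
  by_cases R1 : R = ⊥
  swap
  · obtain ⟨y, hy, y1⟩ := Inv.exists_ne_one R1
    obtain ⟨P, hP, RP⟩ := syl_superset t (le_inf l (normG R)) hR.pi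
    obtain ⟨c, hc, e⟩ := exists_fixed_of_not_dvd t hP.pi (X := orbit (LL Z a b) a \ {a})
      (fun r hr c hc => ⟨mem_orb.2 ((fix_iff S ab (hR.le hy) y1 _).1 (fix_smul (hP.le hr).2
        (fun w hw => W_fix S ab (hR.le hw) (mem_orb.1 hc.1)) hy)), fun e =>
        hc.2 (smul_left_cancel r (e.trans (S.CJ_le a (hP.le hr).1).symm))⟩) (by
        rw [ncard_line S ab]; intro e; have := t.dvd_of_dvd_pow e; have := mod3 S; omega)
    exact exists_gt_norm t l hR.pi ns (eq_of_card_le RP (key P c hP.pi (hP.le.trans inf_le_left) (Ne.symm hc.2) e) ▸ hP)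
  subst R1
  obtain ⟨P, hP⟩ := syl_exists t C[JJ Z a]
  have P1 : P ≠ ⊥ := fun e => ns (e ▸ hP)
  have cP : #P = 3 := by
    obtain ⟨k, e⟩ := hP.pi.card_pow t
    have d := cardS hP.le
    rw [e, ← card_inf_mul_relIndex (St2 G a b)] at d
    have n := hR.not_dvd t
    rw [relIndex_bot_left] at n
    replace d := (Nat.Coprime.dvd_of_dvd_mul_left (Nat.Coprime.pow_left k ((t.coprime_iff_not_dvd).2 n)) d).trans
      (Dvd.intro _ (kd S ab))
    have m := mod3 S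
    replace d := Nat.Coprime.dvd_of_dvd_mul_left (Nat.Coprime.pow k 3 ((t.coprime_iff_not_dvd).2 (by omega))) d
    obtain ⟨s, rfl⟩ : ∃ s, q = 3 * s + 2 := ⟨q / 3, by omega⟩
    rw [show (3 * s + 2) * (3 * s + 2 - 1) + 1 = 9 * (s * s + s) + 3 by
      rw [show 3 * s + 2 - 1 = 3 * s + 1 from rfl]; ring] at d
    rcases k with _ | _ | k
    · exact absurd e (one_lt_card P1).ne'
    · exact e
    · have := (Dvd.intro _ (show 9 * 3 ^ k = 3 ^ (k + 1 + 1) by ring)).trans d; omega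
  obtain ⟨p, hp, pd⟩ := exists_p S
  obtain ⟨k, hk, ok⟩ := cauchy (A := KK Z a b) hp (by rwa [Nat.eq_sub_of_add_eq (S.Kcard a b ab)])
  have kH : zpowers k ≤ St G a := zp_le (S.Kle a b ab hk).1
  have lM := sup_le (S.CJ_le a) kH
  obtain ⟨c, hc, n, hn, e⟩ := (Syl.frattini hP t le_sup_left (lM.trans (normC S a))).ex k (mem_sup_right (mem_zpowers k))
  obtain ⟨g, g1, w, w1, rfl, g2, w2⟩ := exists_pi_part {p} n
  have wC : w ∈ C[JJ Z a] := mem_of_cop_relIndex (lM.trans (normC S a)) (zp_le hn.1 w1) (PiN.coprime' w2 (by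
    rw [relIndex_sup_l (kH.trans (normC S a))]
    exact (pig_zpowers.2 (by rw [PiE, ok]; exact pin_single_self hp)).relIndex _))
  have ga : g • a = a := lM (zp_le hn.1 g1)
  have gP : g ∈ C[P] := mem_of_cop_relIndex (BG.normC le_rfl) (zp_le hn.2 g1) (Nat.Coprime.of_dvd_right
    (idx_cent_prime t cP le_rfl) (((pin_compl_cop Nat.prime_two).1 (g2.ne_compl fun e => by
      have := odd_p S hp pd; rw [e] at this; exact absurd this (by decide)))))
  obtain ⟨x, hx, x1⟩ := Inv.exists_ne_one P1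
  obtain ⟨d, hd, f⟩ := exists_fixed_of_not_dvd hp (pig_zpowers.2 g2) (X := ({a}ᶜ : Set Ω))
    (fun r hr c hc e => hc (smul_left_cancel r (e.trans (zp_le (X := St G a) ga hr).symm)))
    (by rw [ncard_compl S]; exact not_dvd_deg hp pd (by have := S.four_le; omega))
  refine FP S hp pd g2 (fun u hu h => by_contra fun u1 => ?_) ga (f g (mem_zpowers g))
    (fixC S (C_le_C1 (mem_zpowers g) (cent_symm (zp_le gP) hx) |> fun h => h) (f g (mem_zpowers g))) (Ne.symm hd)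
    (fun e => hd (smul_left_cancel x (e.symm.trans (S.CJ_le a (hP.le hx)).symm))) fun e => ?_
  · have := S.Kfree a b ab k hk u hu u1 (by
      rw [e, mul_assoc, mul_assoc, ← mem_C.1 wC u hu, ← mul_assoc g, h, ← mul_assoc, ← mul_assoc, ← mem_C.1 hc u hu]
      simp only [mul_assoc])
    rw [this, orderOf_one] at ok
    exact hp.one_lt.ne ok
  · have := key (zpowers x) d (hP.pi.of_le (zp_le hx)) (zp_le (hP.le hx)) (Ne.symm hd) (zp_le e.symm)
    rw [card_bot'] at this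
    exact (one_lt_card (ne_bot_of_mem (mem_zpowers x) x1)).not_ge this

end Cfsg.Agent.ZD.H5
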