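import Cfsg.Agent.ZD.C23b

/-!
# End game, `i = 3`

Notation as in `C21`; `r` bad fixing `a, b`, `X = ⟨Z ∩ C(r)⟩` (orbit `Fix r`, `j = 3`), `Q = QQ X a`, `Z₀ = Q ⊓ Ker X`, `ℓ = {a} ∪ J b`.
For `1 ≠ Y ≤ W`, `|Fix Y| ∈ {q + 1, q³ + 1}` (`fixY`, `locY`), `ℓ ⊆ Fix Y`.
1. `w` from `cases`; let `y` be the `p`-part of `w` with `y ∉ Ker X` (`p` odd by `odd`).  `Fix y ≠ ℓ`: `E = ⟨r⟩ J`, `C(E) = C_C(r) = Q A`, `A = C_W(r)`;
   `R ∈ Syl_p(A)`, `y ∈ R`, is Sylow in `C(E)`; Frattini in `N(E)` and `conjB` give `g ∈ N(R) ∩ H` with `r^g = r u`, `u ≠ 1`; if `Fix R = ℓ` then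
   `ℓ = g ℓ ⊆ Fix r ∩ Fix (r u) = {a}`.  So `|Fix y| = q³ + 1`, `Fix y ≠ Fix r`, `Fix y ∩ Fix r = ℓ`.
2. `X' = ⟨Z ∩ C(y)⟩`, `Q' = QQ X' a`, `Z' = Q' ⊓ Ker X'`.  For every bad `ρ` with `Fix ρ = Fix r` (it centralizes `X`, `y`, `J`, `K`):
   `x ∈ Q'`, `[ρ,x] ∈ Z'` ⟹ `x b ∈ ℓ` ⟹ `x ∈ J Z'`.  `Ê(ρ) = {x ∈ Q' | [ρ,x] ∈ J Z'}` has `|Ê : J Z'| = q` (`≥ q` as `Q'/JZ'` is elementary of order `q²`,
   `≤ q` by `x ↦ [ρ,x] Z'`), `x ↦ [ρ,x]` maps onto `J Z'/Z'`, `K` is transitive on `(Ê/JZ')#`.  `ρ` inverts `Ê` mod `Z'`: true on `J Z'` and on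
   `e₀ = [x,ρ]` for `x ∈ Q' - Ê` (`e₀ ∈ Ê - J Z'`), invariant under `K` and `J Z'`.
3. (no four-group) `r ≠ r'` bad, commuting, same fixed points: `r r'` is bad with the same fixed points; `r'` acts on `Ê(r)/JZ'` commuting with `K`, so
   trivially, `Ê(r) ≤ Ê(r')`; both invert it mod `Z'`, so `r r'` centralizes it mod `Z'`, `Ê(r) ≤ J Z'`, false.  (Prove 1-3 for arbitrary `r, a, b`.)
4. `E₂ = [Ê(r), K]`: the `Z'`-component of `[r,x]` is a `K`-invariant homomorphism, so `[r,E₂] ≤ J`; `Ê = E₂ Z'` (coprime action, `C_Ê(K) ≤ Z'` by `Kfix`).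
   `E₂` normalizes `C(E)` and centralizes `y`; `Q° = [O₂(C(E)), y] = [Q,y]` (`O₂(C(E)) = Q A₂`, `[A₂,y] ≤ Z₀` by `odd`), `Q = Q° J Z₀` (`C_Q(y) ≤ J Z₀`),
   `Z(Q°) = Q° ⊓ J Z₀` (`center`).  `C_{Q°/Z}(E₂) ≠ 1` is `K⟨y⟩`-invariant; if proper it has order `q` (`K` semiregular), `y` acts on it as some `k ∈ K`,
   and `x² = (x^y)² = (x²)^k` mod `Z₀` forces `k = 1`, against `C_Q(y) ≤ J Z₀`.  So `[Q°,E₂] ≤ Z(Q°)`, and `x ↦ [x,e]` is a `y`-invariant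
   homomorphism, so `[Q°,E₂] = 1`.
5. `Q₁ = Q° J` meets `Ker X` trivially (an involution there is bad with the fixed points of `r`, so is `r` by 3, but `E₂` centralizes it); `E₃ = E₂ J` meets
   `Z'` trivially (such an element centralizes `Q₁`, fixes `Fix r ∪ Fix y`).  So `x² ∈ J` for `x ∈ Q₁`, `r` inverts `E₃` (abelian, order `q²`, squaring onto `J`,
   semiregular on `Ω - a`), `Q₁ ⊓ E₃ = J`.
6. `x ∈ Q₁ - J`, `x' ∈ C_{Q₁}(x)`, `x' ∉ J ∪ x J` (kernel of `x' ↦ [x,x']` on `Q₁/J` has order `≥ q ≥ 4`), `e² = x²`, `e'² = x'²`: `y₁ = x e`, `y₁' = x' e'` are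
   commuting involutions, `y₁, y₁', y₁ y₁' ∉ J`, so bad (`bad_of`).  If they have a common fixed point `c ≠ a` put `g = y₁'`; else take `a ≠ c ∈ Fix y₁`,
   `z` from `uniqZ` for `y₁'`; `y₁` centralizes `z`, so `z` fixes a common fixed point, `z ∈ J`, `g = y₁' z` fixes `c`.  `E₃ c ⊆ Fix ⟨y₁, g⟩` has `q²` points,
   so `|Fix ⟨y₁,g⟩| = q³ + 1`, `Fix y₁ = Fix g`, against 3.

The formal proof shortens 4, 5: `P = [O₂(C(E)), y] J` has all squares in `J` (by 3 and `inv`), and `triv_mod_center` replaces the count with `K`.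
-/

set_option autoImplicit false
set_option linter.unusedVariables false
set_option linter.unusedSectionVars false

namespace Cfsg.Agent.ZD
open Cfsg Cfsg.Agent.BG Cfsg.Agent.Inv Cfsg.Agent.SE MulAction Subgroup PHom

variable {G Ω : Type*} [Group G] [Finite G] [MulAction G Ω] {Z : Set G} {q : ℕ}
variable {a b c d : Ω} {r ρ g u x y z e e' n : G}

/-- `[O₂(C(r) ⊓ C(J)), y] J` -/
abbrev PP (Z : Set G) (a : Ω) (r y : G) : Subgroup G := ⁅O[{2}](C1[r] ⊓ C[JJ Z a]), zpowers y⁆ ⊔ JJ Z a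

/-- elements of `O₂(⟨Z ∩ C(y)⟩_a)` normalizing `⟨r⟩ J` -/
def EE (Z : Set G) (a : Ω) (r y e : G) : Prop := e ∈ QQ (XZ Z C1[y]) a ∧ r * e * r⁻¹ * e⁻¹ ∈ JJ Z a

theorem C2.false_of (S : C2 Ω Z q 3) (ac : a ≠ c) (hρ : Bad Z ρ) (hg : orderOf g = 2) (n : ρ ≠ g) (h : ρ * g = g * ρ)
    (h1 : ρ • a = a) (h2 : ρ • c = c) (h3 : g • a = a) (h4 : g • c = c) (e1 : e ∈ C1[ρ]) (e2 : e ∈ C1[g])
    (e3 : e ∈ C[JJ Z a]) (e4 : e * e ∈ JJ Z a) (e5 : e * e ≠ 1) : False := by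
  refine n (S.no4 ac hρ h1 h2 hg h fun d => S.pair_fix ac hρ (S.bad_W hρ h1 h2)
    (S.bad_W (S.bad_of2 hg ac h3 h4) h3 h4) (d := e • c) (by rw [← mul_smul, ← mem_C1.1 e1, mul_smul, h2])
    (by rw [← mul_smul, ← mem_C1.1 e2, mul_smul, h4]) ?_)
  rintro (f | ⟨u, hu, f⟩)
  · exact ac (smul_left_cancel e ((S.CJ_le a e3).trans f.symm))
  · exact e5 (S.J_free e4 ac.symm (by
      rw [mul_smul, ← f, ← mul_smul, ← mem_C.1 e3 u hu, mul_smul, ← f, ← mul_smul, S.J_sq hu, one_smul]))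

namespace Cf
variable (S : C2 Ω Z q 3) (F : Cf Z a b r y)
include S F

theorem ob : Orb (XZ Z C1[r]) a b := (S.fix1 F.ra (F.rW S).2 b).2 F.rb
theorem Bn (hg : g ∈ C1[r] ⊓ C[JJ Z a]) : g ∈ N[XZ Z C1[r]] ∧ g • a = a := ⟨S.XZ_norm' _ hg.1, S.CJ_le a hg.2⟩
theorem QT : QQ (XZ Z C1[r]) a ≤ O[{2}](C1[r] ⊓ C[JJ Z a]) :=
  le_O (le_inf ((QQ_le _ _).trans (XZ_le _ _)) (cent_symm (F.LX S).Ucent))
    (fun g hg => norm_QQ (F.Bn S hg).1 (F.Bn S hg).2) (O_pig _ _)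
theorem yT : zpowers y ≤ N[O[{2}](C1[r] ⊓ C[JJ Z a])] := (zp_le (mem_inf.2 ⟨XZ_le _ _ F.yX, F.yW.2⟩)).trans (O_norm _ _)
theorem cop : (#(zpowers y)).Coprime #O[{2}](C1[r] ⊓ C[JJ Z a]) :=
  PiN.coprime' (pig2_of_odd (by simpa using F.odd)) (O_pig _ _)

theorem PQ : PP Z a r y ≤ QQ (XZ Z C1[r]) a := by
  refine sup_le (le_trans (le_inf (commL (F.yT S)) (comm_le_iff.2 fun t ht v hv => ?_))
    (le_O inf_le_right (normI (normO _ (normI (normC1 (inf_le_left.trans (XZ_le _ _)))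
      (normC (inf_le_right.trans (S.normJ a))))) (normG _)) ((O_pig _ _).of_le inf_le_left))) (F.LX S).Ule
  have := zp_le (mem_inf.2 ⟨F.yX, F.yW.1.1⟩) hv
  have h := F.Bn S (O_le _ _ ht)
  exact mul_mem (conj_mem (mem_normI h.1 (normG _ h.2)) this) (inv_mem this)

theorem Pr : PP Z a r y ≤ C1[r] := (F.PQ S).trans ((QQ_le _ _).trans (XZ_le _ _))

theorem cfix (hx : x ∈ QQ (XZ Z C1[r]) a) (h : y ∈ C1[x]) : x ∈ JJ Z a ⊔ Ker (XZ Z C1[r]) a :=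
  (F.LX S).memD (F.ob S) F.ab.symm hx ((F.lin S F.bad (fun _ e => e)
    ((S.fix1 F.ra (F.rW S).2 _).1 ((F.ob S).smul (QQ_le _ _ hx)))
    (by rw [← mul_smul, mem_C1.1 h, mul_smul, F.yW.1.2])).resolve_left
      fun e => F.ab (smul_left_cancel x ((QQ_St _ _ hx).trans e.symm)))

theorem cov (hx : x ∈ QQ (XZ Z C1[r]) a) : ∃ p ∈ PP Z a r y, p⁻¹ * x ∈ Ker (XZ Z C1[r]) a := by
  obtain ⟨p, hp, d, hd, rfl⟩ := (cop_cent_prod (F.yT S) (F.cop S) (.inl (abel_zpowers y).sol)).ex x (F.QT S hx)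
  obtain ⟨u, hu, z, hz, rfl⟩ := (F.LX S).mem.1 (F.cfix S (x := d)
    (by simpa using mul_mem (inv_mem (F.PQ S (mem_sup_left hp))) hx) (mem_C1.2 (mem_C.1 hd.2 y (mem_zpowers y))))
  exact ⟨_, mul_mem_sup hp hu, by simpa [mul_assoc] using hz⟩

theorem cent_iff (hx : x ∈ PP Z a r y) : x ∈ C[PP Z a r y] ↔ x ∈ JJ Z a ⊔ Ker (XZ Z C1[r]) a := by
  refine ⟨fun h => (F.LX S).mem.2 ((F.LX S).center (by decide) x (F.PQ S hx) fun v hv => ?_),
    fun h => centS (F.PQ S) ((F.LX S).dc h)⟩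
  obtain ⟨p, hp, hz⟩ := F.cov S hv
  have : x * v = v * x := by
    calc _ = x * p * (p⁻¹ * v) := by group
      _ = _ := by rw [← mem_C.1 h p hp, mul_assoc, mem_C.1 ((F.LX S).nc hz) x (F.PQ S hx)]; group
  rw [this]; simp

theorem Econj (he : EE Z a r y e) : e * r * e⁻¹ = r * (r * e * r⁻¹ * e⁻¹) := by
  rw [inv_of_ord F.bad.1, ← mul_assoc, ← mul_assoc, ← mul_assoc, mul_self_of_ord F.bad.1, one_mul]
theorem EJ (he : EE Z a r y e) : e ∈ C[JJ Z a] := cent_symm (F.LY S).Ucent he.1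
theorem Ey (he : EE Z a r y e) : e ∈ C1[y] := XZ_le _ _ (QQ_le _ _ he.1)
theorem EP (he : EE Z a r y e) : e ∈ N[PP Z a r y] :=
  normY (normR (normO _ (zp_le (S.norm_B (F.rW S).2 he.2 (C_le_N _ (F.EJ S he)) (F.Econj S he))))
    (norm_zpowers (zp_le (F.Ey S he)))) (zp_le (C_le_N _ (F.EJ S he))) (mem_zpowers e)
theorem exE (hu : u ∈ JJ Z a) : ∃ e, EE Z a r y e ∧ r * e * r⁻¹ * e⁻¹ = u :=
  have ⟨e, h1, h2⟩ := (F.AB S).exists_psi (F.AR S F.bad fun _ e => e) hu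
  ⟨e, ⟨h1, h2 ▸ hu⟩, h2⟩
theorem Emul (he : EE Z a r y e) (he' : EE Z a r y e') : EE Z a r y (e * e') := ⟨mul_mem he.1 he'.1, by
  convert mul_mem he.2 (conj_mem (C_le_N _ (F.EJ S he)) he'.2) using 1; group⟩

theorem ker_inv (hz : z ∈ Ker (XZ Z C1[r]) a) (h : z * z = 1) : z = 1 ∨ z = r := by
  refine or_iff_not_imp_left.2 fun z1 => (S.no4 F.ab F.bad F.ra F.rb (ord2_iff.2 ⟨h, z1⟩)
    (mem_C1.1 (XZ_le _ _ hz.1)).symm fun c hc => hz.2 c ((S.fix1 F.ra (F.rW S).2 c).2 hc)).symm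

theorem sq_ne (hx : x ∈ PP Z a r y) (hu : u ∈ JJ Z a) : x * x ≠ r * u := fun h => by
  have L := F.LX S
  obtain ⟨e, he, rfl⟩ := F.exE S hu
  rw [← F.Econj S he] at h
  have m := conj_mem' (F.EP S he) hx
  have s : e⁻¹ * x * e * (e⁻¹ * x * e) = r := by
    calc _ = e⁻¹ * (x * x) * e := by group
      _ = _ := by rw [h]; group
  generalize e⁻¹ * x * e = v at m s
  have c := (F.cent_iff S m).2 (L.mem.2 (L.inv v (F.PQ S m) ⟨QQ_le _ _ (F.PQ S (mul_mem m m)),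
    fun c hc => s ▸ (S.fix1 F.ra (F.rW S).2 c).1 hc⟩))
  obtain ⟨w, w1, w2⟩ := S.exists_J a
  have wJ := (S.memJ a w).2 (.inr ⟨w1, w2⟩)
  obtain ⟨f, hf, f1⟩ := F.exE S wJ
  obtain ⟨u, hu, z, hz, e1⟩ := L.mem.1 ((F.cent_iff S (conj_mem (F.EP S hf) m)).1
    (conj_mem (normC le_rfl (F.EP S hf)) c))
  have : z * z = w * r := by
    calc _ = u * z * (u * z) := by
          rw [mul_assoc, ← mul_assoc z, ← mem_C.1 (L.nc hz) u (L.Ule hu), mul_assoc u, ← mul_assoc u u, S.J_sq hu, one_mul]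
      _ = f * (v * v) * f⁻¹ := by rw [← e1]; group
      _ = _ := by rw [s, F.Econj S hf, f1, mem_C.1 (F.rW S).2 w wJ]
  have h2 := (mul_mem hz hz).2 b (F.ob S)
  rw [this, mul_smul, F.rb] at h2
  exact F.ab (S.uniq w1 w2 h2)

theorem ker_P (hz : z ∈ PP Z a r y) (h : z ∈ Ker (XZ Z C1[r]) a) : z = 1 ∨ z = r := by
  obtain ⟨n, hn⟩ := ((O_pig _ _).elt (F.PQ S hz)).pow_eq_one Nat.prime_two
  induction n generalizing z with
  | zero => exact .inl (by simpa using hn)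
  | succ n ih =>
    exact F.ker_inv S h ((ih (mul_mem hz hz) (mul_mem h h) (by rw [← pow_two, ← pow_mul, ← pow_succ', hn])).resolve_right
      (by simpa using F.sq_ne S hz (one_mem _)))

theorem sqJ (hx : x ∈ PP Z a r y) : x * x ∈ JJ Z a := by
  obtain ⟨u, hu, z, hz, e⟩ := (F.LX S).sq x (F.PQ S hx)
  rcases F.ker_P S (z := z) (by simpa [e] using mul_mem (inv_mem (mem_sup_right hu)) (mul_mem hx hx)) hz with rfl | rfl
  · simpa [e] using hu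
  · exact absurd (e.trans (mem_C.1 (F.rW S).2 u hu)) (F.sq_ne S hx hu)

theorem yD : JJ Z a ⊔ Ker (XZ Z C1[r]) a ≤ C1[y] :=
  sup_le (le_C1_iff.2 F.yW.2) ((F.LX S).cent.trans (C_le_C1 F.yX))

theorem centE (he : EE Z a r y e) : e ∈ C[PP Z a r y] := by
  have L := F.LX S
  have yP : zpowers y ≤ N[PP Z a r y] := normY (comm_normr _ _) (zp_le (C_le_N _ F.yW.2))
  obtain ⟨n, hn⟩ := ((O_pig _ _).elt he.1).pow_eq_one Nat.prime_two
  have key := triv_mod_center (L.Ucent.trans (centS (F.PQ S))) (fun x => F.sqJ S)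
    (fun x hx h => (F.cent_iff S hx).2 (L.mem.2 (L.inv x (F.PQ S hx) (h ▸ one_mem _)))) (yP (mem_zpowers y)) F.yW.2
    (fun x hx h => (F.cent_iff S hx).2 (F.cfix S (F.PQ S hx) (mem_of_sq_mem F.odd (mem_C1.2 ?_)))) n e (F.EP S he)
    (F.EJ S he) (F.Ey S he) hn
  · rw [← le_C1_iff]
    refine sup_le ?_ (le_C1_iff.2 (F.EJ S he))
    rw [← cop_comm_comm (F.yT S) (F.cop S) (.inl (abel_zpowers y).sol)]
    refine comm_le_iff.2 fun x hx v hv => mem_C1.2 ?_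
    replace hx : x ∈ PP Z a r y := mem_sup_left hx
    have c1 := key x hx
    have c2 := mem_C1.1 (zp_le (C1_symm (F.yD S ((F.cent_iff S (mul_mem (inv_mem hx) (conj_mem (F.EP S he) hx))).1 c1))) hv)
    have c3 := mem_C1.1 (zp_le (C1_symm (F.Ey S he)) hv)
    calc _ = x * (v * (x⁻¹ * (e * x * e⁻¹))) * e * x⁻¹ * (v * e)⁻¹ * e := by group
      _ = e * x * e⁻¹ * (v * e) * x⁻¹ * v⁻¹ := by rw [c2, c3]; nth_rewrite 2 [← c3]; group
      _ = _ := by rw [c3]; group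
  · have m := mul_mem (conj_mem (yP (mem_zpowers y)) hx) (inv_mem hx)
    have hD := (F.cent_iff S m).1 h
    have c := mem_C1.1 (F.yD S hD)
    obtain ⟨u, hu, z, hz, e⟩ := L.mem.1 hD
    have z2 : z * z = 1 := by
      rcases F.ker_P S (z := z) (by simpa [e] using mul_mem (inv_mem (mem_sup_right hu)) m) hz with rfl | rfl
      exacts [one_mul _, mul_self_of_ord F.bad.1]
    have d2 : u * z * (u * z) = 1 := by
      rw [mul_assoc, ← mul_assoc z, ← mem_C.1 (L.nc hz) u (L.Ule hu), mul_assoc u, ← mul_assoc u u, S.J_sq hu, one_mul, z2]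
    rw [← e] at d2
    calc _ = y * (y * x * y⁻¹ * x⁻¹) * x * y := by group
      _ = y * x * y⁻¹ * x⁻¹ * (y * x * y⁻¹ * x⁻¹) * (x * (y * y)) := by rw [← c]; group
      _ = _ := by rw [d2, one_mul]

theorem PK (hz : z ∈ PP Z a r y) (h : z ∈ Ker (XZ Z C1[r]) a) : z = 1 := (F.ker_P S hz h).resolve_right fun e => by
  obtain ⟨w, w1, w2⟩ := S.exists_J a
  obtain ⟨f, hf, f1⟩ := F.exE S ((S.memJ a w).2 (.inr ⟨w1, w2⟩))
  rw [mem_C.1 (F.centE S hf) r (e ▸ hz)] at f1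
  exact S.ne_one w1 (by simpa using f1.symm)

theorem triv (h1 : n ∈ Ker (XZ Z C1[y]) a) (h2 : n ∈ C[PP Z a r y]) : n = 1 := by
  have := S.finite
  by_contra n1
  have fy : ∀ c : Ω, y • c = c → n • c = c := fun c hc => h1.2 c ((S.fix1 F.yW.1.1 F.yW.2 c).2 hc)
  have fr : fixedBy Ω r ⊆ fixedBy Ω n := fun c hc => by
    by_cases e : c = a
    · exact e ▸ fy a F.yW.1.1
    obtain ⟨x, hx, rfl⟩ := (F.LX S).trans b c (F.ob S) ((S.fix1 F.ra (F.rW S).2 c).2 hc) F.ab.symm e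
    obtain ⟨p, hp, hz⟩ := F.cov S hx
    have := hz.2 b (F.ob S)
    rw [mul_smul, inv_smul_eq_iff] at this
    rw [this, mem_fixedBy, ← mul_smul, ← mem_C.1 h2 p hp, mul_smul, fy b F.yW.1.2]
  have := (S.dich1 F.ab ⟨⟨fy a F.yW.1.1, fy b F.yW.1.2⟩, centS le_sup_right h2⟩ n1
    fun h => S.bad_big F.ab F.bad fun c hc => h c (fr hc)).2
  exact F.big fun c hc => F.lin S F.bad (fun _ e => e)
    ((Set.eq_of_subset_of_ncard_le fr (by rw [this, S.cardF r F.bad])).ge (fy c hc)) hc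

theorem invE (he : EE Z a r y e) : r * e * r⁻¹ = e⁻¹ :=
  eq_inv_of_mul_eq_one_left (F.triv S ((F.AB S).inv_mod (F.AR S F.bad fun _ e => e) he.1 (mem_sup_left he.2)) (by
    have c := F.centE S he
    convert mul_mem (mul_mem ((F.LX S).Ucent.trans (centS (F.PQ S)) he.2) c) c using 1; group))

theorem commE (he : EE Z a r y e) (he' : EE Z a r y e') : e * e' = e' * e := by
  have := F.invE S (F.Emul S he he')
  rw [← conj_mul, F.invE S he, F.invE S he', ← mul_inv_rev, inv_inj] at this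
  exact this.symm

theorem sqrt (hu : u ∈ JJ Z a) : ∃ e, EE Z a r y e ∧ e * e = u := by
  obtain ⟨e, h1, h2⟩ := F.exE S (inv_mem hu)
  exact ⟨e, h1, by rwa [F.invE S h1, ← mul_inv_rev, inv_inj] at h2⟩

theorem notJ (hx : x ∈ PP Z a r y) (h : x ∉ JJ Z a) (he : EE Z a r y e) : x * e ∉ JJ Z a := fun hu => by
  have c : e ∈ C1[r] := by
    simpa using mul_mem (inv_mem (F.Pr S hx)) (le_C1_iff.2 (F.rW S).2 hu)
  have i := F.invE S he
  rw [← mem_C1.1 c, mul_inv_cancel_right] at i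
  have s := S.J_sq hu
  rw [mul_assoc, ← mul_assoc e, ← mem_C.1 (F.centE S he) x hx, mul_assoc, eq_inv_iff_mul_eq_one.1 i, mul_one] at s
  obtain ⟨v, hv, z, hz, rfl⟩ := (F.LX S).inv x (F.PQ S hx) (s ▸ one_mem _)
  exact h (by simpa [F.PK S (z := z) (by simpa using mul_mem (inv_mem (mem_sup_right hv)) hx) hz] using hv)

theorem exists_pair : ∃ x ∈ PP Z a r y, ∃ x' ∈ PP Z a r y, x * x' = x' * x ∧ x ∉ JJ Z a ∧ x' ∉ JJ Z a ∧
    x * x' ∉ JJ Z a := by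
  have h4 := S.four_le
  have h1 : q ^ 3 ≤ #(PP Z a r y) := (F.LX S).idx ▸ relIndex_le_of_rel
    (fun x (p : PP Z a r y) => (p : G)⁻¹ * x ∈ Ker (XZ Z C1[r]) a) (fun x hx => by
      obtain ⟨p, hp, h⟩ := F.cov S hx; exact ⟨⟨p, hp⟩, h⟩) fun x _ x' _ p h h' => by
        simpa [mul_assoc] using mul_mem (inv_mem h) h'
  obtain ⟨x, hx, xJ⟩ : ∃ x ∈ PP Z a r y, x ∉ JJ Z a := SetLike.not_le_iff_exists.1 fun h => by
    have := card_le h
    rw [S.cardJ] at this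
    nlinarith [Nat.mul_le_mul h4 h4]
  have h2 : C1[x].relIndex (PP Z a r y) ≤ #(JJ Z a) := relIndex_le_of_rel
    (fun v (u : JJ Z a) => v * x * v⁻¹ * x⁻¹ = u) (fun v hv => ⟨⟨_, by
      have := mul_mem (mul_mem (F.sqJ S hv) (F.sqJ S (mul_mem (inv_mem hv) hx))) (F.sqJ S (inv_mem hx))
      convert this using 1; group⟩, rfl⟩) fun v hv v' hv' u h h' => mem_C1.2 (by
        calc _ = v⁻¹ * (v' * x * v'⁻¹ * x⁻¹) * x * v' := by group
          _ = _ := by rw [h', ← h]; group)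
  by_contra! h
  have h3 : (JJ Z a).relIndex (C1[x] ⊓ PP Z a r y) ≤ Nat.card Bool := relIndex_le_of_rel
    (fun v (t : Bool) => if t then v ∈ JJ Z a else x * v ∈ JJ Z a) (fun v hv => by
      by_cases e : v ∈ JJ Z a
      exacts [⟨true, e⟩, ⟨false, h x hx v hv.2 (mem_C1.1 hv.1).symm xJ e⟩]) fun v _ v' _ t a1 a2 => by
        cases t <;> simpa [mul_assoc] using mul_mem (inv_mem a1) a2
  have e1 := card_inf_mul_relIndex C1[x] (PP Z a r y)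
  have e2 := card_inf_mul_relIndex (JJ Z a) (C1[x] ⊓ PP Z a r y)
  have e3 := card_le (inf_le_left : JJ Z a ⊓ (C1[x] ⊓ PP Z a r y) ≤ _)
  rw [S.cardJ] at h2 e3
  rw [Nat.card_eq_fintype_card, Fintype.card_bool] at h3
  have := Nat.mul_le_mul (Nat.mul_le_mul e3 h3) h2
  rw [e2, e1] at this
  nlinarith [Nat.mul_le_mul h4 (le_refl (q * q))]

end Cf

theorem C2.false3 (S : C2 Ω Z q 3) : False := by
  have := S.finite
  obtain ⟨a, b, ab⟩ := S.nt.exists_pair_ne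
  obtain ⟨r, hr, ha, hb⟩ := S.exists_bad ab
  obtain ⟨y, F⟩ := S.exists_Cf ab hr ha hb
  obtain ⟨x, hx, x', hx', c, n1, n2, n3⟩ := F.exists_pair S
  obtain ⟨e, he, s⟩ := F.sqrt S (F.sqJ S hx)
  obtain ⟨e', he', s'⟩ := F.sqrt S (F.sqJ S hx')
  obtain ⟨w, w1, w2⟩ := S.exists_J a
  have wJ := (S.memJ a w).2 (.inr ⟨w1, w2⟩)
  obtain ⟨f, hf, sf⟩ := F.sqrt S wJ
  have key : ∀ x ∈ PP Z a r y, x ∉ JJ Z a → ∀ e, EE Z a r y e → e * e = x * x →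
      Bad Z (x * e) ∧ (x * e) • a = a ∧ f ∈ C1[x * e] := fun x hx n e he s => by
    have m := F.notJ S hx n he
    have fa : (x * e) • a = a := mul_mem (QQ_St _ _ (F.PQ S hx)) (QQ_St _ _ he.1)
    refine ⟨S.bad_of (ord2_iff.2 ⟨?_, fun e => m (e ▸ one_mem _)⟩) fa m, fa, mem_C1.2 ?_⟩
    · rw [mul_assoc, ← mul_assoc e, ← mem_C.1 (F.centE S he) x hx, mul_assoc, s, ← mul_assoc, S.J_sq (F.sqJ S hx)]
    · rw [← mul_assoc, ← mem_C.1 (F.centE S hf) x hx, mul_assoc, F.commE S hf he, mul_assoc]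
  obtain ⟨a1, a2, a3⟩ := key x hx n1 e he s
  obtain ⟨b1, b2, b3⟩ := key x' hx' n2 e' he' s'
  have p : ∀ x ∈ PP Z a r y, ∀ e, EE Z a r y e → ∀ x' e' : G, x' ∈ PP Z a r y → x * e * (x' * e') = x * x' * (e * e') :=
    fun x hx e he x' e' hx' => by rw [mul_assoc, ← mul_assoc e, ← mem_C.1 (F.centE S he) x' hx']; group
  have n4 : x * e * (x' * e') ∉ JJ Z a := p x hx e he x' e' hx' ▸ F.notJ S (mul_mem hx hx') n3 (F.Emul S he he')
  have cm : x * e * (x' * e') = x' * e' * (x * e) := by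
    rw [p x hx e he x' e' hx', p x' hx' e' he' x e hx, c, F.commE S he he']
  generalize x * e = ρ at *
  generalize x' * e' = g at *
  have fin := fun (c : Ω) g ac hg n h h2 h3 h4 e2 => S.false_of (a := a) (c := c) (g := g) ac a1 hg n h a2 h2 h3 h4 a3 e2
    (F.EJ S hf) (sf ▸ wJ) (sf ▸ S.ne_one w1)
  by_cases h : ∃ c, a ≠ c ∧ ρ • c = c ∧ g • c = c
  · obtain ⟨c, h1, h2, h3⟩ := h
    exact fin c g h1 b1.1 (fun e => n4 (by rw [e, mul_self_of_ord b1.1]; exact one_mem _)) cm h2 b2 h3 b3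
  obtain ⟨c, hc⟩ := not_forall.1 (S.bad_big ab a1)
  obtain ⟨c1, c2⟩ := Classical.not_imp.1 hc
  have ac : a ≠ c := fun e => c2 (.inl e.symm)
  have gc : g • c ≠ c := fun e => h ⟨c, ac, c1, e⟩
  obtain ⟨z, ⟨z1, z2, z3⟩, -⟩ := S.uniqZ g c b1 gc
  have z4 := S.cent_uniqZ b1 z1 z2 gc z3 (mem_C1.2 cm) c1
  obtain ⟨d, hd⟩ := S.ex z1
  obtain rfl : a = d := by_contra fun n => h ⟨d, n, S.C1_le z1 hd z4, S.C1_le z1 hd (C1_symm z2)⟩
  have zJ := (S.memJ a z).2 (.inr ⟨z1, hd⟩)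
  have g2 := mul_self_of_ord b1.1
  exact fin c (g * z) ac (S.badMul g z b1 z1 z2).1
    (fun e => n4 (by rwa [e, mul_assoc, mem_C1.1 z2, ← mul_assoc, g2, one_mul]))
    (by rw [← mul_assoc, cm, mul_assoc, mem_C1.1 z4, mul_assoc]) c1 (by rw [mul_smul, hd, b2])
    (by rw [mul_smul, z3, ← mul_smul, g2, one_smul])
    (C1_symm (mul_mem (C1_symm b3) (mem_C1.2 (mem_C.1 (F.EJ S hf) z zJ))))

end Cfsg.Agent.ZD
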