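import Cfsg.Agent.ZD.C2def

/-! # End game, `i = 3`: two lemmas on automorphisms of 2-groups of class two -/

set_option autoImplicit false
set_option linter.unusedVariables false
set_option linter.unusedSectionVars false

namespace Cfsg.Agent.ZD
open Cfsg Cfsg.Agent.BG Cfsg.Agent.Inv Cfsg.Agent.SE MulAction Subgroup PHom

variable {G : Type*} [Group G] [Finite G] {P U N K : Subgroup G} {q : ℕ} {ρ ρ' x e u z y : G}

/-- a labelling of `P` that determines the coset of `N` bounds the index -/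
theorem relIndex_le_of_rel {ι : Type*} [Finite ι] (R : G → ι → Prop) (h1 : ∀ x ∈ P, ∃ i, R x i)
    (h2 : ∀ x ∈ P, ∀ x' ∈ P, ∀ i, R x i → R x' i → x⁻¹ * x' ∈ N) : N.relIndex P ≤ Nat.card ι := by
  choose f hf using h1
  refine Nat.card_le_card_of_injective (fun c : P ⧸ N.subgroupOf P => f c.out c.out.2) fun c d e => ?_
  rw [← c.out_eq', ← d.out_eq', QuotientGroup.eq, mem_subgroupOf]
  exact h2 _ c.out.2 _ d.out.2 _ (hf _ _) ((show _ = f _ d.out.2 from e) ▸ hf _ _)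

/-- `P / N` has order `q³`, centre containing `U`, `K` transitive on `U#` -/
structure AB (P U N K : Subgroup G) (q : ℕ) : Prop where
  le : U ≤ P
  uc : U ≤ C[P]
  nc : N ≤ C[P]
  usq : ∀ u ∈ U, u * u = 1
  sq : ∀ x ∈ P, x * x ∈ U ⊔ N
  idx : N.relIndex P = q ^ 3
  card : #U = q
  four : 4 ≤ q
  kp : K ≤ N[P]
  kn : K ≤ C[N]
  tr : ∀ u ∈ U, ∀ u' ∈ U, u ≠ 1 → u' ≠ 1 → ∃ k ∈ K, k * u * k⁻¹ = u'

/-- an involutory automorphism of `P / N` with fixed points `U` -/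
structure AR (P U N K : Subgroup G) (ρ : G) : Prop where
  sq : ρ * ρ = 1
  np : ρ ∈ N[P]
  nn : ρ ∈ N[N]
  cu : ρ ∈ C[U]
  ck : ρ ∈ C[K]
  fix : ∀ x ∈ P, ρ * x * ρ⁻¹ * x⁻¹ ∈ N → x ∈ U ⊔ N

namespace AB
variable (A : AB P U N K q)
include A

theorem mem : x ∈ U ⊔ N ↔ ∃ u ∈ U, ∃ z ∈ N, x = u * z := mem_sup_l (cents_norm (A.nc.trans (centS A.le)))
theorem dc : U ⊔ N ≤ C[P] := sup_le A.uc A.nc

theorem cong (R : AR P U N K ρ) (hx : x ∈ P) (he : e ∈ P) (h1 : u⁻¹ * (ρ * x * ρ⁻¹ * x⁻¹) ∈ N)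
    (h2 : u⁻¹ * (ρ * e * ρ⁻¹ * e⁻¹) ∈ N) : e⁻¹ * x ∈ U ⊔ N := by
  refine R.fix _ (mul_mem (inv_mem he) hx) ?_
  have := conj_mem' (cents_norm (cent_symm A.nc) he) (mul_mem (inv_mem h2) h1)
  convert this using 1; group

theorem comp (R : AR P U N K ρ) (hx : x ∈ P) (h : ρ * x * ρ⁻¹ * x⁻¹ ∈ U ⊔ N) (hn : x ∉ U ⊔ N) :
    ∃ u ∈ U, u ≠ 1 ∧ u⁻¹ * (ρ * x * ρ⁻¹ * x⁻¹) ∈ N := by
  obtain ⟨u, hu, z, hz, e⟩ := A.mem.1 h
  exact ⟨u, hu, fun e1 => hn (R.fix x hx (by simpa [e, e1] using hz)), by simpa [e] using hz⟩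

theorem exists_inv (R : AR P U N K ρ) : ∃ e ∈ P, e ∉ U ⊔ N ∧ ρ * e * ρ⁻¹ = e⁻¹ := by
  have : ∃ x ∈ P, ρ * x * ρ⁻¹ * x⁻¹ ∉ U ⊔ N := by
    by_contra! h
    have h1 : (U ⊔ N).relIndex P ≤ #U :=
      relIndex_le_of_rel (fun x (u : U) => (u : G)⁻¹ * (ρ * x * ρ⁻¹ * x⁻¹) ∈ N) (fun x hx => by
        obtain ⟨u, hu, z, hz, e⟩ := A.mem.1 (h x hx)
        exact ⟨⟨u, hu⟩, by simpa [e] using hz⟩) fun x hx x' hx' u a b => A.cong R hx' hx b a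
    have h2 : N.relIndex ((U ⊔ N) ⊓ P) ≤ #U :=
      relIndex_le_of_rel (fun x (u : U) => (u : G)⁻¹ * x ∈ N) (fun x hx => by
        obtain ⟨u, hu, z, hz, e⟩ := A.mem.1 hx.1
        exact ⟨⟨u, hu⟩, by simpa [e] using hz⟩) fun x hx x' hx' u a b => by
          simpa [mul_assoc] using mul_mem (inv_mem a) b
    have h3 := relIndex_inf_mul_relIndex N (U ⊔ N) P
    rw [inf_eq_left.2 (le_sup_right : N ≤ U ⊔ N), A.idx] at h3
    have := Nat.mul_le_mul h2 h1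
    have := A.four
    rw [A.card] at *
    nlinarith [Nat.mul_le_mul this (le_refl (q * q))]
  obtain ⟨x, hx, h⟩ := this
  refine ⟨_, mul_mem (conj_mem R.np hx) (inv_mem hx), h, ?_⟩
  calc _ = (ρ * ρ) * x * (ρ * ρ)⁻¹ * ρ * x⁻¹ * ρ⁻¹ := by group
    _ = _ := by rw [R.sq]; group

theorem psi_inv (R : AR P U N K ρ) (he : e ∈ P) (h : ρ * e * ρ⁻¹ = e⁻¹) : ρ * e * ρ⁻¹ * e⁻¹ ∈ U ⊔ N :=
  by rw [h]; exact A.sq _ (inv_mem he)

/-- the elements with `[ρ,x] ∈ U N` are inverted modulo `N` -/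
theorem inv_mod (R : AR P U N K ρ) (hx : x ∈ P) (h : ρ * x * ρ⁻¹ * x⁻¹ ∈ U ⊔ N) : ρ * x * ρ⁻¹ * x ∈ N := by
  have key : ∀ e ∈ P, ρ * e * ρ⁻¹ = e⁻¹ → e⁻¹ * x ∈ U ⊔ N → ρ * x * ρ⁻¹ * x ∈ N := fun e he i hd => by
    obtain ⟨u, hu, z, hz, e1⟩ := A.mem.1 hd
    have hz' := conj_mem R.nn hz
    have e2 : ρ * x * ρ⁻¹ = e⁻¹ * (u * (ρ * z * ρ⁻¹)) := by
      rw [inv_mul_eq_iff_eq_mul.1 e1, ← i]
      calc _ = ρ * e * ρ⁻¹ * (ρ * u * ρ⁻¹ * (ρ * z * ρ⁻¹)) := by group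
        _ = _ := by rw [← mem_C.1 R.cu u hu, mul_inv_cancel_right]
    rw [e2, inv_mul_eq_iff_eq_mul.1 e1, mul_assoc, ← mul_assoc _ e,
      ← mem_C.1 (A.dc (mul_mem_sup hu hz')) e he, mul_assoc e, inv_mul_cancel_left, mul_assoc, ← mul_assoc _ u,
      ← mem_C.1 (A.nc hz') u (A.le hu), mul_assoc u, ← mul_assoc u u, A.usq u hu, one_mul]
    exact mul_mem hz' hz
  by_cases hn : x ∈ U ⊔ N
  · exact key 1 (one_mem _) (by simp) (by simpa using hn)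
  obtain ⟨e, he, en, i⟩ := A.exists_inv R
  obtain ⟨u, hu, u1, a⟩ := A.comp R hx h hn
  obtain ⟨v, hv, v1, b⟩ := A.comp R he (A.psi_inv R he i) en
  obtain ⟨k, hk, rfl⟩ := A.tr v hv u hu v1 u1
  have c : ρ * (k * e * k⁻¹) * ρ⁻¹ = k * (ρ * e * ρ⁻¹) * k⁻¹ := by
    have := mem_C.1 R.ck k hk
    calc _ = (ρ * k) * e * (ρ * k)⁻¹ := by group
      _ = _ := by rw [← this]; group
  refine key (k * e * k⁻¹) (conj_mem (A.kp hk) he) (by rw [c, i]; group) (A.cong R hx (conj_mem (A.kp hk) he) a ?_)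
  rw [c]; convert conj_mem (C_le_N _ (A.kn hk)) b using 1; group

theorem no_four (R : AR P U N K ρ) (R' : AR P U N K ρ') (R'' : AR P U N K (ρ * ρ')) (c : ρ * ρ' = ρ' * ρ) : False := by
  obtain ⟨e, he, en, i⟩ := A.exists_inv R
  obtain ⟨v, hv, v1, b⟩ := A.comp R he (A.psi_inv R he i) en
  have he' := conj_mem R'.np he
  have h1 := A.cong R he' he (u := v) (by
    have := conj_mem R'.nn b
    convert this using 1
    calc _ = v⁻¹ * (ρ * ρ') * e * (ρ * ρ')⁻¹ * ρ' * e⁻¹ * ρ'⁻¹ := by group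
      _ = (ρ' * v * ρ'⁻¹)⁻¹ * (ρ' * ρ) * e * (ρ' * ρ)⁻¹ * ρ' * e⁻¹ * ρ'⁻¹ := by
        rw [c, ← mem_C.1 R'.cu v hv, mul_inv_cancel_right]
      _ = _ := by group) b
  have h2 := A.inv_mod R' he (by
    have := conj_mem (cents_norm (cent_symm A.dc) he) h1
    convert this using 1; group)
  refine en (R''.fix e he ?_)
  convert conj_mem R.nn h2 using 1
  calc _ = ρ * (ρ' * e * ρ'⁻¹) * ρ⁻¹ * e⁻¹ := by group
    _ = _ := by rw [← i]; group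

/-- every element of `U` is a commutator `[ρ,e]` -/
theorem exists_psi (R : AR P U N K ρ) (hu : u ∈ U) : ∃ e ∈ P, ρ * e * ρ⁻¹ * e⁻¹ = u := by
  by_cases u1 : u = 1
  · exact ⟨1, one_mem _, by simp [u1]⟩
  have cj : ∀ k ∈ K, ∀ e, ρ * (k * e * k⁻¹) * ρ⁻¹ * (k * e * k⁻¹)⁻¹ = k * (ρ * e * ρ⁻¹ * e⁻¹) * k⁻¹ := fun k hk e => by
    have := mem_C.1 R.ck k hk
    calc _ = (ρ * k) * e * (ρ * k)⁻¹ * (k * e * k⁻¹)⁻¹ := by group
      _ = _ := by rw [← this]; group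
  obtain ⟨e, he, en, i⟩ := A.exists_inv R
  obtain ⟨v, hv, v1, b⟩ := A.comp R he (A.psi_inv R he i) en
  obtain ⟨w, hw, w1⟩ : ∃ w ∈ U, w ∉ zpowers v := SetLike.not_le_iff_exists.1 fun h => by
    have := card_le h
    rw [A.card, card_zpowers', ord2_iff.2 ⟨A.usq v hv, v1⟩] at this
    have := A.four; omega
  obtain ⟨k, hk, rfl⟩ := A.tr v hv w hw v1 fun e => w1 (e ▸ one_mem _)
  have m := mul_mem (inv_mem hv) hw
  obtain ⟨l, hl, rfl⟩ := A.tr _ m u hu (fun e => w1 (inv_mul_eq_one.1 e ▸ mem_zpowers v)) u1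
  refine ⟨_, conj_mem (A.kp hl) (mul_mem (inv_mem he) (conj_mem (A.kp hk) he)), ?_⟩
  rw [cj l hl]; congr 2
  generalize hz : v⁻¹ * (ρ * e * ρ⁻¹ * e⁻¹) = z at b
  replace hz := inv_mul_eq_iff_eq_mul.1 hz
  calc _ = e⁻¹ * (ρ * e * ρ⁻¹ * e⁻¹)⁻¹ * (ρ * (k * e * k⁻¹) * ρ⁻¹ * (k * e * k⁻¹)⁻¹) * e := by group
    _ = e⁻¹ * (z⁻¹ * (v⁻¹ * (k * v * k⁻¹)) * (k * z * k⁻¹)) * e := by rw [cj k hk, hz]; group
    _ = _ := by
      rw [← mem_C.1 (A.kn hk) z b, mul_inv_cancel_right, mul_assoc z⁻¹, mem_C.1 (A.nc b) _ (A.le m),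
        inv_mul_cancel_left, mul_assoc, ← mem_C.1 (A.uc m) e he, inv_mul_cancel_left]

end AB

/-- a 2-element centralizing the squares and a fixed point free `y` acts trivially on `P / Z(P)` -/
theorem triv_mod_center (uc : U ≤ C[P]) (sq : ∀ x ∈ P, x * x ∈ U) (an : ∀ x ∈ P, x * x = 1 → x ∈ C[P])
    (yP : y ∈ N[P]) (yU : y ∈ C[U]) (fp : ∀ x ∈ P, y * x * y⁻¹ * x⁻¹ ∈ C[P] → x ∈ C[P]) (n : ℕ) :
    ∀ e ∈ N[P], e ∈ C[U] → e ∈ C1[y] → e ^ 2 ^ n = 1 → ∀ x ∈ P, x⁻¹ * (e * x * e⁻¹) ∈ C[P] := by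
  induction n with
  | zero => intro e _ _ _ h x _; rw [show e = 1 by simpa using h]; simp
  | succ n ih =>
  intro e eP eU ey h x hx
  have h2 := ih (e * e) (mul_mem eP eP) (mul_mem eU eU) (mul_mem ey ey) (by rw [← pow_two, ← pow_mul, ← pow_succ', h])
  have mem : ∀ x ∈ P, x⁻¹ * (e * x * e⁻¹) ∈ P := fun x hx => mul_mem (inv_mem hx) (conj_mem eP hx)
  have cm : ∀ x ∈ P, ∀ v ∈ P, x * v * x⁻¹ * v⁻¹ ∈ U := fun x hx v hv => by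
    have := mul_mem (mul_mem (sq x hx) (sq _ (mul_mem (inv_mem hx) hv))) (sq _ (inv_mem hv))
    convert this using 1; group
  have k1 : ∀ x ∈ P, ∀ x' ∈ P, x⁻¹ * (e * x * e⁻¹) * (x'⁻¹ * (e * x' * e⁻¹)) =
      x'⁻¹ * (e * x' * e⁻¹) * (x⁻¹ * (e * x * e⁻¹)) := fun x hx x' hx' => by
    have f : e * (x'⁻¹ * (e * x' * e⁻¹)) * e⁻¹ * (x'⁻¹ * (e * x' * e⁻¹))⁻¹ ∈ C[P] := by
      have := mul_mem (uc (sq _ (inv_mem (mem x' hx')))) (conj_mem (normC le_rfl (normG P (mem x' hx'))) (h2 x' hx'))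
      convert this using 1; group
    have hv := mem x' hx'
    generalize x'⁻¹ * (e * x' * e⁻¹) = v at f hv
    generalize hz : e * v * e⁻¹ * v⁻¹ = z at f
    replace hz := mul_inv_eq_iff_eq_mul.1 hz
    have c := mem_C.1 eU _ (cm x hx v hv)
    have c2 : x * v * x⁻¹ * v⁻¹ = e * x * e⁻¹ * v * (e * x * e⁻¹)⁻¹ * v⁻¹ := by
      calc _ = e * x * e⁻¹ * (e * v * e⁻¹) * (e * x * e⁻¹)⁻¹ * (e * v * e⁻¹)⁻¹ := by
            rw [eq_mul_inv_of_mul_eq c]; group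
        _ = e * x * e⁻¹ * z * (v * (e * x * e⁻¹)⁻¹ * v⁻¹) * z⁻¹ := by rw [hz]; group
        _ = _ := by
          rw [mul_assoc _ z, ← mem_C.1 f _ (conj_mem (normG P hv) (inv_mem (conj_mem eP hx)))]; group
    calc _ = x⁻¹ * (e * x * e⁻¹ * v * (e * x * e⁻¹)⁻¹ * v⁻¹) * v * (e * x * e⁻¹) := by group
      _ = _ := by rw [← c2]; group
  have c := k1 x hx _ (conj_mem yP hx)
  have e1 : (y * x * y⁻¹)⁻¹ * (e * (y * x * y⁻¹) * e⁻¹) = y * (x⁻¹ * (e * x * e⁻¹)) * y⁻¹ := by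
    calc _ = y * x⁻¹ * y⁻¹ * ((e * y) * x * (e * y)⁻¹) := by group
      _ = _ := by rw [mem_C1.1 ey]; group
  rw [e1] at c
  have hv := mem x hx
  generalize x⁻¹ * (e * x * e⁻¹) = v at c hv
  refine fp v hv (an _ (mul_mem (conj_mem yP hv) (inv_mem hv)) ?_)
  calc _ = y * v * y⁻¹ * v⁻¹ * (y * v * y⁻¹ * v) * v⁻¹ * v⁻¹ := by group
    _ = y * (v * v) * y⁻¹ * (v * v)⁻¹ := by rw [← c]; group
    _ = 1 := by rw [← mem_C.1 yU _ (sq v hv)]; group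

end Cfsg.Agent.ZD
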