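import Cfsg.Agent.ZD.C23a

/-! # End game, `i = 3`: lines, fixed point sets, no four-group -/

set_option autoImplicit false
set_option linter.unusedVariables false
set_option linter.unusedSectionVars false

namespace Cfsg.Agent.ZD
open Cfsg Cfsg.Agent.BG Cfsg.Agent.Inv Cfsg.Agent.SE MulAction Subgroup PHom

variable {G Ω : Type*} [Group G] [Finite G] [MulAction G Ω] {Z : Set G} {q i j : ℕ}
variable {M X Y U K : Subgroup G} {a b c d : Ω} {r r' ρ g u x y z e : G}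

/-- `c` lies on the line `{a} ∪ J b` -/
def Lin (Z : Set G) (a b c : Ω) : Prop := c = a ∨ Orb (JJ Z a) b c

theorem mem_normI (h1 : g ∈ N[X]) (h2 : g ∈ N[Y]) : g ∈ N[X ⊓ Y] := normI (zp_le h1) (zp_le h2) (mem_zpowers g)

theorem norm_QQ (hg : g ∈ N[X]) (ha : g • a = a) : g ∈ N[QQ X a] :=
  normO _ (zp_le (mem_normI hg (normG _ ha))) (mem_zpowers g)

theorem norm_Ker (hg : g ∈ N[X]) (ha : g • a = a) : g ∈ N[Ker X a] := mem_N_of fun k hk => ⟨conj_mem hg hk.1, by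
  rintro _ ⟨m, hm, rfl⟩
  have := hk.2 _ (orb_smul (conj_mem' hg hm) a)
  rw [mul_smul, mul_smul, ha] at this
  rw [mul_smul, mul_smul, this, smul_inv_smul]⟩

theorem QQ_le (X : Subgroup G) (a : Ω) : QQ X a ≤ X := (O_le _ _).trans inf_le_left
theorem QQ_St (X : Subgroup G) (a : Ω) : QQ X a ≤ St G a := (O_le _ _).trans inf_le_right

namespace Loc
variable (L : Loc Z X a U q j)
include L

theorem memD (hb : Orb X a b) (ba : b ≠ a) (hx : x ∈ QQ X a) (h : Orb U b (x • b)) : x ∈ U ⊔ Ker X a := by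
  obtain ⟨u, hu, e⟩ := h
  have := L.reg _ (mul_mem (inv_mem (L.Ule hu)) hx) b hb ba (by rw [mul_smul, ← e, inv_smul_smul])
  simpa using mul_mem_sup hu this

theorem nc : Ker X a ≤ C[QQ X a] := L.cent.trans (centS (QQ_le X a))
theorem dc : U ⊔ Ker X a ≤ C[QQ X a] := sup_le L.Ucent L.nc
theorem mem : x ∈ U ⊔ Ker X a ↔ ∃ u ∈ U, ∃ z ∈ Ker X a, x = u * z := mem_sup_l (cents_norm (L.nc.trans (centS L.Ule)))

end Loc

namespace C2
section gen
variable (S : C2 Ω Z q i)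
include S

theorem card_lin (ab : a ≠ b) : {c | Lin Z a b c}.ncard = q + 1 := by
  have := S.finite
  have : {c | Lin Z a b c} = insert a ((fun u : G => u • b) '' (JJ Z a : Set G)) := rfl
  rw [this, Set.ncard_insert_of_notMem, Set.InjOn.ncard_image, ← S.cardJ a]; · rfl
  · intro u hu v hv e
    exact (inv_mul_eq_one.1 (S.J_free (mul_mem (inv_mem hv) hu) ab.symm (by
      rw [mul_smul, show u • b = v • b from e, inv_smul_smul]))).symm
  · rintro ⟨u, hu, e⟩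
    exact ab (smul_left_cancel u ((JJ_le Z a hu).trans e.symm))

theorem W_lin (hx : x ∈ WW Z a b) (hc : Lin Z a b c) : x • c = c := by
  rcases hc with rfl | ⟨u, hu, rfl⟩
  · exact hx.1.1
  · rw [← mul_smul, ← mem_C.1 hx.2 u hu, mul_smul, hx.1.2]

theorem fix1 (ha : x • a = a) (hx : x ∈ C[JJ Z a]) (c : Ω) : Orb (XZ Z C1[x]) a c ↔ x • c = c := by
  rw [← C_zpowers, ← S.fixY (zp_le ⟨ha, hx⟩), zpowers_le, mem_St]

theorem J_le_X (hx : JJ Z c ≤ M) : JJ Z c ≤ XZ Z M := XZ_le_of fun s hs h => mem_XZ (hx (mem_XZ hs h)) h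

theorem K_le_X (ab : a ≠ b) (hx : x ∈ WW Z a b) : KK Z a b ≤ XZ Z C1[x] ⊓ St G a :=
  le_inf ((S.KleL a b ab).trans (sup_le (S.J_le_X (le_C1_iff.2 hx.2)) (S.J_le_X (le_C1_iff.2 (S.Wsym a b ab hx)))))
    ((S.Kle a b ab).trans inf_le_left)

theorem W_cent_K (ab : a ≠ b) : WW Z a b ≤ C[KK Z a b] :=
  (centY inf_le_right (S.Wsym a b ab)).trans (centS (S.KleL a b ab))

theorem bad_of2 (h : orderOf r = 2) (ab : a ≠ b) (ha : r • a = a) (hb : r • b = b) : Bad Z r :=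
  ⟨h, fun e => ab (S.uniq e ha hb)⟩

/-- a bad involution fixing `Fix x` centralizes `⟨Z ∩ C(x)⟩` -/
theorem X_cent (hρ : Bad Z ρ) (h : ∀ c : Ω, x • c = c → ρ • c = c) : XZ Z C1[x] ≤ C1[ρ] := XZ_le_of fun s hs h1 => by
  obtain ⟨c, hc⟩ := S.ex h1
  exact S.centJ ρ c hρ (h c (S.C1_le h1 hc (C1_symm hs))) ((S.memJ c s).2 (.inr ⟨h1, hc⟩))

/-- `g` with `r^g = r u` normalizes `C(r) ⊓ C(J)` -/
theorem norm_B (hr : r ∈ C[JJ Z a]) (hu : u ∈ JJ Z a) (hg : g ∈ N[JJ Z a]) (h : g * r * g⁻¹ = r * u) :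
    g ∈ N[C1[r] ⊓ C[JJ Z a]] := mem_N_of_cj_le (by
  rw [cj_inf, cj_C1, cj_C, cj_of_mem_N hg, h]
  refine fun x hx => ⟨mem_C1.2 (mul_right_cancel (b := u) ?_), hx.2⟩
  rw [mul_assoc, mem_C1.1 hx.1, mul_assoc, mul_assoc, mem_C.1 hx.2 u hu])

end gen

variable (S : C2 Ω Z q 3)
include S

theorem dich (ab : a ≠ b) (hY : Y ≤ WW Z a b) (h1 : Y ≠ ⊥) : (∀ c, Y ≤ St G c → Lin Z a b c) ∨
    Loc Z (XZ Z C[Y]) a (JJ Z a) q 3 ∧ {c : Ω | Y ≤ St G c}.ncard = q ^ 3 + 1 := by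
  have := S.finite
  obtain ⟨j, L, hj⟩ := S.locY ab hY h1
  have e : orbit (XZ Z C[Y]) a = {c : Ω | Y ≤ St G c} := Set.ext fun c =>
    orb_iff.symm.trans (S.fixY (hY.trans (inf_le_inf_right _ inf_le_left)) c).symm
  have hc := L.card
  rw [e] at hc
  rcases L.cases with rfl | ⟨rfl, -⟩ | ⟨rfl, -⟩
  · exact .inl fun c h => (Set.eq_of_subset_of_ncard_le (s := {c | Lin Z a b c}) (t := {c : Ω | Y ≤ St G c})
      (fun c h y hy => S.W_lin (hY hy) h) (by rw [hc, S.card_lin ab, pow_one])).ge h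
  · simp at hj
  · exact .inr ⟨L, hc⟩

theorem dich1 (ab : a ≠ b) (hy : y ∈ WW Z a b) (h1 : y ≠ 1) (h : ¬ ∀ c, y • c = c → Lin Z a b c) :
    Loc Z (XZ Z C1[y]) a (JJ Z a) q 3 ∧ (fixedBy Ω y).ncard = q ^ 3 + 1 := by
  have := (S.dich ab (zp_le hy) (by simpa using h1)).resolve_left (by simpa using h)
  rw [C_zpowers] at this
  refine ⟨this.1, ?_⟩
  rw [← this.2]; congr 1; ext c; simp

theorem bad_big (ab : a ≠ b) (hr : Bad Z r) : ¬ ∀ c, r • c = c → Lin Z a b c := fun h => by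
  have := S.finite
  have := Set.ncard_le_ncard (s := fixedBy Ω r) (t := {c | Lin Z a b c}) h
  rw [S.cardF r hr, S.card_lin ab] at this
  have h4 := S.four_le
  nlinarith [Nat.mul_le_mul h4 h4]

theorem locR (ab : a ≠ b) (hr : Bad Z r) (ha : r • a = a) (hb : r • b = b) : Loc Z (XZ Z C1[r]) a (JJ Z a) q 3 :=
  (S.dich1 ab (S.bad_W hr ha hb) (ne_one_of_ord2 hr.1) (S.bad_big ab hr)).1

/-- a common fixed point off the line -/
theorem pair_fix (ab : a ≠ b) (hr : Bad Z r) (h1 : r ∈ WW Z a b) (hg : g ∈ WW Z a b) (h2 : r • d = d) (h3 : g • d = d)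
    (h4 : ¬ Lin Z a b d) (hc : r • c = c) : g • c = c := by
  have := S.finite
  have := (S.dich ab (sup_le (zp_le h1) (zp_le hg)) (ne_bot_of_mem (mem_sup_left (mem_zpowers r))
    (ne_one_of_ord2 hr.1))).resolve_left fun h => h4 (h d (sup_le (zp_le h2) (zp_le h3)))
  exact (Set.eq_of_subset_of_ncard_le (s := {c : Ω | zpowers r ⊔ zpowers g ≤ St G c}) (t := fixedBy Ω r)
    (fun c h => h (mem_sup_left (mem_zpowers r)))
    (by rw [this.2, S.cardF r hr])).ge hc (mem_sup_right (mem_zpowers g))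

end C2

/-- `r` bad, `y` of odd order in `⟨Z ∩ C(r)⟩` with many fixed points -/
structure Cf (Z : Set G) (a b : Ω) (r y : G) : Prop where
  ab : a ≠ b
  bad : Bad Z r
  ra : r • a = a
  rb : r • b = b
  yX : y ∈ XZ Z C1[r]
  yW : y ∈ WW Z a b
  odd : Odd (orderOf y)
  yK : ¬ ∀ c : Ω, r • c = c → y • c = c
  big : ¬ ∀ c, y • c = c → Lin Z a b c

theorem C2.exists_Cf (S : C2 Ω Z q 3) (ab : a ≠ b) (hr : Bad Z r) (ha : r • a = a) (hb : r • b = b) :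
    ∃ y, Cf Z a b r y := by
  have L := S.locR ab hr ha hb
  have rW := S.bad_W hr ha hb
  have ob := (S.fix1 ha rW.2 b).2 hb
  obtain ⟨w, hw, wK⟩ := ((L.cases.resolve_left (by decide)).resolve_left (by simp)).2 b ob ab.symm
  obtain ⟨p, hp, y, hy, y2, yK⟩ : ∃ p, p.Prime ∧ ∃ y ∈ zpowers w, PiE {p} y ∧ y ∉ Ker (XZ Z C1[r]) a := by
    by_contra! h; exact wK (le_of_pie h (mem_zpowers w))
  have y1 := zp_le hw hy
  have p2 : p ≠ 2 := by
    rintro rfl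
    exact yK ((pig_zpowers.2 y2).le_of_idx (inf_le_left.trans (Ker_norm _ _)) (zp_le y1.1)
      ((pin_compl hp).2 (L.odd b ob ab.symm).not_two_dvd_nat) (mem_zpowers y))
  refine ⟨y, ab, hr, ha, hb, y1.1.1, ⟨y1.1.2, y1.2⟩, by simpa using odd_of_p (pig_zpowers.2 y2) p2,
    fun h => yK ⟨y1.1.1, fun c hc => h c ((S.fix1 ha rW.2 c).1 hc)⟩, fun h => ?_⟩
  have Ba : C1[r] ⊓ C[JJ Z a] ≤ St G a := inf_le_right.trans (S.CJ_le a)
  have QB : QQ (XZ Z C1[r]) a ≤ C1[r] ⊓ C[JJ Z a] := le_inf ((QQ_le _ _).trans (XZ_le _ _)) (cent_symm L.Ucent)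
  obtain ⟨R, R1, R2⟩ := syl_superset hp (M := C1[r] ⊓ C[JJ Z a] ⊓ St G b)
    (zp_le ⟨⟨XZ_le _ _ y1.1.1, y1.2⟩, y1.1.2.2⟩) (pig_zpowers.2 y2)
  have pr : IsProd (QQ (XZ Z C1[r]) a) (C1[r] ⊓ C[JJ Z a] ⊓ St G b) (C1[r] ⊓ C[JJ Z a]) := ⟨QB, inf_le_left, fun m hm => by
    obtain ⟨x, hx, e⟩ := L.trans b (m • b) ob ((S.fix1 ha rW.2 _).2 (by rw [← mul_smul, ← mem_C1.1 hm.1, mul_smul, hb]))
      ab.symm fun e => ab (smul_left_cancel m ((Ba hm).trans e.symm))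
    exact ⟨x, hx, x⁻¹ * m, mem_inf.2 ⟨mul_mem (inv_mem (QB hx)) hm, by rw [mem_St, mul_smul, ← e, inv_smul_smul]⟩, by group⟩⟩
  have R3 := R1.trans' inf_le_left (by
    rw [pr.symm.relIndex]; exact ((O_pig _ _).relIndex _).ne_compl p2.symm)
  obtain ⟨u, u1, u2⟩ := S.exists_J a
  have uJ := (S.memJ a u).2 (.inr ⟨u1, u2⟩)
  obtain ⟨g, g1, g2⟩ := S.conjB r a hr ha u uJ
  obtain ⟨m, hm, n, hn, rfl⟩ := (Syl.frattini R3 hp (normG _) le_rfl).ex g (S.norm_B rW.2 uJ (S.normJ a g1) g2)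
  have na : n • a = a := by
    have := mul_mem (inv_mem (Ba hm)) g1
    rwa [inv_mul_cancel_left] at this
  have e : n * r * n⁻¹ = r * u := by
    calc _ = m⁻¹ * (m * n * r * (m * n)⁻¹) * m := by group
      _ = _ := by rw [g2, mul_assoc, mul_assoc r, mem_C.1 hm.2 u uJ, ← mul_assoc r, ← mem_C1.1 hm.1]; group
  have f := S.W_lin rW (h _ (fix_smul hn.2 (R1.le.trans inf_le_right) (R2 (mem_zpowers y))))
  have f2 := conj_smul_fix hb n
  rw [e, ← mem_C.1 rW.2 u uJ, mul_smul, f] at f2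
  exact ab (smul_left_cancel n (na.trans (S.uniq u1 u2 f2)))

namespace Cf
variable (S : C2 Ω Z q 3) (F : Cf Z a b r y)
include S F

theorem rW : r ∈ WW Z a b := S.bad_W F.bad F.ra F.rb
theorem LX : Loc Z (XZ Z C1[r]) a (JJ Z a) q 3 := S.locR F.ab F.bad F.ra F.rb
theorem LY : Loc Z (XZ Z C1[y]) a (JJ Z a) q 3 :=
  (S.dich1 F.ab F.yW (fun e => F.yK fun c _ => by rw [e, one_smul]) F.big).1

theorem lin (hρ : Bad Z ρ) (h : ∀ c : Ω, r • c = c → ρ • c = c) (h1 : ρ • c = c) (h2 : y • c = c) : Lin Z a b c :=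
  by_contra fun n => F.yK fun d hd => S.pair_fix F.ab hρ (S.bad_W hρ (h a F.ra) (h b F.rb)) F.yW h1 h2 n (h d hd)

theorem AB : AB (QQ (XZ Z C1[y]) a) (JJ Z a) (Ker (XZ Z C1[y]) a) (KK Z a b) q :=
  have L := F.LY S
  have k := S.K_le_X F.ab F.yW
  ⟨L.Ule, L.Ucent, L.nc, fun _ => S.J_sq, fun x hx => L.mem.2 (L.sq x hx), L.idx, L.cardU, S.four_le,
    k.trans (O_norm _ _), (k.trans inf_le_left).trans (cent_symm L.cent), S.Ktrans a b F.ab⟩

theorem AR (hρ : Bad Z ρ) (h : ∀ c : Ω, r • c = c → ρ • c = c) :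
    AR (QQ (XZ Z C1[y]) a) (JJ Z a) (Ker (XZ Z C1[y]) a) (KK Z a b) ρ := by
  have w := S.bad_W hρ (h a F.ra) (h b F.rb)
  have n := S.XZ_norm' _ (C1_symm (S.X_cent hρ h F.yX))
  have ob := (S.fix1 F.yW.1.1 F.yW.2 b).2 F.yW.1.2
  refine ⟨mul_self_of_ord hρ.1, norm_QQ n w.1.1, norm_Ker n w.1.1, w.2, S.W_cent_K F.ab w, fun x hx hk => ?_⟩
  have o := ob.smul (QQ_le _ _ hx)
  refine (F.LY S).memD ob F.ab.symm hx ((F.lin S hρ h ?_ ((S.fix1 F.yW.1.1 F.yW.2 _).1 o)).resolve_left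
    fun e => F.ab (smul_left_cancel x ((QQ_St _ _ hx).trans e.symm)))
  have := hk.2 _ o
  rwa [mul_smul, inv_smul_smul, mul_smul, inv_smul_eq_iff.2 (h b F.rb).symm, mul_smul] at this

end Cf

/-- commuting bad involutions with the same fixed points are equal -/
theorem C2.no4 (S : C2 Ω Z q 3) (ab : a ≠ b) (hr : Bad Z r) (ha : r • a = a) (hb : r • b = b) (h2 : orderOf r' = 2)
    (hc : r * r' = r' * r) (h : ∀ c : Ω, r • c = c → r' • c = c) : r = r' := by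
  by_contra n
  obtain ⟨y, F⟩ := S.exists_Cf ab hr ha hb
  have h' : ∀ c : Ω, r • c = c → (r * r') • c = c := fun c e => by rw [mul_smul, h c e, e]
  have o : orderOf (r * r') = 2 := ord2_iff.2 ⟨by
    rw [mul_assoc, ← mul_assoc r', ← hc, mul_assoc, mul_self_of_ord h2, mul_one, mul_self_of_ord hr.1],
    fun e => n (by rw [eq_inv_of_mul_eq_one_left e, inv_of_ord h2])⟩
  exact (F.AB S).no_four (F.AR S hr fun _ e => e) (F.AR S (S.bad_of2 h2 ab (h a ha) (h b hb)) h)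
    (F.AR S (S.bad_of2 o ab (h' a ha) (h' b hb)) h') hc

end Cfsg.Agent.ZD
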