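import Cfsg.Agent.ZD.Key
import Cfsg.Agent.H9.Baer

/-!
# No subgroup of even index with abelian quotient in `H = G_a`; the case `|Ω| = n + 2 = 2^m + 1`

* `noidx`: `H` controls fusion of its 2-elements: if `x, x^g ∈ H` (`x` a 2-element) then `x` fixes `a` and `b = g⁻¹ a`; `⟨x⟩` permutes `Sw Z ⊤ a b`, of odd size
  (`ncard_Sw'`, `odd_nI`), so centralizes some `w` in it; `h = g w ∈ H` has `x^h = x^g`.  `|Ω|` is odd (`ZW.odd_card`), so a Sylow 2-subgroup `T` of `H` is Sylow in `G = G'`;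
  focal subgroup theorem (`focal_le` in BG/Base6): `T ≤ H'`.  `noidx2`: `H / N` has a Sylow 2-subgroup of order 2, so a normal 2-complement (Burnside), of index 2.
* `caseI`: `H = G_a`, `I = Iv Z ⊤ a`, `|I| = n = 2^m - 1`.  If `s s'` (`s, s' ∈ I`) is not a 2-element, some `x ∈ ⟨s s'⟩` of odd prime order `p` is inverted by `s`,
  so fixes only `a` (G1), `p ∣ 2^m` (`card_modEq_fix`), false.  `I` is a class of `H` (`K_trans`), Baer-Suzuki (`H9/Baer`): `I ⊆ O₂(H)`; the 2-group `J = JJ Z a` fixes a member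
  of `I` (`n` odd), so all of `I` is central in `J`, `J = I ∪ 1` (`ZF.mul`), order `2^m`, regular on `Ω - a`; `H = J D`, `D = G_ab` faithful on `J`.
  `t ∈ Z` swaps `a, b`, `c = fix t`, `s ∈ J` the unique element with `s b = c`: `C_D(t) ≤ C(s)`.  `O = O(D)`, `K = invertedBy O t` is transitive on `J#` (`K_trans`).
  `fit_mul` (Inv/R1b, see the proof of `R1.K_cyc`) for the image of `O` in `MulAut J`: `F(O)` cyclic, `O'` semiregular on `J#`, so `O' ∩ C(t) = 1`.  In the abelian `O/O'` the inverted elements form a group; such an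
  `x = c k` has `c ∈ O' ∩ C(t) = 1`.  So `K = tc t O` is a group of inverted elements, abelian, normal in `D` (`Isn.norm_tc`, `isnD`), so `≤ F(O)`, cyclic.
  `D = K C_D(t)` (`Isn.prod`), `C_D(t) ∩ C(K)` centralizes `s` and `K`, so `J`, so is `1`: `C_D(K) = K`, `D' ≤ K`, `H' ≤ J K`.  `D` contains a bad involution (`MC.two`, `tr2`), `K` is odd,
  so `|H : J K| = |D : K|` is even, against `noidx`.

The formal proof of `caseI` ends differently: `F(O)` is cyclic, so `H' ≤ J C_D(F(O))`; a bad `r ∈ D` lies in `H'`, so centralizes `F(O)`, `O`, `J`.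
-/

set_option autoImplicit false
set_option linter.unusedVariables false
set_option linter.unusedSectionVars false

namespace Cfsg.Agent.ZD
open Cfsg Cfsg.Agent.BG Cfsg.Agent.Inv Cfsg.Agent.SE MulAction Subgroup PHom

variable {G Ω : Type*} [Group G] [Finite G] [MulAction G Ω] {Z : Set G}

theorem Isn.two_cent {X Y : Subgroup G} {t : G} (h : Isn X t) (h1 : Y ≤ X) (h2 : PiG {2} Y) :
    ∃ d ∈ X, Y ≤ C1[d * t * d⁻¹] := by
  obtain ⟨P, hP⟩ := syl_exists Nat.prime_two (X ⊓ C1[t])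
  have pr : IsProd O[{2}ᶜ](X) (X ⊓ C1[t]) X := ⟨O_le _ _, inf_le_left, fun g hg => h.prod hg⟩
  obtain ⟨d, hd, e⟩ := Syl.sub_cj (hP.trans' inf_le_left (by rw [pr.symm.relIndex]; exact (O_pig _ _).relIndex _))
    Nat.prime_two h1 h2
  exact ⟨d, hd, e.trans (by rw [← cj_C1]; exact cj_mono _ (hP.le.trans inf_le_right))⟩

theorem MC.syl_le_der (S : MC Ω Z) (a : Ω) {T : Subgroup G} (hT : Syl 2 T (St G a)) : T ≤ ⁅St G a, St G a⁆ := by
  have := S.simple
  have := S.finite
  obtain ⟨z, hz⟩ := S.exZ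
  have h1 : Syl 2 T ⊤ := hT.trans' le_top ((pin_compl Nat.prime_two).2 (by
    rw [relIndex_stab, show orbit (⊤ : Subgroup G) a = Set.univ from Set.eq_univ_of_forall fun c => orb_iff.1 (S.orb a c),
      Set.ncard_univ]
    exact (S.odd_card S.tr hz).not_two_dvd_nat))
  have h2 : ⁅(⊤ : Subgroup G), (⊤ : Subgroup G)⁆ = ⊤ := (BG.normal_iff.2 (der_norm ⊤)).eq_bot_or_eq_top.resolve_left fun e =>
    S.C1_ne_top (S.ne_one hz) (top_le_iff.1 ((abel_iff_der.2 e).trans (C_le_C1 (mem_top z))))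
  have := focal_le (K := ⁅St G a, St G a⁆) Nat.prime_two h1 fun x hx g _ hg => by
    have key : ∀ h ∈ St G a, h * x * h⁻¹ = g * x * g⁻¹ → x⁻¹ * (g * x * g⁻¹) ∈ ⁅St G a, St G a⁆ := fun h hh e => by
      simpa [← e, mul_assoc] using comm_mem (inv_mem (hT.le hx)) hh
    by_cases e : a = g⁻¹ • a
    · exact key g (by rwa [mem_St, ← eq_inv_smul_iff]) rfl
    obtain ⟨t, ht, e1⟩ := S.swap e
    have x2 : x • t • a = t • a := by
      have := hT.le hg
      rwa [mem_St, mul_smul, mul_smul, ← eq_inv_smul_iff, ← e1] at this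
    obtain ⟨d, hd, c⟩ := (S.isnD ht (e1 ▸ Ne.symm e)).two_cent (zp_le ⟨hT.le hx, x2⟩) (hT.pi.of_le (zp_le hx))
    refine key (g * (d * t * d⁻¹)) ?_ (by
      rw [mul_assoc g, ← mem_C1.1 (c (mem_zpowers x))]; group)
    rw [mem_St, mul_smul, mul_smul, mul_smul, inv_smul_eq_iff.2 (show d • a = a from hd.1).symm,
      show d • t • a = t • a from hd.2, e1, smul_inv_smul]
  rwa [h2, inf_top_eq] at this

theorem MC.noidx (S : MC Ω Z) (a : Ω) (N : Subgroup G) (h1 : N ≤ St G a) (h2 : ⁅St G a, St G a⁆ ≤ N) :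
    Odd (N.relIndex (St G a)) := by
  obtain ⟨T, hT⟩ := syl_exists Nat.prime_two (St G a)
  exact Nat.odd_iff.2 (Nat.two_dvd_ne_zero.1 fun e => hT.not_dvd Nat.prime_two
    (e.trans (relIndex_dvd_left ((S.syl_le_der a hT).trans h2) _)))

theorem MC.noidx2 (S : MC Ω Z) (a : Ω) (N : Subgroup G) (h1 : N ≤ St G a) (h2 : St G a ≤ N[N]) :
    N.relIndex (St G a) % 4 ≠ 2 := fun h => by
  obtain ⟨T, hT⟩ := syl_exists Nat.prime_two (St G a)
  have h3 : Syl 2 (T ÷ N) (St G a ÷ N) := hT.im h2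
  have c : #(St G a ÷ N) % 4 = 2 := by rw [card_im h2, quo_ker, h]
  have c2 : #(T ÷ N) = 2 := by
    obtain ⟨k, hk⟩ := h3.pi.card_pow Nat.prime_two
    have d1 := h3.dvd Nat.prime_two rfl (by omega)
    have d2 := cardS h3.le
    rw [hk] at d1 d2 ⊢
    rcases k with _ | _ | k
    · simp at d1
    · rfl
    · have := (show 4 ∣ 2 ^ (k + 1 + 1) from ⟨2 ^ k, by ring⟩).trans d2
      omega
  have cy := cyc_of_prime (c2 ▸ Nat.prime_two : (#(T ÷ N)).Prime)
  have := (burnside Nat.prime_two h3 fun g hg => mem_of_cop_relIndex (normC le_rfl) hg.2 (by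
    have := cy.idx_cent_dvd le_rfl
    rw [c2, Nat.totient_two, Nat.dvd_one] at this
    simp [this])).der_inf h3
  rw [abel_iff_der.1 cy.abel, ← im_der h2, inf_eq_left.2 (im_mono (S.syl_le_der a hT))] at this
  simp [this] at c2

section
variable (S : CB Ω Z) {a : Ω} {m : ℕ} (h1 : Nat.card Ω = 2 ^ m + 1)
include S h1

theorem CB.two_mul {s u : G} (hs : s ∈ Z) (sa : s • a = a) (hu : u ∈ Z) (ua : u • a = a) : PiE {2} (s * u) := by
  have := S.finite
  refine pig_zpowers.1 (pig_of_prime_elts fun x hx hp => by_contra fun p2 => ?_)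
  have i : s * x * s⁻¹ = x⁻¹ := by
    obtain ⟨n, rfl⟩ := mem_zpowers_iff.1 hx
    rw [← conj_zpow, inverts_left (S.sq hs) (S.sq hu), inv_zpow]
  have xa : x ∈ St G a := zp_le (mul_mem (sa : s ∈ St G a) ua) hx
  have := card_modEq_fix (Ω := Ω) hp (pow_orderOf_eq_one x)
  rw [show fixedBy Ω x = {a} from Set.eq_singleton_iff_unique_mem.2 ⟨xa, fun c hc => by_contra fun n =>
    hp.one_lt.ne' (orderOf_eq_one_iff.2 (S.g1 s x c a hs sa (hp.odd_of_ne_two p2) i xa hc n))⟩, Set.ncard_singleton, h1,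
    add_comm] at this
  exact p2 ((Nat.prime_dvd_prime_iff_eq hp Nat.prime_two).1 (hp.dvd_of_dvd_pow
    ((Nat.modEq_zero_iff_dvd).1 (Nat.ModEq.add_left_cancel' 1 this))))

theorem CB.iv_comm {s u : G} (hs : s ∈ Z) (sa : s • a = a) (hu : u ∈ Z) (ua : u • a = a) : s * u = u * s := by
  have hb := H9.baer_suzuki_set (p := 2) (G := St G a) (C := {x | (x : G) ∈ Z}) (fun g c hc => S.conj hc g)
    fun y hy z hz => by
      have o : ∀ x : St G a, (x : G) ∈ Z → orderOf x = 2 := fun x hx => (orderOf_coe x).symm.trans (S.ord hx)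
      have n := zp_le (t_norm_zp (inverts_left (mul_self_of_ord (o y hy)) (mul_self_of_ord (o z hz))))
      refine (((pig_zpowers.2 ?_).sup_l (pig_zpowers.2 (by
        rw [PiE, o y hy]; exact pin_single_self Nat.prime_two)) n).of_le (pair_le (mem_sup_right (mem_zpowers y)) ?_)).pg
          Nat.prime_two
      · have := S.two_mul h1 hy y.2 hz z.2
        rwa [PiE, ← coe_mul, orderOf_coe] at this
      · simpa using mul_mem (inv_mem (mem_sup_right (mem_zpowers y))) (mem_sup_left (mem_zpowers (y * z)))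
  have h2 : PiG {2} (JJ Z a) := ((pig_of_pg Nat.prime_two hb).map (St G a).subtype).of_le
    (XZ_le_of fun x h h' => ⟨⟨x, h⟩, subset_closure h', rfl⟩)
  obtain ⟨P, hP⟩ := syl_exists Nat.prime_two C1[u]
  have l := S.C1_le hu ua
  have e := S.card_St hu (mem_top u) ua (S.not_le a)
  rw [top_inf_eq, top_inf_eq, ← card_mul_relIndex l, mul_right_inj' (card_ne _)] at e
  exact mem_C1.1 (hP.le ((hP.trans' l ((pin_compl Nat.prime_two).2 (e ▸ (S.odd_nI hu (mem_top u) ua
    (S.not_le a)).not_two_dvd_nat))).le_of_norm' h2 (JJ_le Z a) (hP.le.trans (l.trans (S.normJ a))) (mem_XZ sa hs)))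

end

theorem CB.caseI (S : CB Ω Z) {a : Ω} {m : ℕ} (h1 : Nat.card Ω = 2 ^ m + 1) (h2 : nI Z (⊤ : Subgroup G) a + 1 = 2 ^ m)
    {r : G} (hr : Bad Z r) : False := by
  have := S.finite
  obtain ⟨a', b, ab, ra, rb⟩ := S.two hr
  rw [S.nI_eq a a'] at h2
  clear a; rename' a' => a
  obtain ⟨t, ht, rfl⟩ := S.swap ab
  let J : Subgroup G :=
    { carrier := {g | g = 1 ∨ g ∈ Iv Z (⊤ : Subgroup G) a}
      one_mem' := .inl rfl
      inv_mem' := by
        rintro x (rfl | h)
        exacts [.inl inv_one, .inr (by rwa [S.inv h.2.1])]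
      mul_mem' := by
        rintro x y (rfl | h) (rfl | h')
        · simp
        · simpa using .inr h'
        · simpa using .inr h
        by_cases e : x = y
        · exact .inl (by rw [e, S.sq h'.2.1])
        · exact .inr ⟨trivial, S.mul h.2.1 h'.2.1 e (S.iv_comm h1 h.2.1 h.2.2 h'.2.1 h'.2.2),
            by rw [mul_smul, h'.2.2, h.2.2]⟩ }
  have Ja : J ≤ St G a := by
    rintro x (rfl | h)
    exacts [one_mem _, h.2.2]
  have nJ : St G a ≤ N[J] := le_N_iff.2 fun g hg x hx => hx.imp (fun e => by simp [e]) fun h => by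
    have := S.iv_conj h (mem_top g); rwa [show g • a = a from hg] at this
  have fr : ∀ u ∈ J, u • t • a = t • a → u = 1 := fun u hu e => hu.resolve_right fun h => ab (S.uniq h.2.1 h.2.2 e)
  have abJ : Abel J := le_C_iff.2 (by
    rintro x (rfl | h) y (rfl | h') <;> try simp
    exact S.iv_comm h1 h.2.1 h.2.2 h'.2.1 h'.2.2)
  have tr : ∀ c, c ≠ a → ∃ u ∈ J, u • t • a = c := fun c hc => by
    refine (Set.eq_of_subset_of_ncard_le (s := (fun u : G => u • t • a) '' (J : Set G)) (t := {a}ᶜ) ?_ ?_).ge hc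
    · rintro _ ⟨u, hu, rfl⟩ e
      exact ab (smul_left_cancel u ((Ja hu).trans (Eq.symm e)))
    · have := Set.ncard_add_ncard_compl ({a} : Set Ω)
      rw [Set.InjOn.ncard_image fun u hu v hv e => (inv_mul_eq_one.1 (fr _ (mul_mem (inv_mem hv) hu) (by
        rw [mul_smul, show u • t • a = v • t • a from e, inv_smul_smul]))).symm,
        show (J : Set G) = insert 1 (Iv Z ⊤ a) from rfl, Set.ncard_insert_of_notMem fun h => S.ne_one h.2.1 rfl]
      rw [Set.ncard_singleton, h1, ← h2, nI] at this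
      omega
  set D := (⊤ : Subgroup G) ⊓ St2 G a (t • a)
  have Da : D ≤ St G a := inf_le_right.trans inf_le_left
  have fa : ∀ d ∈ D, d ∈ C[J] → d = 1 := fun d hd h => S.eq_one fun c => by
    by_cases e : c = a
    · exact e ▸ hd.2.1
    obtain ⟨u, hu, rfl⟩ := tr c e
    rw [← mul_smul, ← mem_C.1 h u hu, mul_smul, hd.2.2]
  have HJ : St G a = J ⊔ D := le_antisymm (fun g hg => by
    obtain ⟨u, hu, e⟩ := tr (g • t • a) fun e => ab (smul_left_cancel g (hg.trans e.symm))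
    simpa using mul_mem_sup hu (show u⁻¹ * g ∈ D from ⟨trivial, SE.mem_St2.2 ⟨mul_mem (inv_mem (Ja hu)) hg, by
      rw [mul_smul, ← e, inv_smul_smul]⟩⟩)) (sup_le Ja Da)
  set O := O[{2}ᶜ](D)
  have OJ : O ≤ N[J] := (O_le _ _).trans (Da.trans nJ)
  have ktr : ∀ x ∈ J, ∀ y ∈ J, x ≠ 1 → y ≠ 1 → ∃ k ∈ O, k * x * k⁻¹ = y := fun x hx y hy x1 y1 =>
    (S.K_trans ht (mem_top t) ab.symm (hx.resolve_left x1) (hy.resolve_left y1)).imp fun k hk => ⟨hk.1.1, hk.2⟩
  have cy : Cyc F[O] := by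
    have := abJ.comm
    have od : Odd #((aut J).im O) := (odd_O D).of_dvd_nat (card_im_dvd _)
    open scoped IsMulCommutative in
    obtain ⟨h3, -⟩ := fit_mul ((aut J).im O) od Nat.prime_two
      (fun e => Subtype.ext (by rcases e.2 with h | h; exacts [by simp [h], by simpa [sq] using S.sq h.2.1]))
      (fun x y hx hy => by
        obtain ⟨k, k1, k2⟩ := ktr x x.2 y y.2 (by simpa using hx) (by simpa using hy)
        exact ⟨_, app_mem_im k1 (OJ k1), Subtype.ext ((aut_app (OJ k1) x).trans k2)⟩) (sol_of_odd od)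
    exact ((Cyc.map h3 _).of_le (im_F_le O)).equiv (PHom.equiv ((F_le O).trans OJ) (eq_bot_iff.2 fun x hx =>
      fa x (O_le _ _ (F_le _ hx.1)) (aut_ker J ▸ hx.2))).symm
  have nF : D ≤ N[F[O]] := normF (O_norm _ _)
  have nE : D ⊓ C[F[O]] ≤ N[J] := inf_le_left.trans (Da.trans nJ)
  have rD : r ∈ D := ⟨trivial, ra, rb⟩
  have r2 : PiG {2} (zpowers r) := pig_zpowers.2 (by rw [PiE, hr.1]; exact pin_single_self Nat.prime_two)
  obtain ⟨T, hT, rT⟩ := syl_superset Nat.prime_two (zp_le (Da rD)) r2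
  have := S.syl_le_der a hT (rT (mem_zpowers r))
  rw [HJ] at this
  obtain ⟨j, hj, d, hd, e⟩ := (mem_sup_l nE).1 (der_sup_le ((der_le J).trans le_sup_left)
    ((le_inf (der_le D) (cy.der_cent nF)).trans le_sup_right) ((commL (Da.trans nJ)).trans le_sup_left)
    (normsG le_sup_left) (normY (Da.trans nJ) (normI (normG D) (normC nF))) this)
  have rF : r ∈ C[F[O]] := by
    have := mul_mem rD (inv_mem hd.1)
    rw [e, mul_inv_cancel_right] at this
    rw [e, fr j hj this.2.2, one_mul]; exact hd.2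
  have cO : O ≤ C[zpowers r] := cop_stable (cop_t hr.1 (odd_of_le (odd_O D) (F_le O)))
    ((le_inf (commL ((zp_le rD).trans (O_norm _ _))) ((commS le_rfl (zp_le rF)).trans (commR (normC (F_norm O))))).trans
      (C_F_le (sol_of_odd (odd_O D)))) (cent_symm (zp_le rF))
  rw [C_zpowers] at cO
  obtain ⟨s, hs⟩ := S.bad_iv hr ra
  refine ne_one_of_ord2 hr.1 (fa r rD (le_C1_iff.1 fun u hu => ?_))
  by_cases u1 : u = 1
  · exact u1 ▸ one_mem _
  obtain ⟨k, hk, rfl⟩ := ktr s (.inr ⟨trivial, hs.2⟩) u hu (S.ne_one hs.2.1) u1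
  exact conj_mem (normG _ (cO hk)) hs.1

end Cfsg.Agent.ZD
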