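import Cfsg.Agent.ZD.Loc
import Cfsg.Agent.ZD.CI

/-!
# Construction of `C2` from `CN`

By `tr2` + `MC.two` some bad `r` fixes any two given points `a, b`; `Iv Z C1[r] a = Iv Z ⊤ a` (`centI`), `C1[r] ≠ ⊤`, `bad_nle`, so `Iv Z ⊤ a` is commutative (`MC.comm`),
`JJ Z a = {1} ∪ Iv` (`ZF.mul`), `#JJ = nI + 1 = q` (`base`, `nI_eq`).  `Sw Z ⊤ a b ⊆ JJ a ⊔ JJ b`: `w ↦ w u w⁻¹` is injective `Sw → Iv a` (see `ncard_Sw'`) and `exists_swap`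
gives a preimage in `⟨u, s'⟩`.
* `uniqZ`: existence `ZW.sw_cent`; if `z, z'` both work, `v = r z` is bad and fixes `c, r c`, so `z' ∈ JJ c ⊔ JJ (r c) ≤ C(v)` commutes with `z`; `z z'` is odd (`odd_sw`), so `z = z'`.
* `conjB`: `K_trans` in `M = C1[r]` conjugates `r u` to `r u'` (`u, u' ≠ 1`); in `M = C1[r u]` it conjugates `r = (r u) u` to `(r u)(u u') = r u'` (`u' ≠ 1, u`, `q ≥ 4`).
* `loc`: `MC.toBT`, `BT.loc`; `U = JJ Z a` (`memU`), same `q` (`cardU`).  `LP Z X a t ↔ LP Z ⊤ a t` when `JJ a ≤ X`; `LP Z ⊤ a t` does not depend on `(a, t)` (`tr2`, `swap_conj`);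
  so `j ≠ 2 ↔ LP ↔ i ≠ 2` (`Loc.lp` for `base` and for `M`).
* `line`: `t ∈ Sw a b`, `LP`: `Λ = {a} ∪ J_a b` is invariant under `J_a`, `D` and `t` (as in `A0.bt`, ZD/A2, case `LP`: `s b = c = fix t`; `s' = k s k⁻¹` with `k ∈ K` inverted by `t`,
  `t s' b = t k c = k⁻¹ c = k⁻¹ s k b`; `SS G Λ`), and `J_b = t J_a t`.
* `K`: `BT.torus` for `X = XZ Z C1[r]`, `r` bad fixing `a, b`; `Sw Z X a b = Sw Z ⊤ a b`, `KK = K` (`w w' = (w t)(w' t)⁻¹`), `#K = |Sw| = nI`; `K_trans`, `K_free`, `sw_conj`.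
  `Kfix`: `k c = c`; `r c = c`: `torus` + `bad_orb`.  Else `k ∈ C(r)` centralizes the unique `z` of `uniqZ`, so fixes `e = fix z ∈ Fix r`, `e ∈ {a, b}`, against `K_free`.
* `Wsym`, `sym`: `L = JJ a ⊔ JJ b ≤ C(r)` is proper, `XZ Z L = L`, `D ≤ N[L]`; `Loc.can` gives `s ∈ J_a#` with `C_D(t) ≤ C(s)`; `|D| = |C_D(t)| n = |C_D(s)| n` (`card_sw`, `card_iv`), so
  `C_D(t) = C_D(s)`.  `x ∈ C_D(J_a)` centralizes `t`, so `J_b = t J_a t`.  `sym`: also `C_D(t) = C_D(s')`, `s' ∈ J_b#`; `u = k s' k⁻¹`, `k ∈ D`, so `x ∈ C(k s k⁻¹)`.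
-/

set_option autoImplicit false
set_option linter.unusedVariables false
set_option linter.unusedSectionVars false

namespace Cfsg.Agent.ZD
open Cfsg Cfsg.Agent.BG Cfsg.Agent.Inv Cfsg.Agent.SE MulAction Subgroup PHom

variable {G Ω : Type*} [Group G] [Finite G] [MulAction G Ω] {Z : Set G}

namespace Cc
variable {q i : ℕ} {M : Subgroup G} {a b c : Ω} {r s s' t u k w z : G}

theorem lp_conj (S : ZW Ω Z) (h : LP Z ⊤ a t) (g : G) : LP Z ⊤ (g • a) (g * t * g⁻¹) := by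
  obtain ⟨s, hs, c, h1, h2⟩ := h
  refine ⟨_, S.iv_conj hs (mem_top g), g • c, conj_smul_fix h1 g, ?_⟩
  simp only [mul_smul, inv_smul_smul, h2]

/-- the elements stabilizing a set of points -/
def SL (G : Type*) {Ω : Type*} [Group G] [MulAction G Ω] (Λ : Set Ω) : Subgroup G where
  carrier := {g | ∀ c, g • c ∈ Λ ↔ c ∈ Λ}
  one_mem' := fun c => by rw [one_smul]
  mul_mem' := fun {x y} hx hy c => by rw [mul_smul, hx, hy]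
  inv_mem' := fun {x} hx c => by rw [← hx, smul_inv_smul]

theorem mem_SL {Λ : Set Ω} (h : t * t = 1) (h1 : ∀ c ∈ Λ, t • c ∈ Λ) : t ∈ SL G Λ :=
  fun c => ⟨fun e => by have := h1 _ e; rwa [← mul_smul, h, one_smul] at this, h1 c⟩

variable (S : CN Ω Z q i)
include S

theorem bad2 (ab : a ≠ b) : ∃ r, Bad Z r ∧ r • a = a ∧ r • b = b := by
  obtain ⟨r, -, -, hr, -⟩ := S.base
  obtain ⟨c, d, cd, hc, hd⟩ := S.two hr
  obtain ⟨g, rfl, rfl⟩ := S.tr2 c d a b cd ab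
  exact ⟨_, hr.conj S.toZW g, conj_smul_fix hc g, conj_smul_fix hd g⟩

theorem commI (hs : s ∈ Z) (h : s • a = a) (hs' : s' ∈ Z) (h' : s' • a = a) : s * s' = s' * s := by
  have := S.nt
  obtain ⟨b, ba⟩ := exists_ne a
  obtain ⟨r, hr, ra, -⟩ := bad2 S ba.symm
  exact S.comm S.g1 (S.C1_ne_top (ne_one_of_ord2 hr.1)) (S.bad_nle hr a) ⟨S.centI r a hr ra s ⟨trivial, hs, h⟩, hs, h⟩
    ⟨S.centI r a hr ra s' ⟨trivial, hs', h'⟩, hs', h'⟩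

theorem memJ (c : Ω) (g : G) : g ∈ JJ Z c ↔ g = 1 ∨ g ∈ Z ∧ g • c = c := by
  refine ⟨fun h => ?_, ?_⟩
  · refine closure_induction (fun s hs => .inr ⟨hs.2, hs.1⟩) (.inl rfl) ?_ ?_ h
    · rintro x y - - (rfl | hx) hy
      · rwa [one_mul]
      rcases hy with rfl | hy
      · rw [mul_one]; exact .inr hx
      by_cases e : x = y
      · exact .inl (e ▸ S.sq hx.1)
      exact .inr ⟨S.mul hx.1 hy.1 e (commI S hx.1 hx.2 hy.1 hy.2), by rw [mul_smul, hy.2, hx.2]⟩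
    · rintro x - (rfl | hx)
      · exact .inl inv_one
      · rw [S.inv hx.1]; exact .inr hx
  · rintro (rfl | h)
    exacts [one_mem _, mem_XZ h.2 h.1]

theorem ivJ (hs : s ∈ Iv Z M a) : s ∈ JJ Z a := mem_XZ hs.2.2 hs.2.1

theorem Jiv (hM : JJ Z a ≤ M) (hu : u ∈ JJ Z a) (u1 : u ≠ 1) : u ∈ Iv Z M a :=
  ⟨hM hu, ((memJ S a u).1 hu).resolve_left u1⟩

theorem Iv_eq (hM : JJ Z a ≤ M) : Iv Z M a = Iv Z ⊤ a :=
  Set.ext fun s => ⟨fun h => ⟨trivial, h.2⟩, fun h => ⟨hM (ivJ S h), h.2⟩⟩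

theorem J_XZ (hM : JJ Z a ≤ M) : JJ Z a ≤ XZ Z M := (XZ_XZ Z _).ge.trans (XZ_mono hM)

theorem abJ (c : Ω) : Abel (JJ Z c) := le_C_iff.2 fun x hx y hy => by
  rcases (memJ S c x).1 hx with rfl | h1
  · simp
  rcases (memJ S c y).1 hy with rfl | h2
  · simp
  exact commI S h1.1 h1.2 h2.1 h2.2

theorem centJ (hr : Bad Z r) (h : r • c = c) : JJ Z c ≤ C1[r] :=
  XZ_le_of fun s h1 h2 => S.centI r c hr h s ⟨trivial, h2, h1⟩

theorem U_eq {X U : Subgroup G} {q' j : ℕ} (h : Loc Z X a U q' j) (hX : JJ Z a ≤ X) : U = JJ Z a := by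
  ext g; rw [h.memU, memJ S, Iv_eq S hX]; simp [Iv]

theorem cardJ (c : Ω) : #(JJ Z c) = q := by
  obtain ⟨r, a, U, hr, ra, h⟩ := S.base
  obtain ⟨g, rfl⟩ := S.tr a c
  rw [← S.cj_JJ, card_cj, ← U_eq S h (J_XZ S (centJ S hr ra)), h.cardU]

theorem nI_succ (c : Ω) : nI Z (⊤ : Subgroup G) c + 1 = q := by
  rw [← cardJ S c, nI, ← Set.ncard_insert_of_notMem (a := 1) fun h => S.ne_one h.2.1 rfl]
  exact congrArg Set.ncard (Set.ext fun g => by rw [SetLike.mem_coe, memJ S]; simp [Iv])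

theorem four (hM : JJ Z a ≤ M) : FourZ Z (M ⊓ St G a) := by
  obtain ⟨x, hx, y, hy, h1, h2, h⟩ := S.four' a
  exact ⟨x, ⟨hM (mem_XZ hx.2 h1), hx.2⟩, y, ⟨hM (mem_XZ hy.2 h2), hy.2⟩, h1, h2, h⟩

theorem orbL (a b : Ω) : Orb (JJ Z a ⊔ JJ Z b) a b := by
  obtain ⟨s, hs⟩ := S.iv a
  obtain ⟨u, hu⟩ := S.iv b
  exact S.orb_of_inv hs.2.1 (mem_sup_left (ivJ S hs)) hs.2.2 hu.2.1 (mem_sup_right (ivJ S hu)) hu.2.2

theorem Sw_eq (ab : a ≠ b) (hM : JJ Z a ⊔ JJ Z b ≤ M) : Sw Z M a b = Sw Z ⊤ a b := by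
  obtain ⟨s, hs⟩ := S.iv a
  have l := le_sup_left.trans hM
  refine Set.eq_of_subset_of_ncard_le (fun w hw => ⟨trivial, hw.2⟩) ?_
  rw [S.ncard_Sw' ab hs (S.orb a b), S.ncard_Sw' ab (Iv_eq S l ▸ hs) ((orbL S a b).mono hM), nI, nI, Iv_eq S l]

theorem swL (ab : a ≠ b) (hw : w ∈ Z) (h : w • a = b) : w ∈ JJ Z a ⊔ JJ Z b :=
  ((Sw_eq S ab le_rfl).ge ⟨trivial, hw, h⟩).1

theorem uniqZ (hr : Bad Z r) (h : r • c ≠ c) : ∃! z, z ∈ Z ∧ z ∈ C1[r] ∧ z • c = r • c := by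
  obtain ⟨z0, hz⟩ := S.exZ
  obtain ⟨z, z1, z2, z3⟩ := S.sw_cent S.tr hz (mul_self_of_ord hr.1) h
  refine ⟨z, ⟨z2, z1, z3⟩, fun y ⟨y1, y2, y3⟩ => ?_⟩
  have B := S.badMul hr z2 z1
  have rr := smul_smul_of_ord hr.1 (Ω := Ω)
  have c := mem_C1.1 (sup_le (centJ S B (by rw [mul_smul, z3, rr]))
    (centJ S B (by rw [← mem_C1.1 z1, mul_smul, rr, z3])) (swL S h.symm y1 y3))
  rw [← mul_assoc, mem_C1.1 y2, mul_assoc, mul_assoc, mul_right_inj] at c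
  have := eq_one_of_sq (S.odd_sw (M := ⊤) h.symm ⟨trivial, y1, y3⟩ ⟨trivial, z2, z3⟩) (by
    rw [mul_assoc, ← mul_assoc z, ← c, mul_assoc, S.sq z2, mul_one, S.sq y1])
  rw [eq_inv_of_mul_eq_one_left this, S.inv z2]

theorem conjB (hr : Bad Z r) (ra : r • a = a) (hu : u ∈ JJ Z a) : ∃ g : G, g • a = a ∧ g * r * g⁻¹ = r * u := by
  by_cases u1 : u = 1
  · exact ⟨1, one_smul _ _, by simp [u1]⟩
  obtain ⟨v, hv, vu⟩ : ∃ v ∈ Iv Z (⊤ : Subgroup G) a, v ≠ u := by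
    obtain ⟨x, hx, y, hy, h1, h2, h, -⟩ := S.four' a
    by_cases e : x = u
    exacts [⟨y, ⟨trivial, h2, hy.2⟩, fun e' => h (e.trans e'.symm)⟩, ⟨x, ⟨trivial, h1, hx.2⟩, e⟩]
  have vr := centJ S hr ra (ivJ S hv)
  have B := S.badMul hr hv.2.1 vr
  have f : (r * v) • a = a := by rw [mul_smul, hv.2.2, ra]
  obtain ⟨b, ab, hb⟩ : ∃ b, a ≠ b ∧ (r * v) • b = b := by
    obtain ⟨x, y, h, h1, h2⟩ := S.two B
    by_cases e : a = x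
    exacts [⟨y, e ▸ h, h2⟩, ⟨x, e, h1⟩]
  obtain ⟨t, t1, t2, t3⟩ := S.bad_iv B hb
  have l := centJ S B f
  obtain ⟨k, hk, e⟩ := S.K_trans t2 t1 (S.ne_smul t2 t3 ab) (Jiv S l (ivJ S hv) (S.ne_one hv.2.1))
    (Jiv S l (mul_mem (ivJ S hv) hu) fun e => vu (by rw [← S.inv hv.2.1]; exact inv_eq_of_mul_eq_one_right e))
  have m := O_le _ _ hk.1
  refine ⟨k, m.2.1, ?_⟩
  calc _ = k * (r * (v * v) * v⁻¹) * v * k⁻¹ := by rw [S.sq hv.2.1]; group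
    _ = k * (r * v) * v * k⁻¹ := by group
    _ = r * v * (k * v * k⁻¹) := by rw [mem_C1.1 m.1]; group
    _ = _ := by rw [e, mul_assoc, ← mul_assoc v, S.sq hv.2.1, one_mul]

theorem lp_inv (ht : t ∈ Z) (ta : t • a ≠ a) (hw : w ∈ Z) (wb : w • b ≠ b) (h : LP Z ⊤ a t) : LP Z ⊤ b w := by
  obtain ⟨g, h1, h2⟩ := S.tr2 a (t • a) b (w • b) ta.symm wb.symm
  obtain ⟨k, hk, -, e⟩ := S.swap_conj hw (mem_top w) wb (w := g * t * g⁻¹) ⟨trivial, S.conj ht g, by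
    rw [← h2, ← h1, mul_smul, mul_smul, inv_smul_smul]⟩
  have := lp_conj S.toZW (lp_conj S.toZW h g) k⁻¹
  rwa [← e, h1, show k⁻¹ • b = b from (inv_mem (O_le _ _ hk.1)).2.1, show k⁻¹ * (k * w * k⁻¹) * k⁻¹⁻¹ = w by group] at this

theorem lp_iff {X U : Subgroup G} {q' j : ℕ} (B : BT Z X a) (h : Loc Z X a U q' j) (hX : JJ Z a ≤ X) (hw : w ∈ Z)
    (wb : w • b ≠ b) : LP Z ⊤ b w ↔ j ≠ 2 := by
  obtain ⟨t, t1, t2, t3⟩ := B.exists_move (Orb.refl _ _)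
  rw [← h.lp t t1 t2 t3, LP.eq_def Z X, Iv_eq S hX]
  exact ⟨lp_inv S hw wb t2 t3, lp_inv S t2 t3 hw wb⟩

theorem lp (hw : w ∈ Z) (wb : w • b ≠ b) : LP Z ⊤ b w ↔ i ≠ 2 := by
  obtain ⟨r, a, U, hr, ra, h⟩ := S.base
  exact lp_iff S (S.toBT (S.C1_ne_top (ne_one_of_ord2 hr.1)) (four S (centJ S hr ra)) (S.bad_nle hr a)) h
    (J_XZ S (centJ S hr ra)) hw wb

theorem loc (hM : M ≠ ⊤) (h1 : JJ Z a ≤ M) (h2 : ¬ M ≤ St G a) :
    ∃ j, Loc Z (XZ Z M) a (JJ Z a) q j ∧ (j = 2 ↔ i = 2) := by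
  have B := S.toBT hM (four S h1) h2
  obtain ⟨U, q', j, h, -⟩ := B.loc S.g1
  obtain rfl := U_eq S h (J_XZ S h1)
  obtain rfl : q' = q := h.cardU.symm.trans (cardJ S a)
  obtain ⟨t, -, t2, t3⟩ := B.exists_move (Orb.refl _ _)
  exact ⟨j, h, not_iff_not.1 ((lp_iff S B h (J_XZ S h1) t2 t3).symm.trans (lp S t2 t3))⟩

theorem line (hi : i ≠ 2) (ab : a ≠ b) (c : Ω) : Orb (JJ Z a ⊔ JJ Z b) a c ↔ c = a ∨ Orb (JJ Z a) b c := by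
  refine ⟨?_, ?_⟩
  swap
  · rintro (rfl | h)
    exacts [Orb.refl _ _, (orbL S a b).trans (h.mono le_sup_left)]
  obtain ⟨t, ht, rfl⟩ := S.swap ab
  obtain ⟨s, hs, c0, h1, h2⟩ := (lp S ht ab.symm).2 hi
  have l : JJ Z a ≤ SL G {c | c = a ∨ Orb (JJ Z a) (t • a) c} := XZ_le_of fun s h1 h2 => mem_SL (S.sq h2) (by
    rintro c (rfl | h)
    exacts [.inl h1, .inr (h.smul (mem_XZ h1 h2))])
  have m : t ∈ SL G {c | c = a ∨ Orb (JJ Z a) (t • a) c} := mem_SL (S.sq ht) (by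
    rintro c (rfl | ⟨u, hu, rfl⟩)
    · exact .inr (Orb.refl _ _)
    by_cases u1 : u = 1
    · exact .inl (by rw [u1, one_smul, S.ss ht])
    obtain ⟨k, hk, rfl⟩ := S.K_trans ht (mem_top t) ab.symm hs (Jiv S le_top hu u1)
    have kD := (O_le _ _ hk.1).2
    have kb : k • t • a = t • a := kD.2
    have sb : s • t • a = c0 := by rw [← h2, S.ss hs.2.1]
    refine .inr ⟨_, conj_mem' (S.normJ a kD.1) (ivJ S hs), ?_⟩
    rw [mul_smul, mul_smul, kb, sb, mul_smul, mul_smul, inv_smul_eq_iff.2 kb.symm, sb, ← mul_smul t,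
      mul_inv_eq_iff_eq_mul.1 hk.2, mul_smul, h1])
  rintro ⟨x, hx, rfl⟩
  refine (sup_le l ?_ hx a).2 (.inl rfl)
  rw [← S.cj_JJ]; exact cj_le_of_mem l (normG _ m)

theorem Kle : KK Z a b ≤ St2 G a b := (closure_le _).2 (by
  rintro _ ⟨w, hw, w', hw', rfl⟩; exact (S.sw_mul hw hw').2)

theorem KleL (ab : a ≠ b) : KK Z a b ≤ JJ Z a ⊔ JJ Z b := (closure_le _).2 (by
  rintro _ ⟨w, hw, w', hw', rfl⟩; exact mul_mem (swL S ab hw.2.1 hw.2.2) (swL S ab hw'.2.1 hw'.2.2))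

theorem torus (ht : t ∈ Z) (ta : t • a ≠ a) (hr : Bad Z r) (ra : r • a = a) (rb : r • t • a = t • a) :
    (∀ k, k ∈ KK Z a (t • a) ↔ ∃ w ∈ Sw Z ⊤ a (t • a), k = w * t) ∧ Cyc (KK Z a (t • a)) ∧
      ∀ k ∈ KK Z a (t • a), k ≠ 1 → ∀ c : Ω, r • c = c → k • c = c → c = a ∨ c = t • a := by
  have l := sup_le (J_XZ S (centJ S hr ra)) (J_XZ S (centJ S hr rb))
  obtain ⟨K, h1, h2, h3⟩ := (S.toBT (S.C1_ne_top (ne_one_of_ord2 hr.1)) (four S (centJ S hr ra))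
    (S.bad_nle hr a)).torus S.g1 ht (l (swL S ta.symm ht rfl)) ta
  rw [Sw_eq S ta.symm l] at h1
  obtain rfl : K = KK Z a (t • a) := le_antisymm (fun k hk => by
      obtain ⟨w, hw, rfl⟩ := (h1 k).1 hk
      exact subset_closure ⟨w, hw, t, ⟨trivial, ht, rfl⟩, rfl⟩) ((closure_le _).2 (by
      rintro _ ⟨w, hw, w', hw', rfl⟩
      have := mul_mem ((h1 _).2 ⟨w, hw, rfl⟩) (inv_mem ((h1 _).2 ⟨w', hw', rfl⟩))
      rwa [mul_inv_rev, mul_assoc, mul_inv_cancel_left, S.inv hw'.2.1] at this))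
  exact ⟨h1, h2, fun k hk k1 c hc => h3 k hk k1 c ((S.bad_orb hr ra c).2 hc)⟩

theorem memK (ht : t ∈ Z) (ta : t • a ≠ a) : k ∈ KK Z a (t • a) ↔ ∃ w ∈ Sw Z ⊤ a (t • a), k = w * t := by
  obtain ⟨r, hr, ra, rb⟩ := bad2 S ta.symm
  exact (torus S ht ta hr ra rb).1 k

theorem Kcyc (ab : a ≠ b) : Cyc (KK Z a b) := by
  obtain ⟨t, ht, rfl⟩ := S.swap ab
  obtain ⟨r, hr, ra, rb⟩ := bad2 S ab
  exact (torus S ht ab.symm hr ra rb).2.1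

theorem Kcard (ab : a ≠ b) : #(KK Z a b) + 1 = q := by
  obtain ⟨t, ht, rfl⟩ := S.swap ab
  obtain ⟨s, hs⟩ := S.iv a
  rw [← nI_succ S a, ← S.ncard_Sw' ab hs (S.orb _ _), ← Set.ncard_image_of_injective _ (mul_left_injective t)]
  exact congrArg (Set.ncard · + 1) (Set.ext fun k => (memK S ht ab.symm).trans (exists_congr fun _ => and_congr_right' eq_comm))

theorem Knorm (ab : a ≠ b) : St2 G a b ≤ N[KK Z a b] := fun g hg => mem_N_of fun k hk => by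
  obtain ⟨t, ht, rfl⟩ := S.swap ab
  obtain ⟨w, hw, rfl⟩ := (memK S ht ab.symm).1 hk
  exact subset_closure ⟨_, S.sw_conj hw ⟨trivial, hg⟩, _, S.sw_conj ⟨trivial, ht, rfl⟩ ⟨trivial, hg⟩, by group⟩

theorem Ktrans (ab : a ≠ b) (hs : s ∈ JJ Z a) (hu : u ∈ JJ Z a) (s1 : s ≠ 1) (u1 : u ≠ 1) :
    ∃ k ∈ KK Z a b, k * s * k⁻¹ = u := by
  obtain ⟨t, ht, rfl⟩ := S.swap ab
  obtain ⟨k, hk, e⟩ := S.K_trans ht (mem_top t) ab.symm (Jiv S le_top hs s1) (Jiv S le_top hu u1)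
  refine ⟨k, (memK S ht ab.symm).2 ⟨k * t, ⟨trivial, (S.mul_inv ht (odd_ord_of_mem (odd_O _) hk.1) hk.2).2, ?_⟩, ?_⟩, e⟩
  · rw [mul_smul]; exact (O_le _ _ hk.1).2.2
  · rw [mul_assoc, S.sq ht, mul_one]

theorem Kfree (ab : a ≠ b) (hk : k ∈ KK Z a b) (hz : z ∈ Z) (hc : z • c = c) (h : c = a ∨ c = b)
    (e : k * z = z * k) : k = 1 := by
  obtain ⟨t, ht, rfl⟩ := S.swap ab
  obtain ⟨w, hw, rfl⟩ := (memK S ht ab.symm).1 hk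
  refine S.K_free ht (a := c) ?_ hz hc (S.odd_sw ab hw ⟨trivial, ht, rfl⟩) (inverts_right (S.sq hw.2.1) (S.sq ht)) e
  rcases h with rfl | rfl
  exacts [ab.symm, by rw [S.ss ht]; exact ab]

theorem Kfix (ab : a ≠ b) (hk : k ∈ KK Z a b) (k1 : k ≠ 1) (h : k • c = c) : c = a ∨ c = b := by
  obtain ⟨t, ht, rfl⟩ := S.swap ab
  obtain ⟨r, hr, ra, rb⟩ := bad2 S ab
  have T := (torus S ht ab.symm hr ra rb).2.2 k hk k1
  by_cases rc : r • c = c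
  · exact T c rc h
  obtain ⟨z, ⟨z1, z2, z3⟩, hu⟩ := uniqZ S hr rc
  have kr := sup_le (centJ S hr ra) (centJ S hr rb) (KleL S ab hk)
  have e := mul_inv_eq_iff_eq_mul.1 (hu _ ⟨S.conj z1 k, conj_mem (normG _ kr) z2, by
    rw [mul_smul, mul_smul, inv_smul_eq_iff.2 h.symm, z3, ← mul_smul, mem_C1.1 kr, mul_smul, h]⟩)
  obtain ⟨d, hd⟩ := S.ex z1
  exact absurd (Kfree S ab hk z1 hd (T d (S.fix_of_comm z1 hd (mem_C1.1 z2).symm) (S.fix_of_comm z1 hd e)) e) k1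

theorem can (ht : t ∈ Z) (ta : t • a ≠ a) :
    ∃ s ∈ JJ Z a, s ≠ 1 ∧ St2 G a (t • a) ⊓ C1[s] ≤ C1[t] := by
  obtain ⟨r, hr, ra, rb⟩ := bad2 S ta.symm
  obtain ⟨j, h, -⟩ := loc S (M := JJ Z a ⊔ JJ Z (t • a)) (fun e => S.C1_ne_top (ne_one_of_ord2 hr.1)
    (top_le_iff.1 (e.ge.trans (sup_le (centJ S hr ra) (centJ S hr rb))))) le_sup_left fun e => ta (e (swL S ta.symm ht rfl))
  obtain ⟨s, hs, s1, e⟩ := h.can t (mem_XZ (swL S ta.symm ht rfl) ht) ht ta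
  have i := Jiv S le_top hs s1
  have e1 := S.card_sw ht (mem_top t) ta
  rw [S.ncard_Sw' ta.symm i (S.orb _ _), top_inf_eq, S.card_iv (D := St2 G a (t • a)) i (le_inf le_top inf_le_left)
    fun u hu => by
      obtain ⟨k, hk, e⟩ := S.K_trans ht (mem_top t) ta i hu
      exact ⟨k, (O_le _ _ hk.1).2, e⟩] at e1
  refine ⟨s, hs, s1, (eq_of_card_le (A := St2 G a (t • a) ⊓ C1[t]) (B := St2 G a (t • a) ⊓ C1[s]) (fun v hv => ⟨hv.1, e v (S.XZ_norm (normY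
    (inf_le_left.trans (S.normJ a)) (inf_le_right.trans (S.normJ _)) hv.1)) hv.1.1 hv.2⟩)
    (Nat.eq_of_mul_eq_mul_right (zero_lt_one.trans (S.one_lt_nI (S.four' a))) e1).le).ge.trans inf_le_right⟩

theorem Wsym (ab : a ≠ b) : WW Z a b ≤ C[JJ Z b] := fun x hx => by
  obtain ⟨t, ht, rfl⟩ := S.swap ab
  obtain ⟨s, hs, -, e⟩ := can S ht ab.symm
  rw [← S.cj_JJ, ← cj_C, mem_cj, mul_assoc, mem_C1.1 (e ⟨hx.1, C_le_C1 hs hx.2⟩), inv_mul_cancel_left]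
  exact hx.2

theorem sym (ab : a ≠ b) {x : G} (hx : x ∈ St2 G a b) (hu : u ∈ JJ Z b) (u1 : u ≠ 1) (h : x ∈ C1[u]) :
    ∃ u ∈ JJ Z a, u ≠ 1 ∧ x ∈ C1[u] := by
  obtain ⟨t, ht, rfl⟩ := S.swap ab.symm
  obtain ⟨s, hs, s1, e⟩ := can S ht ab
  obtain ⟨k, hk, rfl⟩ := Ktrans S ab.symm hs hu s1 u1
  have kD := Kle S hk
  rw [← cj_C1, mem_cj] at h
  have c := e ⟨conj_mem' (normG _ kD) ⟨hx.2, hx.1⟩, h⟩
  refine ⟨k * (t * s * t⁻¹) * k⁻¹, conj_mem (S.normJ _ kD.2) (by rw [← S.cj_JJ]; exact mem_cj_conj.2 hs), by simpa using s1, ?_⟩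
  rw [← cj_C1, mem_cj]
  exact C1_symm (mul_mem (mul_mem (C1_symm c) (C1_symm h)) (inv_mem (C1_symm c)))

end Cc

open Cc in
theorem CN.toC2 {q i : ℕ} (S : CN Ω Z q i) : C2 Ω Z q i where
  toMC := S.toMC
  faithful _ := S.eq_one
  tr2 := S.tr2
  g1 := S.g1
  pow := let ⟨_, _, _, _, _, h⟩ := S.base; h.pow
  memJ := memJ S
  abJ := abJ S
  cardJ := cardJ S
  exBad := let ⟨r, _, _, h, _⟩ := S.base; ⟨r, h⟩
  cardF := S.cardF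
  cardΩ := S.cardΩ
  centJ _ _ := centJ S
  badMul _ _ := S.badMul
  uniqZ _ _ := uniqZ S
  conjB _ _ hr ra _ := conjB S hr ra
  loc _ _ := loc S
  line hi _ _ := line S hi
  Kle _ _ _ := Kle S
  KleL _ _ := KleL S
  Kcyc _ _ := Kcyc S
  Kcard _ _ := Kcard S
  Knorm _ _ := Knorm S
  Ktrans _ _ ab _ hs _ hu := Ktrans S ab hs hu
  Kfree a _ ab _ hk _ hu u1 := Kfree S ab hk (Jiv S le_top hu u1).2.1 (Jiv S le_top hu u1).2.2 (.inl rfl)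
  Kfix _ _ ab _ hk k1 _ := Kfix S ab hk k1
  Wsym _ _ := Wsym S
  sym _ _ ab _ hx := fun ⟨_, hu, u1, h⟩ => sym S ab hx hu u1 h
  noidx := S.noidx
  noidx2 := S.noidx2

end Cfsg.Agent.ZD
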