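import Cfsg.Agent.ZD.Basic

/-!
# Theorem ZD, end game: the fact structure `C2`

`G` simple, 2-transitive on `Ω`; `J c = JJ Z c` is the group `{1} ∪ {z ∈ Z | z c = c}` (elementary abelian of order `q`),
every involution outside `Z` is `Bad`: it fixes exactly `q ^ i + 1` points and centralizes `J c` for each of them.
`Loc` describes `X = ⟨Z ∩ M⟩` for a proper subgroup `M` (it is `L₂(q)`, `Sz(q)`, `U₃(q)` modulo the central kernel).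
-/

set_option autoImplicit false
set_option linter.unusedVariables false
set_option linter.unusedSectionVars false

namespace Cfsg.Agent.ZD
open Cfsg Cfsg.Agent.BG Cfsg.Agent.Inv Cfsg.Agent.SE MulAction Subgroup PHom

section Defs
variable {G Ω : Type*} [Group G] [MulAction G Ω]

/-- the group generated by the members of `Z` fixing `c` -/
def JJ (Z : Set G) (c : Ω) : Subgroup G := XZ Z (St G c)

/-- an involution outside `Z` -/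
def Bad (Z : Set G) (r : G) : Prop := orderOf r = 2 ∧ r ∉ Z

/-- the torus: generated by products of two members of `Z` swapping `a` and `b` -/
def KK (Z : Set G) (a b : Ω) : Subgroup G :=
  closure {k | ∃ w ∈ Sw Z (⊤ : Subgroup G) a b, ∃ w' ∈ Sw Z (⊤ : Subgroup G) a b, k = w * w'}

/-- `C_D(J)` -/
abbrev WW (Z : Set G) (a b : Ω) : Subgroup G := St2 G a b ⊓ C[JJ Z a]

/-- `O₂(X_a)` -/
abbrev QQ (X : Subgroup G) (a : Ω) : Subgroup G := O[{2}](X ⊓ St G a)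

/-- some member of `Z ∩ X_a` moves the fixed point of `t` to `t a` -/
def LP (Z : Set G) (X : Subgroup G) (a : Ω) (t : G) : Prop := ∃ s ∈ Iv Z X a, ∃ c : Ω, t • c = c ∧ s • c = t • a

/-- `X` acts on the orbit of `a` as `L₂(q)` (`i = 1`), `Sz(q)` (`i = 2`) or `U₃(q)` (`i = 3`), with central kernel;
`U = {1} ∪ (Z ∩ X_a)` -/
structure Loc (Z : Set G) (X : Subgroup G) (a : Ω) (U : Subgroup G) (q i : ℕ) : Prop where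
  pow : ∃ m, 2 ≤ m ∧ q = 2 ^ m
  cent : Ker X a ≤ C[X]
  trans : ∀ b c, Orb X a b → Orb X a c → b ≠ a → c ≠ a → ∃ x ∈ QQ X a, x • b = c
  reg : ∀ x ∈ QQ X a, ∀ b, Orb X a b → b ≠ a → x • b = b → x ∈ Ker X a
  card : (orbit X a).ncard = q ^ i + 1
  idx : (Ker X a).relIndex (QQ X a) = q ^ i
  memU : ∀ g, g ∈ U ↔ g = 1 ∨ g ∈ Iv Z X a
  cardU : #U = q
  Ule : U ≤ QQ X a
  Ucent : U ≤ C[QQ X a]
  sq : ∀ x ∈ QQ X a, ∃ u ∈ U, ∃ z ∈ Ker X a, x * x = u * z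
  comm : ∀ x ∈ QQ X a, ∀ y ∈ QQ X a, ∃ u ∈ U, ∃ z ∈ Ker X a, x * y * x⁻¹ * y⁻¹ = u * z
  inv : ∀ x ∈ QQ X a, x * x ∈ Ker X a → ∃ u ∈ U, ∃ z ∈ Ker X a, x = u * z
  center : i ≠ 1 → ∀ x ∈ QQ X a, (∀ y ∈ QQ X a, x * y * x⁻¹ * y⁻¹ ∈ Ker X a) → ∃ u ∈ U, ∃ z ∈ Ker X a, x = u * z
  odd : ∀ b, Orb X a b → b ≠ a → Odd ((Ker X a).relIndex (X ⊓ St2 G a b))
  cases : i = 1 ∨ i = 2 ∧ ¬ 3 ∣ q - 1 ∨
    i = 3 ∧ ∀ b, Orb X a b → b ≠ a → ∃ w ∈ X ⊓ St2 G a b ⊓ C[U], w ∉ Ker X a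
  lp : ∀ t ∈ X, t ∈ Z → t • a ≠ a → (LP Z X a t ↔ i ≠ 2)
  can : ∀ t ∈ X, t ∈ Z → t • a ≠ a → ∃ s ∈ U, s ≠ 1 ∧ ∀ v ∈ N[X], v • a = a → v ∈ C1[t] → v ∈ C1[s]

/-- the end game -/
structure C2 (Ω : Type*) [MulAction G Ω] (Z : Set G) (q i : ℕ) : Prop extends MC Ω Z where
  faithful : ∀ g : G, (∀ c : Ω, g • c = c) → g = 1
  tr2 : Tr2 G Ω
  g1 : G1 Ω Z
  pow : ∃ m, 2 ≤ m ∧ q = 2 ^ m
  memJ : ∀ (c : Ω) (g : G), g ∈ JJ Z c ↔ g = 1 ∨ g ∈ Z ∧ g • c = c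
  abJ : ∀ c : Ω, Abel (JJ Z c)
  cardJ : ∀ c : Ω, #(JJ Z c) = q
  exBad : ∃ r, Bad Z r
  cardF : ∀ r, Bad Z r → (fixedBy Ω r).ncard = q ^ i + 1
  cardΩ : Nat.card Ω = q ^ i + 1 + (q - 1) * (q ^ i + 1) * q ^ i
  centJ : ∀ r (c : Ω), Bad Z r → r • c = c → JJ Z c ≤ C1[r]
  badMul : ∀ r z, Bad Z r → z ∈ Z → z ∈ C1[r] → Bad Z (r * z)
  uniqZ : ∀ r (c : Ω), Bad Z r → r • c ≠ c → ∃! z, z ∈ Z ∧ z ∈ C1[r] ∧ z • c = r • c
  conjB : ∀ r (a : Ω), Bad Z r → r • a = a → ∀ u ∈ JJ Z a, ∃ g : G, g • a = a ∧ g * r * g⁻¹ = r * u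
  loc : ∀ (M : Subgroup G) (a : Ω), M ≠ ⊤ → JJ Z a ≤ M → ¬ M ≤ St G a →
    ∃ j, Loc Z (XZ Z M) a (JJ Z a) q j ∧ (j = 2 ↔ i = 2)
  line : i ≠ 2 → ∀ a b : Ω, a ≠ b → ∀ c, Orb (JJ Z a ⊔ JJ Z b) a c ↔ c = a ∨ Orb (JJ Z a) b c
  Kle : ∀ a b : Ω, a ≠ b → KK Z a b ≤ St2 G a b
  KleL : ∀ a b : Ω, a ≠ b → KK Z a b ≤ JJ Z a ⊔ JJ Z b
  Kcyc : ∀ a b : Ω, a ≠ b → Cyc (KK Z a b)
  Kcard : ∀ a b : Ω, a ≠ b → #(KK Z a b) + 1 = q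
  Knorm : ∀ a b : Ω, a ≠ b → St2 G a b ≤ N[KK Z a b]
  Ktrans : ∀ a b : Ω, a ≠ b → ∀ u ∈ JJ Z a, ∀ u' ∈ JJ Z a, u ≠ 1 → u' ≠ 1 → ∃ k ∈ KK Z a b, k * u * k⁻¹ = u'
  Kfree : ∀ a b : Ω, a ≠ b → ∀ k ∈ KK Z a b, ∀ u ∈ JJ Z a, u ≠ 1 → k * u = u * k → k = 1
  Kfix : ∀ a b : Ω, a ≠ b → ∀ k ∈ KK Z a b, k ≠ 1 → ∀ c, k • c = c → c = a ∨ c = b
  Wsym : ∀ a b : Ω, a ≠ b → WW Z a b ≤ C[JJ Z b]
  sym : ∀ a b : Ω, a ≠ b → ∀ x ∈ St2 G a b, (∃ u ∈ JJ Z b, u ≠ 1 ∧ x ∈ C1[u]) → ∃ u ∈ JJ Z a, u ≠ 1 ∧ x ∈ C1[u]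
  noidx : ∀ (a : Ω) (N : Subgroup G), N ≤ St G a → ⁅St G a, St G a⁆ ≤ N → Odd (N.relIndex (St G a))
  noidx2 : ∀ (a : Ω) (N : Subgroup G), N ≤ St G a → St G a ≤ N[N] → N.relIndex (St G a) % 4 ≠ 2

end Defs

variable {G Ω : Type*} [Group G] [Finite G] [MulAction G Ω] {Z : Set G} {q i : ℕ}
variable {M X Y : Subgroup G} {a b c d : Ω} {r g u x z : G}

theorem JJ_le (Z : Set G) (c : Ω) : JJ Z c ≤ St G c := XZ_le _ _

theorem Bad.conj (S : ZW Ω Z) (h : Bad Z r) (g : G) : Bad Z (g * r * g⁻¹) :=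
  ⟨ord_conj h.1 g, fun e => h.2 (by simpa [mul_assoc] using S.conj' e g)⟩

theorem ZW.cj_JJ (S : ZW Ω Z) (g : G) (c : Ω) : cj g (JJ Z c) = JJ Z (g • c) := by rw [JJ, S.cj_XZ, cj_St, JJ]

theorem ZW.normJ (S : ZW Ω Z) (c : Ω) : St G c ≤ N[JJ Z c] := S.XZ_norm' _

namespace C2
variable (S : C2 Ω Z q i)
include S

theorem finite : Finite Ω := by
  obtain ⟨a, -⟩ := S.nt.exists_pair_ne
  exact Finite.of_surjective (fun g : G => g • a) fun d => S.tr a d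

theorem four_le : 4 ≤ q := by
  obtain ⟨m, h, rfl⟩ := S.pow
  exact (Nat.pow_le_pow_right (by decide) h : 2 ^ 2 ≤ 2 ^ m)

theorem J_sq (hu : u ∈ JJ Z c) : u * u = 1 := by
  rcases (S.memJ c u).1 hu with rfl | h
  exacts [one_mul _, S.sq h.1]

/-- `J` is semiregular off its point -/
theorem J_free (hu : u ∈ JJ Z c) (hd : d ≠ c) (h : u • d = d) : u = 1 :=
  ((S.memJ c u).1 hu).resolve_right fun e => hd (S.uniq e.1 h e.2)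

theorem exists_J (c : Ω) : ∃ u, u ∈ Z ∧ u • c = c := by
  obtain ⟨u, hu, u1⟩ := Inv.exists_ne_one (H := JJ Z c) fun e => by
    have := S.cardJ c; have h := S.four_le; rw [e, card_bot'] at this; omega
  exact ⟨u, ((S.memJ c u).1 hu).resolve_left u1⟩

theorem CJ_le (c : Ω) : C[JJ Z c] ≤ St G c := by
  obtain ⟨u, h1, h2⟩ := S.exists_J c
  exact (C_le_C1 ((S.memJ c u).2 (.inr ⟨h1, h2⟩))).trans (S.C1_le h1 h2)

/-- an involution fixing `a` outside `J a` is bad -/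
theorem bad_of (h : orderOf r = 2) (ha : r • a = a) (hn : r ∉ JJ Z a) : Bad Z r :=
  ⟨h, fun e => hn ((S.memJ a r).2 (.inr ⟨e, ha⟩))⟩

theorem C_ne_top (h : Y ≠ ⊥) : C[Y] ≠ ⊤ := fun e => by
  obtain ⟨y, hy, y1⟩ := Inv.exists_ne_one h
  refine y1 (S.faithful y fun c => ?_)
  obtain ⟨u, h1, h2⟩ := S.exists_J c
  exact S.fix_of_comm h1 h2 (mem_C.1 (e.ge (mem_top u)) y hy)

/-- the fixed points of a subgroup of `W` form the orbit of `⟨Z ∩ C(Y)⟩` -/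
theorem fixY (h : Y ≤ St G a ⊓ C[JJ Z a]) (c : Ω) : Y ≤ St G c ↔ Orb (XZ Z C[Y]) a c := by
  refine ⟨fun hc => ?_, ?_⟩
  · by_cases e : a = c
    · exact e ▸ Orb.refl _ _
    obtain ⟨u, h1, h2⟩ := S.exists_J a
    obtain ⟨v, h3, h4⟩ := S.exists_J c
    exact S.orb_of_inv h1 (mem_XZ (cent_symm (h.trans inf_le_right) ((S.memJ a u).2 (.inr ⟨h1, h2⟩))) h1) h2 h3
      (mem_XZ (cent_symm ((le_inf (le_inf (h.trans inf_le_left) hc) (h.trans inf_le_right)).trans (S.Wsym a c e))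
        ((S.memJ c v).2 (.inr ⟨h3, h4⟩))) h3) h4
  · rintro ⟨x, hx, rfl⟩
    exact fix_smul (C_le_N _ (XZ_le _ _ hx)) (h.trans inf_le_left)

/-- local structure of `C(Y)` for `1 ≠ Y ≤ W` -/
theorem locY (ab : a ≠ b) (h : Y ≤ WW Z a b) (h1 : Y ≠ ⊥) :
    ∃ j, Loc Z (XZ Z C[Y]) a (JJ Z a) q j ∧ (j = 2 ↔ i = 2) := by
  refine S.loc _ a (S.C_ne_top h1) (cent_symm (h.trans inf_le_right)) fun e => ?_
  obtain ⟨x, hx, e1⟩ := (S.fixY (h.trans (inf_le_inf_right _ inf_le_left)) b).1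
    (h.trans (inf_le_left.trans inf_le_right))
  exact ab ((e (XZ_le _ _ hx)).symm.trans e1)

/-- some bad involution fixes two given points -/
theorem exists_bad (ab : a ≠ b) : ∃ r, Bad Z r ∧ r • a = a ∧ r • b = b := by
  haveI := S.finite
  obtain ⟨r, hr⟩ := S.exBad
  obtain ⟨c, hc, d, hd, cd⟩ := (Set.one_lt_ncard (s := fixedBy Ω r) (Set.toFinite _)).1 (by
    rw [S.cardF r hr]; have := S.four_le; have : 0 < q ^ i := by positivity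
    omega)
  obtain ⟨g, rfl, rfl⟩ := S.tr2 c d a b cd ab
  exact ⟨_, hr.conj S.toZW g, conj_smul_fix hc g, conj_smul_fix hd g⟩

theorem bad_W (hr : Bad Z r) (ha : r • a = a) (hb : r • b = b) : r ∈ WW Z a b :=
  ⟨⟨ha, hb⟩, le_C1_iff.1 (S.centJ r a hr ha)⟩

/-- an element fixing `c`, `r c` and centralizing `r` centralizes the unique `z` -/
theorem cent_uniqZ (hr : Bad Z r) (hz : z ∈ Z) (h1 : z ∈ C1[r]) (hc : r • c ≠ c) (h2 : z • c = r • c)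
    (hg : g ∈ C1[r]) (h3 : g • c = c) : g ∈ C1[z] := by
  refine mem_C1.2 <| mul_inv_eq_iff_eq_mul.1 ((S.uniqZ r c hr hc).unique ⟨S.conj hz g, conj_mem (normG _ hg) h1, ?_⟩ ⟨hz, h1, h2⟩)
  rw [mul_smul, mul_smul, inv_smul_eq_iff.2 h3.symm, h2, ← mul_smul, mem_C1.1 hg, mul_smul, h3]

end C2

end Cfsg.Agent.ZD
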