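import Cfsg.Agent.ZD.CI

/-!
# Numerology, preliminaries: rank one is impossible; arithmetic

* `four_bad`: suppose `¬ FourZ Z C1[r]` (else `four_St`, `bad_iv`, `bad_nle`), so `Iv Z C1[r] a = {v}` (`nI_eq_one`).  Every `s ∈ I = Iv Z ⊤ a` commutes with `v`: `s r` has even order `2m`
  (else `r ~ s`), `x = (s r)^m` is an involution fixing `a` commuting with `s, r` (`s0209`).  If `x ∈ Z` then `x = v`.  Otherwise `x` is bad, `x s` is bad (`badMul`), so `m` is odd (`mul_pow`), `r x` is conjugate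
  to `s` in `⟨s, r⟩`, so `r x ∈ Iv Z C1[r] a = {v}`, and `s, v ∈ Iv Z C1[x] a` commute (`MC.comm`, `C1_ne_top`, `bad_nle`).  `I` is a class of `H = G_a` (`K_trans`), so `J = I ∪ 1` is elementary
  abelian (`ZF.mul`), `C_J(r) = {1, v}`, so `|J| ≤ 4` (`j ↦ j j^r ∈ C_J(r)` is a homomorphism with kernel `C_J(r)`), `|J| = 4` (`four'`), `|H : C(v)| = 3` (`card_St`),
  `|C(v) : C(J)| = 2` (`r ∉ C(J)`), so `|H : C_H(J)| = 6`, against `noidx2`.
* arithmetic: `n ≡ 1 mod q`, write `n = 1 + q x`.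
  `num2`: `q x y + y - x = q² - q + 1`, `y = x + 1 + q k`, `x y + k = q - 1`; `x ≥ 1` forces `y = 1, x = q` (`k = 0` is excluded by parity); then `p ∣ q² + 1`, `p ∣ q³ - 1` give `p ∣ 2`.
  `num3`: `n ∣ (q²-1)(q²-q+1)`, primes of `n` divide `q²-1`, `gcd(q²-q+1, q²-1) ∣ 3`, `9 ∤ q²-q+1`, so `n ∣ 3(q²-1) = n (q j - 3)`: `x j q + j - 3 x = 3 q`; `x ≥ 1` gives `j = 3, x = 1` or `q = 4`, `n ∈ {9, 45}` (not `∣ 195`).
  `n = q + 1`: `y = q² - 2q + 2`, `q⁴ y - 1 ≡ 4 mod p` for `p ∣ q + 1`.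
-/

set_option autoImplicit false
set_option linter.unusedVariables false
set_option linter.unusedSectionVars false

namespace Cfsg.Agent.ZD
open Cfsg Cfsg.Agent.BG Cfsg.Agent.Inv Cfsg.Agent.SE MulAction Subgroup PHom

variable {G Ω : Type*} [Group G] [Finite G] [MulAction G Ω] {Z : Set G}

theorem MC.dih (S : MC Ω Z) {r t : G} (hr : Bad Z r) (ht : t ∈ Z) :
    ∃ x ∈ zpowers (r * t), orderOf x = 2 ∧ x * r = r * x ∧ x * t = t * x ∧ (x ∈ Z ∨ r * x ∈ Z) := by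
  have rr := mul_self_of_ord hr.1
  have ev : Even (orderOf (r * t)) := Nat.not_odd_iff_even.1 fun o => by
    obtain ⟨k, hk⟩ := exists_zpow_conj_of_odd rr (S.sq ht) o
    generalize (r * t) ^ k = x at hk
    have := S.conj' ht x
    rw [← hk] at this
    exact hr.2 (by simpa [mul_assoc] using this)
  obtain ⟨v1, v2, v3⟩ := s0209 r t hr.1 (S.ord ht) ev
  generalize orderOf (r * t) / 2 = n at v1 v2 v3
  refine ⟨_, pow_mem (mem_zpowers _) n, v1, v2.eq, v3.eq, or_iff_not_imp_left.2 fun h => ?_⟩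
  rcases Nat.even_or_odd' n with ⟨m, rfl | rfl⟩
  · refine absurd ?_ (S.badMul ⟨v1, h⟩ ht (mem_C1.2 v3.eq.symm)).2
    have := S.conj ht ((r * t) ^ m)
    rwa [← conj_pow_inv (inverts_right rr (S.sq ht)) m, ← mul_assoc, ← mul_assoc, mul_assoc _ t t, S.sq ht,
      mul_one, ← pow_add, ← Nat.two_mul, S.inv ht] at this
  · have := S.conj' ht ((r * t) ^ m)
    rw [← conj_pow_inv (inverts_right rr (S.sq ht)) m, inv_mul_cancel_right, mul_assoc, ← pow_add,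
      ← Nat.two_mul] at this
    rwa [pow_succ', ← mul_assoc, ← mul_assoc, rr, one_mul]

theorem CB.four_bad (S : CB Ω Z) {r : G} {a : Ω} (hr : Bad Z r) (ra : r • a = a) : FourZ Z (C1[r] ⊓ St G a) := by
  obtain ⟨v, hv⟩ := S.bad_iv hr ra
  by_contra h
  have h4 : ¬ FourZ Z C1[r] := fun e => h (S.four_St hv.2.1 hv.1 hv.2.2 (S.bad_nle hr a) e (Orb.refl _ _))
  have uq : ∀ u ∈ Iv Z C1[r] a, u = v := fun u hu => S.nI_eq_one S.g1 hv (S.bad_nle hr a) h4 hu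
  have rr := mul_self_of_ord hr.1
  have ri := inv_of_ord hr.1
  have cI : ∀ g : G, g • a = a → ∀ s ∈ Iv Z (⊤ : Subgroup G) a, g * s * g⁻¹ ∈ Iv Z (⊤ : Subgroup G) a :=
    fun g hg s hs => hg ▸ S.iv_conj hs (mem_top g)
  have vI : v ∈ Iv Z (⊤ : Subgroup G) a := ⟨trivial, hv.2⟩
  have cv : ∀ s ∈ Iv Z (⊤ : Subgroup G) a, s * v = v * s := fun s hs => by
    obtain ⟨x, x1, x2, x3, x4, x5⟩ := S.dih hr hs.2.1
    have xa : x • a = a := zp_le (X := St G a) (mul_mem ra hs.2.2) x1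
    by_cases e : x ∈ Z
    · rw [← uq x ⟨mem_C1.2 x3, e, xa⟩, x4]
    have m : r * x ∈ Iv Z C1[r] a := ⟨mem_C1.2 (by rw [mul_assoc, x3]), x5.resolve_left e, by rw [mul_smul, xa, ra]⟩
    rw [← uq _ m]
    exact S.comm S.g1 (S.C1_ne_top (ne_one_of_ord2 x2)) (S.bad_nle ⟨x2, e⟩ a) ⟨mem_C1.2 x4.symm, hs.2⟩
      ⟨mem_C1.2 (by rw [← mul_assoc, x3]), m.2⟩
  have cc : ∀ s ∈ Iv Z (⊤ : Subgroup G) a, ∀ u ∈ Iv Z (⊤ : Subgroup G) a, s * u = u * s := fun s hs u hu => by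
    obtain ⟨m, -, rfl⟩ := S.conj_in hv.2.1 (mem_top _) hv.2.2 (S.not_le a) hs.2.1 (mem_top _)
    have ma : m • a = a := S.uniq hs.2.1 (conj_smul_fix hv.2.2 m) hs.2.2
    have := cv _ (cI m⁻¹ (inv_smul_eq_iff.2 ma.symm) u hu)
    calc _ = m * (v * (m⁻¹ * u * m⁻¹⁻¹)) * m⁻¹ := by group
      _ = _ := by rw [← this]; group
  have mI : ∀ s ∈ Iv Z (⊤ : Subgroup G) a, ∀ u ∈ Iv Z (⊤ : Subgroup G) a, s ≠ u → s * u ∈ Iv Z (⊤ : Subgroup G) a :=
    fun s hs u hu n => ⟨trivial, S.mul hs.2.1 hu.2.1 n (cc s hs u hu), by rw [mul_smul, hu.2.2, hs.2.2]⟩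
  have fr : ∀ s ∈ Iv Z (⊤ : Subgroup G) a, r * s * r⁻¹ = s → s = v := fun s hs e =>
    uq s ⟨mem_C1.2 (mul_inv_eq_iff_eq_mul.1 e).symm, hs.2⟩
  have cr : ∀ s ∈ Iv Z (⊤ : Subgroup G) a, s ≠ v → r * s * r⁻¹ = s * v := fun s hs n => by
    have h1 := cI r ra s hs
    rw [← fr _ (mI s hs _ h1 fun e => n (fr s hs e.symm)) (by
      rw [← conj_mul, cc s hs _ h1]; congr 1
      calc _ = (r * r) * s * (r * r)⁻¹ := by group
        _ = s := by rw [rr]; group), ← mul_assoc, S.sq hs.2.1, one_mul]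
  obtain ⟨s, hs, sv⟩ := Set.exists_ne_of_one_lt_ncard (S.one_lt_nI (S.four' a)) v
  have svI := mI s hs v vI sv
  have n1 : s * v ≠ v := fun e => S.ne_one hs.2.1 (by simpa using e)
  have n2 : s ≠ s * v := fun e => S.ne_one hv.2.1 (by simpa using e)
  have eI : ∀ u ∈ Iv Z (⊤ : Subgroup G) a, u ≠ v → u = s ∨ u = s * v := fun u hu n => or_iff_not_imp_left.2 fun e => by
    rw [← fr _ (mI s hs u hu (Ne.symm e)) (by
      rw [← conj_mul, cr s hs sv, cr u hu n, cv u hu, mul_assoc, ← mul_assoc v v, S.sq hv.2.1, one_mul]),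
      ← mul_assoc, S.sq hs.2.1, one_mul]
  have n3 : nI Z (⊤ : Subgroup G) a = 3 := Set.ncard_eq_three.2 ⟨v, s, s * v, sv.symm, n1.symm, n2, Set.ext fun u =>
    ⟨fun hu => or_iff_not_imp_left.2 (eI u hu), by rintro (rfl | rfl | rfl); exacts [vI, hs, svI]⟩⟩
  have e1 := S.card_St hv.2.1 (mem_top _) hv.2.2 (S.not_le a)
  have va := S.C1_le hv.2.1 hv.2.2
  rw [top_inf_eq, top_inf_eq, n3, card_conj C1[v] s, show {x | ∃ d ∈ C1[v], d * s * d⁻¹ = x} = {s, s * v} from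
    Set.ext fun x => ⟨by
      rintro ⟨d, hd, rfl⟩
      exact eI _ (cI d (va hd) s hs) fun e => sv (by
        rw [mul_inv_eq_iff_eq_mul, ← mem_C1.1 hd] at e; exact mul_left_cancel e), by
      rintro (rfl | rfl)
      exacts [⟨1, one_mem _, by simp⟩, ⟨r, C1_symm hv.1, cr s hs sv⟩]⟩, Set.ncard_pair n2, mul_assoc] at e1
  have l : C1[v] ⊓ C1[s] ≤ St G a := inf_le_left.trans va
  refine S.noidx2 a _ l ?_ (by
    rw [Nat.eq_of_mul_eq_mul_left (card_pos _) ((card_mul_relIndex l).trans e1)]; rfl)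
  rw [show C1[v] ⊓ C1[s] = C[JJ Z a] from le_antisymm (cent_symm (XZ_le_of fun u h1 h2 => ?_))
    (le_inf (C_le_C1 (mem_XZ hv.2.2 hv.2.1)) (C_le_C1 (mem_XZ hs.2.2 hs.2.1)))]
  · exact normC (S.normJ a)
  · have hv' : v ∈ C[C1[v] ⊓ C1[s]] := le_C1_iff.1 inf_le_left
    have hs' : s ∈ C[C1[v] ⊓ C1[s]] := le_C1_iff.1 inf_le_right
    by_cases e : u = v
    · exact e ▸ hv'
    · rcases eI u ⟨trivial, h2, h1⟩ e with rfl | rfl
      exacts [hs', mul_mem hs' hv']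

theorem dv {p a b : ℤ} (h : p ∣ a) (e : a = b) : p ∣ b := e ▸ h

theorem num0 {q n y A : ℕ} (hq : 2 ≤ q) (hy : 1 ≤ y) (h : n * (q * y - 1) = (q - 1) * (q * A + 1)) :
    ∃ x, n = q * x + 1 ∧ (q : ℤ) * x * y + y = x + (q - 1) * A + 1 := by
  have l : 1 ≤ q * y := Nat.mul_pos (by omega) hy
  zify [l, (by omega : 1 ≤ q)] at h
  have d : (q : ℤ) ∣ n - 1 := ⟨n * y - (q - 1) * A - 1, by linear_combination -h⟩
  have n0 : 1 ≤ n := Nat.pos_of_ne_zero (by
    rintro rfl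
    have : (0 : ℤ) < (q - 1) * (q * A + 1) := mul_pos (by omega) (by positivity)
    rw [← h] at this; simp at this)
  obtain ⟨x, hx⟩ : q ∣ n - 1 := by zify [n0]; exact d
  obtain rfl : n = q * x + 1 := by omega
  refine ⟨x, rfl, mul_left_cancel₀ (a := (q : ℤ)) (by omega) ?_⟩
  push_cast at h
  linear_combination h

theorem num1 {m q n y : ℕ} (hm : 2 ≤ m) (hq : q = 2 ^ m) (hy : 1 ≤ y) (h : n * (q * y - 1) = (q - 1) * (q + 1)) :
    n = 1 ∨ n = q + 1 ∧ y = 1 := by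
  have q4 : 4 ≤ q := hq ▸ (Nat.pow_le_pow_right (by decide) hm : 2 ^ 2 ≤ 2 ^ m)
  obtain ⟨x, rfl, e⟩ := num0 (q := q) (n := n) (A := 1) (by omega) hy (by simpa using h)
  rcases Nat.eq_zero_or_pos x with rfl | x0
  · simp
  have y1 : y = 1 := by
    by_contra n
    have : (2 : ℤ) ≤ y := by omega
    have : (1 : ℤ) ≤ x := by omega
    have : (4 : ℤ) ≤ q := by omega
    push_cast at e
    nlinarith [mul_le_mul_of_nonneg_left ‹(2 : ℤ) ≤ y› (show (0 : ℤ) ≤ q * x by positivity)]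
  subst y1
  have : x = 1 := by
    have : ((q : ℤ) - 1) * (x - 1) = 0 := by push_cast at e; linear_combination e
    rcases mul_eq_zero.1 this with h | h <;> omega
  simp [this]

theorem num2 {m q n y : ℕ} (hm : 2 ≤ m) (hq : q = 2 ^ m) (hy : 1 ≤ y) (h : n * (q * y - 1) = (q - 1) * (q ^ 2 + 1))
    (hp : ∀ p, p.Prime → p ∣ n → p ∣ q ^ 3 * y - 1) : n = 1 := by
  have q4 : 4 ≤ q := hq ▸ (Nat.pow_le_pow_right (by decide) hm : 2 ^ 2 ≤ 2 ^ m)
  have q2 : 2 ∣ q := hq ▸ dvd_pow_self 2 (by omega)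
  obtain ⟨x, rfl, e⟩ := num0 (q := q) (n := n) (A := q) (by omega) hy (by rwa [← pow_two])
  rcases Nat.eq_zero_or_pos x with rfl | x0
  · simp
  exfalso
  obtain ⟨k, hk⟩ : ∃ k : ℤ, k = q - 1 - x * y := ⟨_, rfl⟩
  have e1 : (y : ℤ) = x + 1 + q * k := by rw [hk]; linear_combination e
  have b1 : (1 : ℤ) ≤ x := by omega
  have b2 : (1 : ℤ) ≤ y := by omega
  have b3 : (4 : ℤ) ≤ q := by omega
  rcases lt_trichotomy k 0 with k0 | rfl | k0
  · have y1 : y = 1 := by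
      by_contra n
      have : (2 : ℤ) ≤ y := by omega
      nlinarith
    subst y1
    have : ((q : ℤ) - 1) * (x - q) = 0 := by push_cast at e; linear_combination e
    obtain rfl : x = q := by rcases mul_eq_zero.1 this with h | h <;> omega
    obtain ⟨p, pp, pd⟩ := Nat.exists_prime_and_dvd (n := x * x + 1) (by nlinarith)
    have d := hp p pp pd
    have l : 1 ≤ x ^ 3 * 1 := by simpa using Nat.one_le_pow _ _ x0
    zify [l] at d pd
    have : (p : ℤ) ∣ 2 := by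
      have h2 : (p : ℤ) ∣ x + 1 := dv (dvd_sub (pd.mul_left x) d) (by ring)
      exact dv (dvd_sub pd (h2.mul_left (x - 1))) (by ring)
    obtain rfl : p = 2 := (Nat.prime_dvd_prime_iff_eq pp Nat.prime_two).1 (by exact_mod_cast this)
    obtain ⟨j, rfl⟩ := q2
    push_cast at pd
    have : (2 : ℤ) ∣ 1 := dv (dvd_sub pd (dvd_mul_right 2 (2 * (j : ℤ) * j))) (by ring)
    omega
  · obtain ⟨j, rfl⟩ := q2
    obtain ⟨l, hl⟩ := Int.even_mul_succ_self (x : ℤ)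
    rw [mul_zero, add_zero] at e1
    rw [e1, hl] at hk
    push_cast at hk
    omega
  · nlinarith

theorem num3 {m q n y : ℕ} (hm : 2 ≤ m) (hq : q = 2 ^ m) (hy : 1 ≤ y) (h : n * (q * y - 1) = (q - 1) * (q ^ 3 + 1))
    (hp : ∀ p, p.Prime → p ∣ n → p ∣ q ^ 4 * y - 1) (hp' : ∀ p, p.Prime → p ∣ n → p ∣ q ^ 2 - 1) : n = 1 := by
  have q4 : 4 ≤ q := hq ▸ (Nat.pow_le_pow_right (by decide) hm : 2 ^ 2 ≤ 2 ^ m)
  have q2 : 2 ∣ q := hq ▸ dvd_pow_self 2 (by omega)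
  have l1 : 1 ≤ q ^ 2 := Nat.one_le_pow _ _ (by omega)
  have d1 : n ∣ (q ^ 2 - 1) * (q * (q - 1) + 1) := ⟨q * y - 1, by
    rw [h]; zify [l1, (by omega : 1 ≤ q)]; ring⟩
  have d2 : Nat.gcd n (q * (q - 1) + 1) ∣ 3 := by
    have e := Nat.eq_prime_pow_of_unique_prime_dvd (p := 3) (n := Nat.gcd n (q * (q - 1) + 1))
      (Nat.gcd_pos_of_pos_right n (Nat.succ_pos _)).ne'
      fun {p} pp pd => by
        have a1 := hp' p pp (pd.trans (Nat.gcd_dvd_left _ _))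
        have a2 := pd.trans (Nat.gcd_dvd_right _ _)
        zify [l1, (by omega : 1 ≤ q)] at a1 a2
        have : (p : ℤ) ∣ 3 := dv (dvd_sub a1 ((dvd_sub a1 a2).mul_left (q + 2))) (by ring)
        exact (Nat.prime_dvd_prime_iff_eq pp Nat.prime_three).1 (by exact_mod_cast this)
    have a := Nat.gcd_dvd_right n (q * (q - 1) + 1)
    generalize (Nat.gcd n _).primeFactorsList.length = k at e
    rw [e] at a ⊢
    rcases k with _ | _ | k
    · simp
    · simp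
    · have a9 := (pow_dvd_pow 3 (by omega : 2 ≤ k + 1 + 1)).trans a
      obtain ⟨z, rfl⟩ : ∃ z, q = z + 1 := ⟨q - 1, by omega⟩
      rw [Nat.add_sub_cancel, Nat.dvd_iff_mod_eq_zero, Nat.add_mod, Nat.mul_mod, Nat.add_mod z] at a9
      have := Nat.mod_lt z (by decide : 0 < 3 ^ 2)
      generalize z % 3 ^ 2 = w at this a9
      interval_cases w <;> simp at a9
  obtain ⟨c, hc⟩ := (Nat.dvd_mul_gcd_iff_dvd_mul.2 d1).trans (Nat.mul_dvd_mul_left _ d2)
  obtain ⟨x, rfl, e⟩ := num0 (q := q) (n := n) (A := q ^ 2) (by omega) hy (by rwa [← pow_succ'])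
  rcases Nat.eq_zero_or_pos x with rfl | x0
  · simp
  exfalso
  zify [l1] at hc
  obtain ⟨j, hj⟩ : ∃ j : ℤ, j = 3 * q - x * c := ⟨_, rfl⟩
  have e1 : (c : ℤ) = q * j - 3 := by rw [hj]; linear_combination -hc
  have e2 : (q : ℤ) * x * j + j = 3 * q + 3 * x := by rw [e1] at hj; linear_combination hj
  have b1 : (1 : ℤ) ≤ x := by omega
  have b3 : (4 : ℤ) ≤ q := by omega
  have j0 : 0 < j := by nlinarith [Int.natCast_nonneg c]
  have j3 : j ≤ 3 := by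
    by_contra n
    nlinarith [mul_nonneg (sub_nonneg.2 b1) (show (0 : ℤ) ≤ q * j - 3 from e1 ▸ Int.natCast_nonneg c)]
  push_cast at e
  interval_cases j
  · have d : (q : ℤ) - 3 ∣ 8 := ⟨x - 3, by linear_combination -e2⟩
    have := Int.le_of_dvd (by decide) d
    have q11 : q ≤ 11 := by omega
    obtain rfl : q = 4 := by interval_cases q <;> omega
    obtain rfl : x = 11 := by omega
    omega
  · have : (x : ℤ) ≤ 2 := by nlinarith
    have x2 : x ≤ 2 := by omega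
    interval_cases x
    · omega
    · obtain rfl : q = 4 := by omega
      omega
  · have : ((q : ℤ) - 1) * (x - 1) = 0 := mul_left_cancel₀ (a := 3) (by decide) (by linear_combination e2)
    obtain rfl : x = 1 := by rcases mul_eq_zero.1 this with h | h <;> omega
    have ey : (y : ℤ) = q ^ 2 - 2 * q + 2 := mul_left_cancel₀ (a := (q : ℤ) + 1) (by omega) (by
      push_cast at e; linear_combination e)
    obtain ⟨p, pp, pd⟩ := Nat.exists_prime_and_dvd (n := q * 1 + 1) (by omega)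
    have d := hp p pp pd
    have l : 1 ≤ q ^ 4 * y := Nat.mul_pos (by positivity) hy
    zify [l] at d pd
    rw [ey] at d
    have : (p : ℤ) ∣ 2 ^ 2 :=
      dv (dvd_sub d (pd.mul_left (q ^ 5 - 3 * q ^ 4 + 5 * q ^ 3 - 5 * q ^ 2 + 5 * q - 5))) (by ring)
    obtain rfl : p = 2 := (Nat.prime_dvd_prime_iff_eq pp Nat.prime_two).1 (pp.dvd_of_dvd_pow (by exact_mod_cast this))
    omega

end Cfsg.Agent.ZD
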