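import Cfsg.Agent.ZD.Loc
import Cfsg.Agent.ZD.Cn1

/-! # Numerology -/

set_option autoImplicit false
set_option linter.unusedVariables false
set_option linter.unusedSectionVars false

namespace Cfsg.Agent.ZD
open Cfsg Cfsg.Agent.BG Cfsg.Agent.Inv Cfsg.Agent.SE MulAction Subgroup PHom

theorem dcount {α β : Type*} {A : Set α} {B : Set β} (hA : A.Finite) (hB : B.Finite) (R : α → β → Prop) {m k : ℕ}
    (h1 : ∀ a ∈ A, {b ∈ B | R a b}.ncard = m) (h2 : ∀ b ∈ B, {a ∈ A | R a b}.ncard = k) :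
    A.ncard * m = B.ncard * k := by
  classical
  rw [Set.ncard_eq_toFinset_card A hA, Set.ncard_eq_toFinset_card B hB]
  refine Finset.card_mul_eq_card_mul R (fun a ha => ?_) fun b hb => ?_
  · rw [← h1 a (by simpa using ha), ← Set.ncard_coe_finset]; congr 1; ext; simp [Finset.bipartiteAbove]
  · rw [← h2 b (by simpa using hb), ← Set.ncard_coe_finset]; congr 1; ext; simp [Finset.bipartiteBelow]

theorem num4 {m m' q q' n v j : ℕ} (hm : 2 ≤ m') (hq : q = 2 ^ m) (hq' : q' = 2 ^ m') (h1 : q - 1 = n * (q' - 1))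
    (hn : n ≠ 0) (h2 : q ^ 3 + 1 ≤ v) (hj : j ≤ 3) (h3 : (v - (q' ^ j + 1)) * n = (q' ^ j + 1) * (q' - 1) * q' ^ j) :
    n = 1 := by
  by_contra n1
  have q4 : 4 ≤ q' := hq' ▸ (Nat.pow_le_pow_right (by decide) hm : 2 ^ 2 ≤ 2 ^ m')
  have q0 : 0 < q := by rw [hq]; positivity
  obtain ⟨x, rfl⟩ : ∃ x, q' = x + 1 := ⟨q' - 1, by omega⟩
  rw [Nat.add_sub_cancel] at h1 h3
  have e : q = n * x + 1 := by omega
  have d : x + 1 ∣ q := by
    rw [hq, hq']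
    refine pow_dvd_pow 2 ((Nat.pow_le_pow_iff_right (by decide : 1 < 2)).1 ?_)
    rw [← hq, ← hq', e]; nlinarith [Nat.pos_of_ne_zero hn]
  obtain ⟨n, rfl⟩ : ∃ k, n = k + 1 := ⟨n - 1, by omega⟩
  have d2 : x + 1 ∣ n := by
    have : x + 1 ∣ n * x := (Nat.dvd_add_left (dvd_refl (x + 1))).1 (by rw [e] at d; convert d using 1; ring)
    exact (Nat.Coprime.dvd_mul_right (by simp)).1 this
  have l1 := Nat.le_of_dvd (by omega) d2
  have l2 : (x + 1) ^ 2 ≤ q := by rw [e]; nlinarith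
  have l3 : ((x + 1) ^ 2) ^ 3 ≤ q ^ 3 := Nat.pow_le_pow_left l2 3
  have l4 : (x + 1) ^ j ≤ (x + 1) ^ 3 := Nat.pow_le_pow_right (by omega) hj
  generalize (x + 1) ^ j = F at h3 l4
  rw [← pow_mul, show 2 * 3 = 3 + 3 from rfl, pow_add] at l3
  have l5 : x + 2 ≤ (x + 1) ^ 3 := by nlinarith
  generalize (x + 1) ^ 3 = T at l3 l4 l5
  obtain ⟨w, hw⟩ : ∃ w, v = w + (F + 1) := ⟨v - (F + 1), by
    have : T ≤ T * T := Nat.le_mul_self T
    omega⟩
  rw [hw, Nat.add_sub_cancel] at h3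
  have a1 : T * T ≤ w + T := by omega
  have a2 : (F + 1) * x * F ≤ (T + 1) * x * T := by gcongr
  have a3 : w * (x + 2) ≤ w * (n + 1) := Nat.mul_le_mul_left _ (by omega)
  nlinarith

theorem num5 {v f f' k : ℕ} (h : v - (f + 1) = (f + 1) * k * f) (h' : v - (f' + 1) = (f' + 1) * k * f')
    (l : f + 1 ≤ v) (l' : f' + 1 ≤ v) : f = f' := by
  rcases lt_trichotomy f f' with e | e | e
  · have : (f + 1) * k * f ≤ (f' + 1) * k * f' := by gcongr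
    omega
  · exact e
  · have : (f' + 1) * k * f' ≤ (f + 1) * k * f := by gcongr
    omega

variable {G Ω : Type*} [Group G] [Finite G] [MulAction G Ω] {Z : Set G}
variable {M U X : Subgroup G} {a b c e : Ω} {r s s' t u v w : G} {q i p : ℕ}

theorem Iv_XZ (M : Subgroup G) (a : Ω) : Iv Z (XZ Z M) a = Iv Z M a :=
  Set.ext fun _ => ⟨fun h => ⟨XZ_le _ _ h.1, h.2⟩, fun h => ⟨mem_XZ h.1 h.2.1, h.2⟩⟩

theorem Loc.nI_succ (S : ZW Ω Z) (L : Loc Z (XZ Z M) a U q i) : nI Z M a + 1 = q := by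
  rw [← L.cardU, nI, ← Set.ncard_insert_of_notMem (fun h => S.ne_one h.2.1 rfl) (Set.toFinite _),
    ← Nat.card_coe_set_eq]
  congr 1
  exact congrArg _ (Set.ext fun g => by rw [← Iv_XZ]; exact (L.memU g).symm)

theorem ZW.conj_St (S : ZW Ω Z) (hM : ¬ M ≤ St G a) (hs : s ∈ Iv Z M a) (hs' : s' ∈ Iv Z M a) :
    ∃ m ∈ M, m • a = a ∧ m * s * m⁻¹ = s' := by
  obtain ⟨m, m1, m2⟩ := S.conj_in hs.2.1 hs.1 hs.2.2 hM hs'.2.1 hs'.1
  exact ⟨m, m1, S.uniq hs'.2.1 (m2 ▸ conj_smul_fix hs.2.2 m) hs'.2.2, m2⟩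

namespace CB
variable (S : CB Ω Z) (hr : Bad Z r)
include S hr

theorem comm' (hs : s ∈ Iv Z C1[r] a) (hs' : s' ∈ Iv Z C1[r] a) : s * s' = s' * s :=
  S.comm S.g1 (S.C1_ne_top (ne_one_of_ord2 hr.1)) (S.bad_nle hr a) hs hs'

theorem Iv_le (hu : u ∈ Iv Z C1[r] a) : Iv Z C1[r] a ⊆ Iv Z C1[r * u] a := fun s hs =>
  ⟨mem_C1.2 (by rw [← mul_assoc, mem_C1.1 hs.1, mul_assoc, S.comm' hr hs hu, mul_assoc]), hs.2⟩

theorem Iv_mul (hu : u ∈ Iv Z C1[r] a) : Iv Z C1[r * u] a = Iv Z C1[r] a := by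
  refine subset_antisymm ?_ (S.Iv_le hr hu)
  have := S.Iv_le (S.badMul hr hu.2.1 hu.1) (S.Iv_le hr hu hu)
  rwa [mul_assoc, S.sq hu.2.1, mul_one] at this

theorem conjB (ra : r • a = a) (hu : u ∈ Iv Z C1[r] a) : ∃ g : G, g • a = a ∧ g * r * g⁻¹ = r * u := by
  obtain ⟨y, y1, y2, y3, y4⟩ := S.four_mem hu.2.1 hu.1 hu.2.2 (S.bad_nle hr a) ((S.four_bad hr ra).mono inf_le_left)
  have hy : y ∈ Iv Z C1[r] a := ⟨y1, y2, S.fix_of_comm hu.2.1 hu.2.2 y4.symm⟩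
  have hz : u * y ∈ Iv Z C1[r] a := ⟨mul_mem hu.1 y1, S.mul hu.2.1 y2 y3.symm y4, by rw [mul_smul, hy.2.2, hu.2.2]⟩
  obtain ⟨m, m1, m2, m3⟩ := S.conj_St (S.bad_nle hr a) hy hu
  obtain ⟨n, n1, n2, n3⟩ := S.conj_St (S.bad_nle (S.badMul hr hu.2.1 hu.1) a) (S.Iv_le hr hu hu) (S.Iv_le hr hu hz)
  refine ⟨m * n, by rw [mul_smul, n2, m2], ?_⟩
  have e1 : n * r * n⁻¹ = r * y := by
    calc _ = n * (r * (u * u)) * n⁻¹ := by rw [S.sq hu.2.1, mul_one]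
      _ = n * (r * u) * n⁻¹ * (n * u * n⁻¹) := by group
      _ = r * (u * u) * y := by rw [mem_C1.1 n1, n3]; group
      _ = _ := by rw [S.sq hu.2.1, mul_one]
  calc _ = m * (n * r * n⁻¹) * m⁻¹ := by group
    _ = m * r * m⁻¹ * (m * y * m⁻¹) := by rw [e1]; group
    _ = _ := by rw [m3, mem_C1.1 m1, mul_inv_cancel_right]

theorem nI_fix (ra : r • a = a) (rb : r • b = b) : nI Z C1[r] a = nI Z C1[r] b :=
  S.nI_orb (((S.bad_orb hr ra b).2 rb).mono (XZ_le _ _))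

theorem fix_of_mem (hw : w ∈ Z) (h : w ∈ C1[r]) : ∃ e : Ω, w ∈ Iv Z C1[r] e ∧ r • e = e := by
  obtain ⟨e, he⟩ := S.ex hw
  exact ⟨e, ⟨h, hw, he⟩, S.fix_of_comm hw he (mem_C1.1 h).symm⟩

omit hr in
theorem sw_fix (rr : r * r = 1) (hw : w ∈ Sw Z C1[r] c (r • c)) : (r * w) • c = c ∧ (r * w) • r • c = r • c :=
  ⟨by rw [mul_smul, hw.2.2, ← mul_smul, rr, one_smul], by
    rw [← mem_C1.1 hw.1, mul_smul, ← mul_smul r, rr, one_smul, hw.2.2]⟩

theorem count1 (ra : r • a = a) (hc : r • c ≠ c) :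
    nI Z (⊤ : Subgroup G) a = (Sw Z C1[r] c (r • c)).ncard * nI Z C1[r] a := by
  have rr := mul_self_of_ord hr.1
  obtain ⟨s, hs⟩ := S.iv c
  rw [S.nI_eq a c, ← S.ncard_Sw' hc.symm hs (S.orb _ _), ← mul_one (Set.ncard _)]
  refine dcount (Set.toFinite _) (Set.toFinite _) (fun t w => t ∈ C1[r * w]) (fun t ht => ?_) fun w hw => ?_
  · have ev : Even (orderOf (r * t)) := Nat.not_odd_iff_even.1 fun o => by
      obtain ⟨k, hk⟩ := exists_zpow_conj_of_odd rr (S.sq ht.2.1) o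
      generalize (r * t) ^ k = x at hk
      have := S.conj' ht.2.1 x
      rw [← hk] at this
      exact hr.2 (by simpa [mul_assoc] using this)
    have key : ∀ w ∈ Sw Z C1[r] c (r • c), t ∈ C1[r * w] → r * w ∈ zpowers (r * t) := fun w hw h => by
      have o := S.odd_sw hc.symm (M := ⊤) ⟨trivial, hw.2⟩ ht
      have c1 : Commute (r * w) (w * t) := Commute.mul_right (by
        rw [Commute, SemiconjBy, ← mul_assoc, mem_C1.1 hw.1]) (mem_C1.1 h).symm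
      refine ⟨orderOf (w * t), ?_⟩
      change (r * t) ^ (orderOf (w * t) : ℤ) = _
      obtain ⟨j, hj⟩ := o
      rw [zpow_natCast, show r * t = r * w * (w * t) by rw [mul_assoc, ← mul_assoc w, S.sq hw.2.1, one_mul],
        c1.mul_pow, pow_orderOf_eq_one, mul_one, hj, pow_succ, pow_mul, pow_two,
        mul_self_of_ord (S.badMul hr hw.2.1 hw.1).1, one_pow, one_mul]
    obtain ⟨v1, v2, v3⟩ := s0209 r t hr.1 (S.ord ht.2.1) ev
    generalize orderOf (r * t) / 2 = n at v1 v2 v3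
    have f : r * t ∈ St2 G c (r • c) := ⟨by change _ • _ = _; rw [mul_smul, ht.2.2, ← mul_smul, rr, one_smul], by
      change _ • _ = _; rw [mul_smul, ← ht.2.2, S.ss ht.2.1, ht.2.2]⟩
    have fv := pow_mem f n
    have bv : Bad Z ((r * t) ^ n) := ⟨v1, fun h => S.not_mem h hc.symm le_rfl fv⟩
    have wZ : r * (r * t) ^ n ∈ Z := by
      rcases Nat.even_or_odd' n with ⟨m, rfl | rfl⟩
      · refine absurd ?_ (S.badMul bv ht.2.1 (mem_C1.2 v3.eq.symm)).2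
        have := S.conj ht.2.1 ((r * t) ^ m)
        rwa [← conj_pow_inv (inverts_right rr (S.sq ht.2.1)) m, ← mul_assoc, ← mul_assoc, mul_assoc _ t t, S.sq ht.2.1,
          mul_one, ← pow_add, ← Nat.two_mul, S.inv ht.2.1] at this
      · have := S.conj' ht.2.1 ((r * t) ^ m)
        rw [← conj_pow_inv (inverts_right rr (S.sq ht.2.1)) m, inv_mul_cancel_right, mul_assoc, ← pow_add,
          ← Nat.two_mul] at this
        rwa [pow_succ', ← mul_assoc, ← mul_assoc, rr, one_mul]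
    have hw : r * (r * t) ^ n ∈ Sw Z C1[r] c (r • c) :=
      ⟨mem_C1.2 (by rw [mul_assoc, v2.eq]), wZ, by rw [mul_smul, (fv.1 : _ • c = c)]⟩
    have h1 : t ∈ C1[r * (r * (r * t) ^ n)] := by rw [← mul_assoc, rr, one_mul]; exact mem_C1.2 v3.eq.symm
    refine Set.ncard_eq_one.2 ⟨_, Set.eq_singleton_iff_unique_mem.2 ⟨⟨hw, h1⟩, fun w h => mul_left_cancel (a := r) ?_⟩⟩
    have p : ∀ {x : G}, orderOf x = 2 → x ^ 2 = 1 := fun h => h ▸ pow_orderOf_eq_one _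
    have b1 := (S.badMul hr h.1.2.1 h.1.1).1
    have b2 := (S.badMul hr hw.2.1 hw.1).1
    exact Comp.eq_of_sq_of_cyclic (cyc_zpowers (r * t)) (key _ h.1 h.2) (key _ hw h1) (ne_one_of_ord2 b1)
      (ne_one_of_ord2 b2) (p b1) (p b2)
  · have bv := S.badMul hr hw.2.1 hw.1
    obtain ⟨f1, f2⟩ := S.sw_fix rr hw
    obtain ⟨e, he, re⟩ := S.fix_of_mem hr hw.2.1 hw.1
    obtain ⟨s, hs⟩ := S.bad_iv bv f1
    rw [show {t ∈ Sw Z ⊤ c (r • c) | t ∈ C1[r * w]} = Sw Z C1[r * w] c (r • c) from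
      Set.ext fun _ => ⟨fun h => ⟨h.2, h.1.2⟩, fun h => ⟨⟨trivial, h.2⟩, h.1⟩⟩,
      S.ncard_Sw' hc.symm hs (((S.bad_orb bv f1 _).2 f2).mono (XZ_le _ _)),
      S.nI_fix bv f1 (b := e) (by rw [mul_smul, he.2.2, re]), S.nI_fix hr ra re, nI, S.Iv_mul hr he, nI]

theorem count2 (ra : r • a = a) {n : ℕ} (hn : ∀ c : Ω, r • c ≠ c → (Sw Z C1[r] c (r • c)).ncard = n) :
    (Nat.card Ω - (fixedBy Ω r).ncard) * n =
      (fixedBy Ω r).ncard * nI Z C1[r] a * ((fixedBy Ω r).ncard - 1) := by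
  haveI := S.finite
  have rr := mul_self_of_ord hr.1
  have e1 : {w | w ∈ C1[r] ∧ w ∈ Z}.ncard * 1 = (fixedBy Ω r).ncard * nI Z C1[r] a :=
    dcount (Set.toFinite _) (Set.toFinite _) (fun w e => w • e = e) (fun w hw => by
      obtain ⟨e, he, re⟩ := S.fix_of_mem hr hw.2 hw.1
      exact Set.ncard_eq_one.2 ⟨e, Set.eq_singleton_iff_unique_mem.2 ⟨⟨re, he.2.2⟩, fun d hd =>
        S.uniq hw.2 hd.2 he.2.2⟩⟩) fun e he => by
      rw [S.nI_fix hr ra he, nI]; congr 1; exact Set.ext fun _ => and_assoc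
  rw [← e1, mul_one, ← Set.ncard_compl]
  refine dcount (Set.toFinite _) (Set.toFinite _) (fun c w => w • c = r • c) (fun c hc => ?_) fun w hw => ?_
  · rw [← hn c hc]; congr 1; exact Set.ext fun _ => and_assoc
  · obtain ⟨e, he, re⟩ := S.fix_of_mem hr hw.2 hw.1
    obtain ⟨g, -, hg⟩ := S.conjB hr re he
    have f : ∀ c : Ω, (r * w) • c = c ↔ w • c = r • c := fun c => by
      rw [mul_smul, smul_eq_iff_eq_inv_smul, inv_eq_of_mul_eq_one_right rr]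
    rw [show {c ∈ (fixedBy Ω r)ᶜ | w • c = r • c} = fixedBy Ω (r * w) \ {e} from Set.ext fun c =>
      ⟨fun h => ⟨(f c).2 h.2, fun h' => h.1 (by rw [h']; exact re)⟩, fun h => ⟨fun h' => h.2
        (S.uniq hw.2 (((f c).1 h.1).trans h') he.2.2), (f c).1 h.1⟩⟩,
      Set.ncard_diff_singleton_of_mem (show e ∈ fixedBy Ω (r * w) from (f e).2 (he.2.2.trans re.symm)), ← hg, ← smul_fixedBy, Set.ncard_smul_set]

theorem data (ra : r • a = a) : ∃ U q i n, Loc Z (XZ Z C1[r]) a U q i ∧ nI Z C1[r] a + 1 = q ∧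
    (fixedBy Ω r).ncard = q ^ i + 1 ∧ nI Z (⊤ : Subgroup G) a = n * (q - 1) ∧
    (Nat.card Ω - (q ^ i + 1)) * n = (q ^ i + 1) * (q - 1) * q ^ i ∧
    (i = 3 → ∀ p : ℕ, p.Prime → p ∣ n → p ∣ q ^ 2 - 1) := by
  obtain ⟨U, q, i, L, h3⟩ := (S.toBT (S.C1_ne_top (ne_one_of_ord2 hr.1)) (S.four_bad hr ra) (S.bad_nle hr a)).loc S.g1
  have h1 := L.nI_succ S.toZW
  have h2 : (fixedBy Ω r).ncard = q ^ i + 1 := by
    rw [← L.card]; congr 1; exact Set.ext fun c => (orb_iff.symm.trans (S.bad_orb hr ra c)).symm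
  obtain ⟨c, hc⟩ : ∃ c : Ω, r • c ≠ c := by_contra fun h => ne_one_of_ord2 hr.1 (S.eq_one (by simpa using h))
  have e : nI Z C1[r] a = q - 1 := by omega
  have p0 := zero_lt_one.trans (S.one_lt_nI (S.four_bad hr ra))
  have c2 := S.count2 hr ra (n := (Sw Z C1[r] c (r • c)).ncard) fun d hd =>
    Nat.eq_of_mul_eq_mul_right p0 ((S.count1 hr ra hd).symm.trans (S.count1 hr ra hc))
  rw [h2, e, Nat.add_sub_cancel] at c2
  refine ⟨U, q, i, _, L, h1, h2, e ▸ S.count1 hr ra hc, c2, fun hi p hp hd => ?_⟩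
  obtain ⟨z₀, hz₀⟩ := S.exZ
  obtain ⟨z, z1, z2, z3⟩ := S.sw_cent S.tr hz₀ (mul_self_of_ord hr.1) hc
  rw [← z3] at hd hc
  rw [S.ncard_Sw z2 z1 hc] at hd
  have nz := (S.isnM z2 z1 hc).normO
  obtain ⟨P, hP, tP, -⟩ := exists_syl_inv (S.ord z2) (odd_O _) nz hp bot_le (pig_bot _) (norm_bot ⊤ (mem_top _))
  obtain ⟨k, hk, k1⟩ := exists_inv_of_lt (t := z) (X := P) (by
    rw [kc_syl (S.ord z2) (odd_O _) nz hp hP tP]; exact (one_lt_pp hp (kc_pos _ _).ne').2 hd)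
  have ok := odd_ord_of_mem (odd_O _) (hP.le hk.1)
  have kZ := (S.mul_inv z2 ok hk.2).2
  have pk := (hP.pi.elt hk.1).dvd k1
  exact h3 hi _ (mem_XZ (mul_mem (O_le _ _ (hP.le hk.1)).1 z1) kZ) _ (mem_XZ z1 z2) kZ z2 p hp
    (by rintro rfl; exact ok.not_two_dvd_nat pk) (by rwa [mul_assoc, S.sq z2, mul_one])

theorem dvd_card (ab : a ≠ b) (ra : r • a = a) (rb : r • b = b) (L : Loc Z (XZ Z C1[r]) a U q i)
    (hf : (fixedBy Ω r).ncard = q ^ i + 1) (ho : Odd (C1[r].relIndex (St2 G a b))) : q ^ (i + 1) ∣ Nat.card Ω - 1 := by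
  haveI := S.finite
  have rr := mul_self_of_ord hr.1
  have mU : ∀ g, g ∈ U ↔ g = 1 ∨ g ∈ Iv Z C1[r] a := fun g => by rw [L.memU, Iv_XZ]
  let B : Subgroup G :=
    { carrier := {h | h ∈ St G a ⊓ N[U] ∧ r * (h * r * h⁻¹) ∈ U}
      one_mem' := ⟨one_mem _, by simp [rr]⟩
      mul_mem' := fun {x y} hx hy => ⟨mul_mem hx.1 hy.1, by
        have := mul_mem hx.2 (conj_mem hx.1.2 hy.2)
        rwa [show r * (x * r * x⁻¹) * (x * (r * (y * r * y⁻¹)) * x⁻¹) = r * (x * (r * r) * y * r * (x * y)⁻¹) by group,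
          rr, mul_one] at this⟩
      inv_mem' := fun {x} hx => ⟨inv_mem hx.1, by
        have := conj_mem' hx.1.2 (inv_mem hx.2)
        rwa [show x⁻¹ * (r * (x * r * x⁻¹))⁻¹ * x = r⁻¹ * (x⁻¹ * r⁻¹ * x⁻¹⁻¹) by group,
          inv_eq_of_mul_eq_one_right rr] at this⟩ }
  have nU : ∀ g : G, ∀ u ∈ U, g • a = a → g * r * g⁻¹ = r * u → g ∈ B := fun g u hu ga e =>
    ⟨⟨ga, mem_N_of fun x hx => by
      rcases (mU x).1 hx with rfl | hx
      · simp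
      have : g * x * g⁻¹ ∈ Iv Z C1[r * u] a := ⟨by rw [← e, ← cj_C1]; exact mem_cj_conj.2 hx.1, S.conj hx.2.1 g,
        ga ▸ conj_smul_fix hx.2.2 g⟩
      rcases (mU u).1 hu with rfl | hu
      · rw [mul_one] at this; exact (mU _).2 (.inr this)
      · rw [S.Iv_mul hr hu] at this; exact (mU _).2 (.inr this)⟩, by rwa [e, ← mul_assoc, rr, one_mul]⟩
  have e1 := card_conj B r
  rw [show {x | ∃ d ∈ B, d * r * d⁻¹ = x} = (fun u => r * u) '' U from Set.ext fun x => ⟨by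
      rintro ⟨d, hd, rfl⟩; exact ⟨_, hd.2, by simp [← mul_assoc, rr]⟩, by
      rintro ⟨u, hu, rfl⟩
      rcases (mU u).1 hu with rfl | hu'
      · exact ⟨1, one_mem _, by simp⟩
      · obtain ⟨g, g1, g2⟩ := S.conjB hr ra hu'
        exact ⟨g, nU g u hu g1 g2, g2⟩⟩,
    Set.ncard_image_of_injective _ (mul_right_injective r), ← Nat.card_coe_set_eq, SetLike.coe_sort_coe, L.cardU,
    show B ⊓ C1[r] = St G a ⊓ C1[r] from le_antisymm (fun x hx => ⟨hx.1.1.1, hx.2⟩) fun x hx =>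
      ⟨nU x 1 (one_mem _) hx.1 (by rw [mem_C1.1 hx.2]; simp), hx.2⟩,
    ← card_inf_mul_relIndex (St G b) (St G a ⊓ C1[r]), relIndex_stab,
    show orbit ↥(St G a ⊓ C1[r]) b = fixedBy Ω r \ {a} from Set.ext fun c => ⟨by
      rintro ⟨x, rfl⟩
      refine ⟨?_, fun e => ab (smul_left_cancel (x : G) ((x.2.1 : _ • a = a).trans e.symm))⟩
      change r • (x : G) • b = (x : G) • b
      rw [← mul_smul, ← mem_C1.1 x.2.2, mul_smul, rb], fun h => by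
      obtain ⟨x, hx, e⟩ := L.trans b c ((S.bad_orb hr ra b).2 rb) ((S.bad_orb hr ra c).2 h.1) ab.symm h.2
      exact ⟨⟨x, (O_le _ _ hx).2, XZ_le _ _ (O_le _ _ hx).1⟩, e⟩⟩,
    Set.ncard_diff_singleton_of_mem (show a ∈ fixedBy Ω r from ra), hf, Nat.add_sub_cancel] at e1
  have e2 := card_inf_mul_relIndex (St G b) (St G a)
  rw [relIndex_stab, show orbit ↥(St G a) b = {a}ᶜ from Set.ext fun c => ⟨by
      rintro ⟨x, rfl⟩ e
      exact ab (smul_left_cancel (x : G) ((x.2 : _ • a = a).trans e.symm)), fun h => by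
      obtain ⟨g, g1, g2⟩ := S.tr2 a b a c ab (Ne.symm h)
      exact ⟨⟨g, g1⟩, g2⟩⟩, Set.ncard_compl, Set.ncard_singleton, inf_comm,
    ← card_inf_mul_relIndex C1[r] (St G a ⊓ St G b),
    ← card_mul_relIndex (show B ≤ St G a from fun x hx => hx.1.1), e1,
    show St G b ⊓ (St G a ⊓ C1[r]) = C1[r] ⊓ (St G a ⊓ St G b) by ac_rfl, mul_assoc, mul_assoc, mul_assoc] at e2
  obtain ⟨m, -, rfl⟩ := L.pow
  refine (Nat.Coprime.pow_left _ (Nat.Coprime.pow_left _ (Nat.coprime_two_left.2 ho))).dvd_of_dvd_mul_left ?_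
  rw [St2, Nat.eq_of_mul_eq_mul_left (card_pos _) e2, pow_succ, ← mul_assoc]
  exact dvd_mul_right _ _

theorem num : ∃ q i, CN Ω Z q i := by
  haveI := S.finite
  obtain ⟨a, b, ab, ra, rb⟩ := S.two hr
  obtain ⟨T, hT⟩ := syl_exists Nat.prime_two (St2 G a b)
  have T1 : T ≠ ⊥ := hT.ne_bot' Nat.prime_two (hr.1 ▸ orderOf_dvd_natCard _ ⟨ra, rb⟩)
  obtain ⟨r₀, h1, h2⟩ := cauchy Nat.prime_two ((hT.pi.of_le inf_le_left).dvd (hT.pi.nil.Z_ne_bot T1))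
  have D0 := hT.le h1.1
  have b0 : Bad Z r₀ := ⟨h2, fun h => ab (S.uniq h D0.1 D0.2)⟩
  obtain ⟨U, q, i, n, L, e1, e2, e3, e4, e5⟩ := S.data b0 D0.1
  obtain ⟨y, hy⟩ := S.dvd_card b0 ab D0.1 D0.2 L e2 (Nat.coprime_two_right.1
    ((pin_compl_cop Nat.prime_two).1 (hT.idx.of_dvd (relIndex_dvd_left (le_C1_iff.2 h1.2) _))))
  obtain ⟨m, m2, hq⟩ := L.pow
  have q4 : 4 ≤ q := hq ▸ (Nat.pow_le_pow_right (by decide) m2 : 2 ^ 2 ≤ 2 ^ m)
  have v1 : 1 < Nat.card Ω := haveI := S.nt; Finite.one_lt_card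
  have y1 : 1 ≤ y := Nat.pos_of_ne_zero (by rintro rfl; omega)
  have qi : 0 < q ^ i := by positivity
  have e6 : n * (q * y - 1) = (q - 1) * (q ^ i + 1) := by
    refine Nat.eq_of_mul_eq_mul_right qi ?_
    rw [mul_comm (q - 1), ← e4, Nat.sub_add_eq, Nat.sub_right_comm, hy, mul_assoc, Nat.sub_mul, mul_comm n]
    congr 2 <;> ring
  have pv : ∀ p, p.Prime → p ∣ n → p ∣ q ^ (i + 1) * y - 1 := fun p hp hd => by
    rw [← hy]; exact S.pv a p hp (e3 ▸ hd.mul_right _)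
  have i1 : 1 ≤ i ∧ i ≤ 3 := by rcases L.cases with e | ⟨e, -⟩ | ⟨e, -⟩ <;> omega
  obtain rfl : n = 1 := by
    rcases L.cases with rfl | ⟨rfl, -⟩ | ⟨rfl, -⟩
    · refine (num1 m2 hq y1 (by simpa using e6)).resolve_right ?_
      rintro ⟨rfl, rfl⟩
      refine S.caseI (a := a) (m := 2 * m) ?_ ?_ hr
      · rw [pow_mul', ← hq]; norm_num at hy; omega
      · obtain ⟨x, rfl⟩ : ∃ x, q = x + 1 := ⟨q - 1, by omega⟩
        rw [pow_mul', ← hq, e3, Nat.add_sub_cancel]; ring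
    · exact num2 m2 hq y1 e6 pv
    · exact num3 m2 hq y1 e6 pv (e5 rfl)
  rw [mul_one] at e4
  rw [one_mul] at e3
  have lf : ∀ r : G, (fixedBy Ω r).ncard ≤ Nat.card Ω := fun r => Set.ncard_le_card _
  have cΩ : Nat.card Ω = q ^ i + 1 + (q - 1) * (q ^ i + 1) * q ^ i := by
    have := lf r₀; rw [mul_comm (q - 1), ← e4]; omega
  have big : q ^ 3 + 1 ≤ Nat.card Ω := by
    have : q ≤ q ^ i := Nat.le_self_pow (by omega) q
    rw [cΩ]
    obtain ⟨x, rfl⟩ : ∃ x, q = x + 1 := ⟨q - 1, by omega⟩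
    rw [Nat.add_sub_cancel]
    calc (x + 1) ^ 3 + 1 = (x + 1) + 1 + x * ((x + 1) + 1) * (x + 1) := by ring
      _ ≤ _ := by gcongr
  have all : ∀ (r : G) (c : Ω), Bad Z r → r • c = c →
      nI Z (⊤ : Subgroup G) c = nI Z C1[r] c ∧ (fixedBy Ω r).ncard = q ^ i + 1 := fun r c hr rc => by
    obtain ⟨U', q', j, n, L', f1, f2, f3, f4, -⟩ := S.data hr rc
    obtain ⟨m', m2', hq'⟩ := L'.pow
    have f5 : q - 1 = n * (q' - 1) := by rw [← e3, S.nI_eq a c, f3]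
    obtain rfl := num4 m2' hq hq' f5 (by rintro rfl; omega) big
      (by rcases L'.cases with e | ⟨e, -⟩ | ⟨e, -⟩ <;> omega) f4
    obtain rfl : q = q' := by omega
    rw [mul_one] at f4
    exact ⟨by omega, by rw [f2, num5 e4 f4 (e2 ▸ lf r₀) (f2 ▸ lf r)]⟩
  refine ⟨q, i, S, fun r c hr rc s hs => ?_, fun r hr => ?_, cΩ, r₀, a, U, b0, D0.1, L⟩
  · have := Set.eq_of_subset_of_ncard_le (s := Iv Z C1[r] c) (t := Iv Z ⊤ c) (fun _ h => ⟨trivial, h.2⟩)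
      (all r c hr rc).1.le (Set.toFinite _)
    exact (this ▸ hs).1
  · obtain ⟨c, -, -, rc, -⟩ := S.two hr
    exact (all r c hr rc).2

end CB

end Cfsg.Agent.ZD
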