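import Cfsg.Agent.ZD.A1

/-! # The key trick, Part B, and the structures `CB`, `CN` of the end game -/

set_option autoImplicit false
set_option linter.unusedVariables false
set_option linter.unusedSectionVars false

namespace Cfsg.Agent.ZD
open Cfsg Cfsg.Agent.BG Cfsg.Agent.Inv Cfsg.Agent.SE MulAction Subgroup PHom

section Defs
variable {G : Type*} [Group G]

/-- base of the end game -/
structure CB (Ω : Type*) [MulAction G Ω] (Z : Set G) : Prop extends MC Ω Z where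
  g1 : G1 Ω Z
  tr2 : Tr2 G Ω
  pv : ∀ (a : Ω) (p : ℕ), p.Prime → p ∣ nI Z (⊤ : Subgroup G) a → p ∣ Nat.card Ω - 2

/-- result of the numerology -/
structure CN (Ω : Type*) [MulAction G Ω] (Z : Set G) (q i : ℕ) : Prop extends CB Ω Z where
  centI : ∀ (r : G) (c : Ω), Bad Z r → r • c = c → ∀ s ∈ Iv Z (⊤ : Subgroup G) c, s ∈ C1[r]
  cardF : ∀ r, Bad Z r → (fixedBy Ω r).ncard = q ^ i + 1
  cardΩ : Nat.card Ω = q ^ i + 1 + (q - 1) * (q ^ i + 1) * q ^ i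
  base : ∃ (r : G) (a : Ω) (U : Subgroup G), Bad Z r ∧ r • a = a ∧ Loc Z (XZ Z C1[r]) a U q i

end Defs

variable {G Ω : Type*} [Group G] [Finite G] [MulAction G Ω] {Z : Set G}
variable {M N P X Y : Subgroup G} {a b c d e : Ω} {t s s' u k g w r z : G} {p : ℕ}

theorem finite_of_tr (tr : ∀ a b : Ω, ∃ g : G, g • a = b) : Finite Ω := by
  rcases isEmpty_or_nonempty Ω with h | ⟨⟨a⟩⟩
  · infer_instance
  · exact Finite.of_surjective (fun g : G => g • a) fun d => tr a d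

/-- number of fixed points of an element of prime order, modulo the prime -/
theorem card_modEq_fix [Finite Ω] (hp : p.Prime) (hg : g ^ p = 1) : Nat.card Ω ≡ (fixedBy Ω g).ncard [MOD p] := by
  have := ncard_modEq (Set.toFinite (Set.univ : Set Ω)) (f := fun c => g • c) (fun _ _ => trivial) hp fun c _ => by
    rw [smul_iterate]; change g ^ p • c = c; rw [hg, one_smul]
  rwa [Set.ncard_univ, show {y ∈ (Set.univ : Set Ω) | g • y = y} = fixedBy Ω g from by ext; simp] at this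

namespace ZW
variable (S : ZW Ω Z) (tr : ∀ a b : Ω, ∃ g : G, g • a = b)
include S tr

theorem odd_card (hz : z ∈ Z) : Odd (Nat.card Ω) := by
  haveI := finite_of_tr tr
  obtain ⟨c, hc⟩ := S.ex hz
  have := card_modEq_fix (Ω := Ω) Nat.prime_two (g := z) (by rw [pow_two, S.sq hz])
  rw [show fixedBy Ω z = {c} from Set.eq_singleton_iff_unique_mem.2 ⟨hc, fun d hd => S.uniq hz hd hc⟩,
    Set.ncard_singleton] at this
  exact Nat.odd_iff.2 this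

theorem exists_fix (hz : z ∈ Z) (hr : r * r = 1) : ∃ c : Ω, r • c = c := by
  haveI := finite_of_tr tr
  have := card_modEq_fix (Ω := Ω) Nat.prime_two (g := r) (by rw [pow_two, hr])
  refine Set.nonempty_of_ncard_ne_zero (s := fixedBy Ω r) fun e => ?_
  rw [e] at this
  exact (S.odd_card tr hz).not_two_dvd_nat ((Nat.modEq_zero_iff_dvd).1 this)

theorem iv_top (hz : z ∈ Z) (a : Ω) : ∃ s, s ∈ Iv Z (⊤ : Subgroup G) a := by
  obtain ⟨c, hc⟩ := S.ex hz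
  obtain ⟨g, hg⟩ := tr c a
  exact S.exists_iv hz (mem_top _) hc ⟨g, trivial, hg⟩

/-- an involution fixing `a` centralizes a member of `Z` fixing `a` -/
theorem iv_cent (hz : z ∈ Z) (ab : a ≠ b) (hr : r * r = 1) (ra : r • a = a) : ∃ s, s ∈ Iv Z C1[r] a := by
  obtain ⟨s, hs⟩ := S.iv_top tr hz a
  obtain ⟨g, hg⟩ := tr a b
  obtain ⟨u, hu, e⟩ := S.exists_iv_cent hs (fun e => ab ((e (mem_top g)).symm.trans hg)) hr
    (normG _ (mem_top _)) ra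
  exact ⟨u, mem_C1.2 e.symm, hu.2⟩

theorem C1_nle (hz : z ∈ Z) (ab : a ≠ b) (hr : r * r = 1) (ra : r • a = a) (rb : r • b = b) (c : Ω) :
    ¬ C1[r] ≤ St G c := fun e => by
  obtain ⟨s, hs⟩ := S.iv_cent tr hz ab hr ra
  obtain ⟨u, hu⟩ := S.iv_cent tr hz ab.symm hr rb
  exact ab ((S.uniq hs.2.1 hs.2.2 (e hs.1)).trans (S.uniq hu.2.1 (e hu.1) hu.2.2))

theorem sw_cent (hz : z ∈ Z) (hr : r * r = 1) (re : r • e ≠ e) : ∃ w, w ∈ Sw Z C1[r] e (r • e) := by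
  obtain ⟨c, hc⟩ := S.ex hz
  have o : ∀ d, Orb (⊤ : Subgroup G) c d := fun d => (tr c d).imp fun _ h => ⟨trivial, h⟩
  obtain ⟨w, hw⟩ := S.swap_in hz (mem_top _) hc (o e) (o (r • e)) re.symm
  obtain ⟨u, hu, h⟩ := S.exists_sw_cent re.symm (M := ⊤) hw hr (normG _ (mem_top _))
    (.inr ⟨rfl, by rw [← mul_smul, hr, one_smul]⟩)
  exact ⟨u, mem_C1.2 h.symm, hu.2⟩

/-- the key trick -/
theorem key (hr : r * r = 1) (ab : a ≠ b) (ra : r • a = a) (rb : r • b = b) (re : r • e ≠ e) (hz : z ∈ Z)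
    (zr : z ∈ C1[r]) : ∃ c d : Ω, c ≠ d ∧ (r * z) • c = c ∧ (r * z) • d = d := by
  obtain ⟨w, w1, w2, w3⟩ := S.sw_cent tr hz hr re
  obtain ⟨c, hc⟩ := S.ex w2
  obtain ⟨m, hm, rfl⟩ := S.conj_in w2 w1 hc (S.C1_nle tr hz ab hr ra rb c) hz zr
  have e1 : r * (m * w * m⁻¹) = m * (r * w) * m⁻¹ := by rw [← mul_assoc, ← mul_assoc, ← mem_C1.1 hm]; group
  have rr : ∀ x : Ω, r • r • x = x := fun x => by rw [← mul_smul, hr, one_smul]
  refine ⟨m • e, m • r • e, fun h => re (smul_left_cancel m h).symm, e1 ▸ conj_smul_fix ?_ m, e1 ▸ conj_smul_fix ?_ m⟩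
  · rw [mul_smul, w3, rr]
  · rw [← mem_C1.1 w1, mul_smul, rr, w3]

variable (fa : ∀ g : G, (∀ c : Ω, g • c = c) → g = 1)
include fa

/-- an involution outside `Z` fixes two points -/
theorem bad_two [Nontrivial Ω] (hz : z ∈ Z) (hr : Bad Z r) : ∃ a b : Ω, a ≠ b ∧ r • a = a ∧ r • b = b := by
  have rr := mul_self_of_ord hr.1
  obtain ⟨c, hc⟩ := S.exists_fix tr hz rr
  by_contra hn
  obtain ⟨d, dc⟩ := exists_ne c
  obtain ⟨s, -, sZ, sd⟩ := S.iv_top tr hz d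
  have ev : Even (orderOf (s * r)) := Nat.not_odd_iff_even.1 fun o => by
    obtain ⟨k, hk⟩ := exists_zpow_conj_of_odd (S.sq sZ) rr o
    exact hr.2 (hk ▸ S.conj sZ _)
  obtain ⟨v1, v2, v3⟩ := s0209 s r (S.ord sZ) hr.1 ev
  generalize orderOf (s * r) / 2 = n at v1 v2 v3
  have vc : (s * r) ^ n • c = c := by_contra fun h => hn ⟨_, _, h, by rw [← mul_smul, ← v3.eq, mul_smul, hc], hc⟩
  obtain ⟨e, he⟩ : ∃ e : Ω, (s * r) ^ n • e ≠ e := by_contra fun h => ne_one_of_ord2 v1 (fa _ (by simpa using h))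
  obtain ⟨x, y, xy, hx, hy⟩ := S.key tr (mul_self_of_ord v1) dc (S.fix_of_comm sZ sd v2.eq) vc he sZ (mem_C1.2 v2.eq.symm)
  rw [v2.eq] at hx hy
  rcases Nat.even_or_odd' n with ⟨m, rfl | rfl⟩
  · have := S.conj' sZ ((s * r) ^ m)
    rw [← conj_pow_inv (inverts_left (S.sq sZ) rr) m, inv_mul_cancel_right, mul_assoc, ← pow_add, ← two_mul] at this
    exact xy (S.uniq this hx hy)
  · have e1 : s * (s * r) ^ (2 * m + 1) = ((s * r) ^ m)⁻¹ * r * (s * r) ^ m := by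
      rw [← conj_pow_inv (inverts_right (S.sq sZ) rr) m, inv_mul_cancel_right, mul_assoc, ← pow_add, ← two_mul,
        pow_succ', ← mul_assoc, ← mul_assoc, S.sq sZ, one_mul]
    rw [e1, mul_smul, mul_smul, inv_smul_eq_iff] at hx hy
    exact hn ⟨_, _, fun h => xy (smul_left_cancel _ h), hx, hy⟩

theorem toZF [Nontrivial Ω] : ZF Ω Z := ⟨S, fun {s u} hs hu n c => by_contra fun h => by
  obtain ⟨a, b, ab, h1, h2⟩ := S.bad_two tr fa hs (r := s * u) ⟨ord2_iff.2 ⟨by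
    rw [mul_assoc, ← mul_assoc u, ← c, mul_assoc, S.sq hu, mul_one, S.sq hs], fun e => n (by
      rw [← S.inv hs]; exact inv_eq_of_mul_eq_one_right e)⟩, h⟩
  exact ab (S.one hs hu n c h1 h2)⟩

theorem bad_mul [Nontrivial Ω] (hr : Bad Z r) (hz : z ∈ Z) (zr : z ∈ C1[r]) : Bad Z (r * z) := by
  obtain ⟨a, b, ab, h1, h2⟩ := S.bad_two tr fa hz hr
  have rr := mul_self_of_ord hr.1
  obtain ⟨e, he⟩ : ∃ e : Ω, r • e ≠ e := by_contra fun h => ne_one_of_ord2 hr.1 (fa _ (by simpa using h))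
  obtain ⟨x, y, xy, hx, hy⟩ := S.key tr rr ab h1 h2 he hz zr
  refine ⟨ord2_iff.2 ⟨?_, fun e => hr.2 ?_⟩, fun h => xy (S.uniq h hx hy)⟩
  · rw [mul_assoc, ← mul_assoc z, mem_C1.1 zr, mul_assoc, S.sq hz, mul_one, rr]
  · rw [eq_inv_of_mul_eq_one_left e, S.inv hz]; exact hz

end ZW

namespace ZW
variable (S : ZW Ω Z) (h : G1 Ω Z)
include S h

theorem le_C1_of_g1 (oY : Odd #Y) (hu : u ∈ Z) (ue : u • e = e) (de : d ≠ e) (h1 : u ∈ N[Y])
    (h2 : Y ≤ St G d) (h3 : Y ≤ St G e) : Y ≤ C1[u] := by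
  by_contra hn
  obtain ⟨k, hk, k1⟩ := exists_inv_ne (S.ord hu) oY h1 hn
  exact k1 (h u k d e hu ue (odd_ord_of_mem oY hk.1) hk.2 (h3 hk.1) (h2 hk.1) de)

/-- under (G1) a subgroup of rank one moving `c` has only one member of `Z` fixing `c` -/
theorem nI_eq_one (ht : t ∈ Iv Z M c) (hM : ¬ M ≤ St G c) (h4 : ¬ FourZ Z M) (hu : u ∈ Iv Z M c) : u = t := by
  obtain ⟨htM, ht, hc⟩ := ht
  have nO := O_norm {2}ᶜ M
  have Oc : ¬ O[{2}ᶜ](M) ≤ St G c := fun e => hM fun m hm => by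
    obtain ⟨o, ho, h⟩ := S.rk1_trans h4 ht htM hc (orb_smul hm c)
    exact h.symm.trans (e ho)
  obtain ⟨N, -, ⟨h1, h2, h3⟩, hm⟩ := exists_minimal
    (P := fun N : Subgroup G => N ≤ O[{2}ᶜ](M) ∧ M ≤ N[N] ∧ ¬ N ≤ St G c) ⟨le_rfl, nO, Oc⟩
  have oN := odd_of_le (odd_O M) h1
  have nn : N ≤ N[N ⊓ St G c] := norm_of_der_le (le_inf (der_le _) (by
    by_contra hn
    exact ((sol_of_odd oN).der_lt (fun e => h3 (e ▸ bot_le))).ne
      (hm _ ⟨(der_le _).trans h1, normD h2, hn⟩ (der_le _)))) inf_le_left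
  obtain ⟨f, hf, fc⟩ := SetLike.not_le_iff_exists.1 h3
  have fx := S.tc_fix ht hc oN (h2 htM) nn (odd_of_le (odd_O M) inf_le_left) inf_le_right
    ((inf_le_left.trans (O_le _ _)).trans h2) hf
  have i := inverts_left (S.sq ht) (S.sq hu.2.1)
  have c1 : t * u ∈ St G c := mul_mem (hc : t ∈ St G c) hu.2.2
  have m := S.rk1_mul h4 ht htM hu.2.1 hu.1
  have := h t (t * u) (f • c) c ht hc (odd_ord_of_mem (odd_O _) m) i c1 (fx (mem_tc ⟨⟨m, c1⟩, i⟩)) fc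
  rw [← S.inv ht]; exact (inv_eq_of_mul_eq_one_right this).symm

end ZW

theorem BT.comm2 (S : BT Z X a) (h : G1 Ω Z) (hs : s ∈ Iv Z X b) (hs' : s' ∈ Iv Z X b) : s * s' = s' * s := by
  have c := S.comm hs hs'
  have hb := S.orb hs.2.1 hs.1 hs.2.2
  obtain ⟨d, h1, h2⟩ := S.exists_ne hb
  have := h s _ d b hs.2.1 hs.2.2 (odd_ord_of_mem (odd_O _) c) (by
    rw [← conj_mul, inverts_left (S.sq hs.2.1) (S.sq hs'.2.1), ← mul_inv_rev]) ((O_le _ _ c).2 b hb)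
    ((O_le _ _ c).2 d h1) h2
  calc s * s' = (s * s')⁻¹ := eq_inv_of_mul_eq_one_left this
    _ = _ := by rw [mul_inv_rev, S.inv hs.2.1, S.inv hs'.2.1]

namespace MC
variable (S : MC Ω Z)
include S

theorem finite : Finite Ω := finite_of_tr S.tr

theorem exZ : ∃ z, z ∈ Z := let ⟨t, _, h, _⟩ := S.exists_inv; ⟨t, h⟩

theorem C1_ne_top (h : g ≠ 1) : C1[g] ≠ ⊤ := fun e => h (S.eq_one fun c => by
  obtain ⟨s, hs⟩ := S.iv c
  exact S.fix_of_comm hs.2.1 hs.2.2 (mem_C1.1 (e.ge (mem_top s))).symm)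

theorem two (hr : Bad Z r) : ∃ a b : Ω, a ≠ b ∧ r • a = a ∧ r • b = b := by
  haveI := S.nt
  obtain ⟨z, hz⟩ := S.exZ
  exact S.bad_two S.tr (fun _ => S.eq_one) hz hr

theorem badMul (hr : Bad Z r) (hz : z ∈ Z) (zr : z ∈ C1[r]) : Bad Z (r * z) :=
  haveI := S.nt
  S.bad_mul S.tr (fun _ => S.eq_one) hr hz zr

theorem bad_iv (hr : Bad Z r) (ra : r • a = a) : ∃ s, s ∈ Iv Z C1[r] a := by
  haveI := S.nt
  obtain ⟨z, hz⟩ := S.exZ
  obtain ⟨b, hb⟩ := exists_ne a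
  exact S.iv_cent S.tr hz hb.symm (mul_self_of_ord hr.1) ra

theorem bad_nle (hr : Bad Z r) (c : Ω) : ¬ C1[r] ≤ St G c := by
  obtain ⟨a, b, ab, h1, h2⟩ := S.two hr
  obtain ⟨z, hz⟩ := S.exZ
  exact S.C1_nle S.tr hz ab (mul_self_of_ord hr.1) h1 h2 c

/-- the fixed points of a bad involution form an orbit of `⟨Z ∩ C(r)⟩` -/
theorem bad_orb (hr : Bad Z r) (ra : r • a = a) (c : Ω) : Orb (XZ Z C1[r]) a c ↔ r • c = c := by
  refine ⟨?_, fun h => ?_⟩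
  · rintro ⟨x, hx, rfl⟩
    rw [← mul_smul, ← mem_C1.1 (XZ_le _ _ hx), mul_smul, ra]
  · obtain ⟨s, hs⟩ := S.bad_iv hr ra
    obtain ⟨u, hu⟩ := S.bad_iv hr h
    exact S.orb_of_inv hs.2.1 (mem_XZ hs.1 hs.2.1) hs.2.2 hu.2.1 (mem_XZ hu.1 hu.2.1) hu.2.2

variable (h : G1 Ω Z)
include h

/-- in a proper subgroup moving `a` the members of `Z` fixing `a` commute -/
theorem comm (hM : M ≠ ⊤) (hn : ¬ M ≤ St G a) (hs : s ∈ Iv Z M a) (hs' : s' ∈ Iv Z M a) : s * s' = s' * s := by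
  by_cases h4 : FourZ Z M
  · exact (S.toBT hM (S.four_St hs.2.1 hs.1 hs.2.2 hn h4 (Orb.refl _ _)) hn).comm2 h
      ⟨mem_XZ hs.1 hs.2.1, hs.2⟩ ⟨mem_XZ hs'.1 hs'.2.1, hs'.2⟩
  · rw [S.nI_eq_one h hs hn h4 hs']

theorem p1 (hp : p.Prime) (hd : p ∣ nI Z (⊤ : Subgroup G) a) : P1 G Ω p := by
  haveI := S.nt
  obtain ⟨t, ht⟩ := S.exZ
  by_contra hn
  obtain ⟨Y, r, b, c, hY, hr, rY, rc, bc, Yb, Yc, e⟩ := S.not_P1 S.tr ht hp hd hn
  have oY := odd_of_p hY (S.ne_two' S.tr ht bc hp hd)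
  have h1 := (kc_eq_one (S.ord hr) oY rY).2 (S.le_C1_of_g1 h oY hr rc bc rY Yb Yc)
  exact ((one_lt_pp hp (zero_lt_one.trans (S.one_lt_nI (S.four' a))).ne').2 hd).ne' (e ▸ h1)

theorem toCB : CB Ω Z := by
  haveI := S.nt; haveI := S.finite
  obtain ⟨t, c, ht, hc⟩ := S.exists_inv
  obtain ⟨p, hp, hd⟩ := Nat.exists_prime_and_dvd (S.one_lt_nI (S.four' c)).ne'
  refine ⟨S, h, S.tr2_of_P1 S.tr ht hp hd (S.p1 h hp hd), fun a p hp hd => ?_⟩
  obtain ⟨x, y, xy, P, hP, fx⟩ := S.p1 h hp hd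
  haveI := Fact.mk hp
  have m := (hP.pi.pg hp).card_modEq_card_fixedPoints Ω
  rw [show fixedPoints P Ω = {x, y} from Set.ext fun c => ⟨fun hc => fx c fun g hg => hc ⟨g, hg⟩, by
    rintro (rfl | rfl) g
    exacts [(hP.le g.2).1, (hP.le g.2).2]⟩, Nat.card_coe_set_eq, Set.ncard_pair xy] at m
  exact (Nat.modEq_iff_dvd' (Finite.one_lt_card (α := Ω))).1 m.symm

end MC

end Cfsg.Agent.ZD
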