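import Cfsg.Agent.ZD.LocT

/-!
# Local structure of `X = ⟨Z ∩ X⟩` of Bender type under (G1)

`X̄ = Pm X a` (`π = (pm X a).app`) has `R1 X̄ (orbit X a) (pt a) (π t) Q̄` (`BT.r1`), `Four` (`BT.four4`); see `Inv/R1*`, `ZD/Bt`.
* `cent`: for `z ∈ Z ∩ X`, `k ∈ Ker`: `z · z^k ∈ Ker ∩ ⟨z z^k⟩` is odd (`mem_OK`), inverted by `z`, fixes the orbit: trivial by (G1); `X = ⟨Z ∩ X⟩` (`gen`).
* `U = {1} ∪ Iv Z X a` is a group (`BT.comm2`, `ZF.mul`), `π` maps it bijectively onto `R.Q0` (`lift_fix`, `not_mem_Ker`), `q = #Q0 = 2^m` (`card_Q0`).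
* `QQ X a = O₂(X_a)`: the preimage `P` of `Q̄` (a 2-group by `isTT.two`) is nilpotent (`Ker` central), its Sylow 2-subgroup `T` is normal in `X_a`, maps onto `Q̄`;
  conversely `π(O₂(X_a))` is a 2-group, so lies in `Q̄` (odd index `odd_card`, normal).  So `π(QQ) = Q̄`.  `i` from `isTT.cases` (`n2_eq`):
  elementary (`i = 1`, `Q̄ = Q0`), `q²`, `q³`.  `card_Ω`, `trans`, `free`, `suz_sq`, `suz_comm`, `center_eq`, `odd_St2`.
  `Ucent`: `u^x ∈ U` has the same image as `u` (`Q0_cent`).  `i = 3`: `w` from `TT.cases` (all `b` by `tr2`/`r1` with `t a = b`, `swap_in`).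
* `struct'`: `t s t = r⁻¹ t r`.  `i = 1`: `eq_of_sq`; `i = 3`: `TT.cases`; so `r = s` and `BT.lp_of`.  `i = 2`: `r_notMem`; `LP` (or `3 ∣ q-1` with `card_K'`, `three`)
  would give `t σ t = σ⁻¹ t σ` (apply both sides to points: `σ c = t a`; `tσt` and `σ t σ` ... or use `struct_unique`/`bruhat`), against `r_notMem`.
  [`LP` with `s c = t a`: `s t s` fixes `s c = t a`, `t s t` fixes `t a`; `struct'` says `r⁻¹ c = t a`, `Q̄` is regular, so `r = π s`, `r² = 1`.]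
* `can`: `s` the lift of the `s̄` of `struct'`.  `v ∈ N[X]` fixing `a` and centralizing `t` normalizes `Ker`, `QQ`, `U`; lift `r̄` to `r ∈ QQ`; conjugate the relation
  (mod `Ker`) by `v` and use `struct_unique`: `π (s^v) = π s`.
* last clause (`i = 3`): `z, z'` fixing the same point commute (`comm2`), so `z z'` has order `≤ 2`.  Otherwise take `r1` at `b = fix z` with `t` swapping `fix z`, `fix z'`;
  `π z, π z' ∈ Q0 ⊔ K ⊔ ⟨π t⟩` of order `q (q-1)(q+1)` (`card_L0`); an element `x ∈ ⟨z z'⟩` of order `p` is inverted by `z`, so is not in the central `Ker`.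
  (The type at `b` is again `3` by `card_Ω`, `q` is the same by `nI_orb`.)
* `torus`: `K = {w t}` maps bijectively onto `R.K` (`lift`, `swap_inv`, `odd_sw`; a product of two inverted elements is inverted mod `Ker`; use odd order + central `Ker`,
  or count: `ncard_Sw'`, `card_K'`); `isCyclic_K`, `fpf` + `fix_iff` + `trans0`.
-/

set_option autoImplicit false
set_option linter.unusedVariables false
set_option linter.unusedSectionVars false

namespace Cfsg.Agent.ZD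
open Cfsg Cfsg.Agent.BG Cfsg.Agent.Inv Cfsg.Agent.SE MulAction Subgroup PHom

variable {G Ω : Type*} [Group G] [Finite G] [MulAction G Ω] {Z : Set G}

variable {X : Subgroup G} {a : Ω} {t : G}

namespace L7

section R
variable {H Λ : Type*} [Group H] [Finite H] [MulAction H Λ] {c : Λ} {τ : H} {Q : Subgroup H}

theorem Q_eq (R : R1 H Λ c τ Q) (h4 : Four H) : Q = O[{2}](stabilizer H c) := by
  refine le_antisymm (le_O R.le R.norm (pig_of_pg Nat.prime_two (R.isTT h4).two))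
    ((O_pig _ _).le_of_idx R.norm (O_le _ _) ?_)
  have e := card_mul_relIndex R.le
  rw [R.card_H] at e
  rw [Nat.eq_of_mul_eq_mul_left (card_pos Q) e]
  exact (pin_compl Nat.prime_two).2 R.odd_card.not_two_dvd_nat

theorem Q0_eq (R : R1 H Λ c τ Q) (h4 : Four H) (h : ∀ u ∈ Q, u * u = 1) : R.Q0 h4 = Q :=
  le_antisymm (R.Q0_le h4) fun u hu => ⟨R.fix hu, h u hu⟩

theorem exists_typ (R : R1 H Λ c τ Q) (h4 : Four H) : ∃ i, #Q = #(R.Q0 h4) ^ i := by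
  obtain ⟨-, h | ⟨-, h | ⟨h, -⟩⟩⟩ := R.isTT h4
  exacts [⟨1, by rw [Q0_eq R h4 h, pow_one]⟩, ⟨2, R.n2_eq h4 ▸ h⟩, ⟨3, R.n2_eq h4 ▸ h⟩]

theorem typ (R : R1 H Λ c τ Q) (h4 : Four H) {i : ℕ} (hi : #Q = #(R.Q0 h4) ^ i) :
    (i = 1 ∧ ∀ u ∈ Q, u * u = 1) ∨ ¬ IsMulCommutative Q ∧ (i = 2 ∨ i = 3 ∧
      (∀ s ∈ Q, ∀ r ∈ Q, τ * s * τ = r⁻¹ * τ * r → r = s) ∧
      ∃ w ∈ St2 H c (τ • c), (∀ z ∈ Q, z * z = 1 → w * z = z * w) ∧ ∃ u ∈ Q, w * u ≠ u * w) := by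
  have inj := Nat.pow_right_injective ((by decide : 2 ≤ 4).trans (R.four_le h4))
  obtain ⟨-, h | ⟨n, h | ⟨h, h'⟩⟩⟩ := R.isTT h4
  · exact .inl ⟨inj (hi.symm.trans (by rw [Q0_eq R h4 h]; exact (pow_one _).symm)), h⟩
  · exact .inr ⟨n, .inl (inj (hi.symm.trans (R.n2_eq h4 ▸ h)))⟩
  · exact .inr ⟨n, .inr ⟨inj (hi.symm.trans (R.n2_eq h4 ▸ h)), h'⟩⟩

theorem rel (R : R1 H Λ c τ Q) (h4 : Four H) {i : ℕ} (hi : #Q = #(R.Q0 h4) ^ i) (i2 : i ≠ 2) :
    ∃ s ∈ Q, τ * s * τ = s⁻¹ * τ * s := by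
  obtain ⟨s, hs, r, hr, e⟩ := R.struct'
  obtain rfl : r = s := by
    rcases typ R h4 hi with ⟨-, h⟩ | ⟨-, h | ⟨-, h, -⟩⟩
    exacts [R.eq_of_sq hs hr e (h r hr), absurd h i2, h s hs r hr e]
  exact ⟨r, hs, e⟩

end R

variable (S : BT Z X a) (h : G1 Ω Z)
include S

local notation "π" => PHom.app (pm X a)
local notation "ā" => pt (Orb.refl X a)
local notation "𝓠" => O[{2}](stabilizer (Pm X a) (pt (Orb.refl X a)))

theorem rr (ht : t ∈ Z) (htX : t ∈ X) (ta : t • a ≠ a) : R1 (Pm X a) (orbit X a) ā (π t) 𝓠 := by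
  obtain ⟨Q, R⟩ := S.r1 (Orb.refl X a) ht htX ta
  exact Q_eq R S.four4 ▸ R

theorem swap {b : Ω} (hb : Orb X a b) (n : b ≠ a) : ∃ t ∈ X, t ∈ Z ∧ t • a = b := by
  obtain ⟨s, hs⟩ := S.iv (Orb.refl X a)
  exact S.swap_in hs.2.1 hs.1 hs.2.2 (Orb.refl X a) hb n.symm

include h

theorem cent : Ker X a ≤ C[X] := fun k hk => by
  refine le_C1_iff.1 (S.gen.ge.trans (XZ_le_of fun z hz zZ => ?_))
  obtain ⟨c, hc⟩ := S.ex zZ
  obtain ⟨d, h1, h2⟩ := S.exists_ne (S.orb zZ hz hc)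
  have m : z * (k * z * k⁻¹) ∈ Ker X a := by
    have := mul_mem (conj_mem (Ker_norm X a hz) hk) (inv_mem hk)
    rwa [S.inv zZ, mul_assoc, mul_assoc, ← mul_assoc k] at this
  have := h z _ d c zZ hc (odd_ord_of_mem (odd_O _) (S.mem_OK zZ hz (S.conj zZ k) (mem_zpowers _) m))
    (inverts_left (S.sq zZ) (S.sq (S.conj zZ k))) (m.2 c (S.orb zZ hz hc)) (m.2 d h1) h2
  rw [mul_eq_one_iff_inv_eq, S.inv zZ, eq_mul_inv_iff_mul_eq] at this
  exact mem_C1.2 this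

theorem imQ : (pm X a).im (QQ X a) = 𝓠 := by
  have e := pm_St (M := X) ā
  refine le_antisymm ((im_O_le _ _).trans (by rw [← e]; rfl)) ?_
  have h0 : (pm X a).im ((pm X a).pre 𝓠) = 𝓠 := im_pre (le_top.trans (pm_im X a).ge)
  have h1 : (pm X a).pre 𝓠 ≤ X ⊓ St G a := pre_le_of_le_im inf_le_left (by
    rw [pm_ker]; exact le_inf (Ker_le _ _) (Ker_le_St (Orb.refl _ _))) ((O_le _ _).trans e.ge)
  have h2 : Nil ((pm X a).pre 𝓠) := nil_of_im_cent (pre_le_dom _) (by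
    rw [pm_ker]; exact inf_le_right.trans ((cent S h).trans (centS (h1.trans inf_le_left))))
    (h0.symm ▸ (O_pig _ _).nil)
  rw [← h0, ← (h2.hall_O {2}).im_eq (pre_le_dom _) (h0.symm ▸ O_pig _ _)]
  exact im_mono (le_O ((O_le _ _).trans h1) (normO _ (norm_pre inf_le_left (e.le.trans (normO _ (normG _)))))
    (O_pig _ _))

theorem liftQ {x : Pm X a} (hx : x ∈ 𝓠) : ∃ y ∈ QQ X a, π y = x :=
  (mem_im' ((O_le _ _).trans inf_le_left)).1 ((imQ S h).ge hx)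

theorem memQ {x : G} (hx : x ∈ QQ X a) : π x ∈ 𝓠 := (imQ S h).le (app_mem_im hx (O_le _ _ hx).1)

/-- `{1} ∪ (Z ∩ X_a)` -/
def UU : Subgroup G where
  carrier := {g | g = 1 ∨ g ∈ Iv Z X a}
  one_mem' := .inl rfl
  inv_mem' := fun {x} hx => hx.imp (fun e => by simp [e]) fun e => by rwa [S.inv e.2.1]
  mul_mem' := fun {x y} hx hy => by
    rcases hx with rfl | hx
    · rwa [one_mul]
    rcases hy with rfl | hy
    · exact .inr (by rwa [mul_one])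
    by_cases e : x = y
    · exact .inl (e ▸ S.sq hx.2.1)
    exact .inr ⟨mul_mem hx.1 hy.1, S.mul hx.2.1 hy.2.1 e (S.comm2 h hx hy), by rw [mul_smul, hy.2.2, hx.2.2]⟩

theorem U_le : UU S h ≤ X ⊓ St G a := by
  rintro u (rfl | hu)
  exacts [one_mem _, ⟨hu.1, hu.2.2⟩]

theorem U_ker : UU S h ⊓ (pm X a).ker = ⊥ := eq_bot_iff.2 fun u hu =>
  hu.1.resolve_right fun e => S.not_mem_Ker e.2.1 (pm_ker X a ▸ hu.2)

theorem U_inj {u v : G} (hu : u ∈ UU S h) (hv : v ∈ UU S h) (e : π u = π v) : u = v :=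
  inv_mul_eq_one.1 ((U_ker S h).le ⟨(UU S h).mul_mem (inv_mem hu) hv, (app_eq_iff (U_le S h hu).1 (U_le S h hv).1).1 e⟩)

theorem U_conj {v u : G} (hv : v ∈ N[X]) (va : v • a = a) (hu : u ∈ UU S h) : v * u * v⁻¹ ∈ UU S h :=
  hu.imp (fun e => by simp [e]) fun e => ⟨conj_mem hv e.1, S.conj e.2.1 v, va ▸ conj_smul_fix e.2.2 v⟩

theorem U_cent {v : G} (hv : v ∈ X) (va : v • a = a) (e : ∀ u ∈ UU S h, π v * π u = π u * π v) : v ∈ C[UU S h] :=
  fun u (hu : u ∈ UU S h) => (mul_inv_eq_iff_eq_mul.1 (U_inj S h (U_conj S h (normG _ hv) va hu) hu (by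
    rw [app_conj hv (U_le S h hu).1, e u hu, mul_inv_cancel_right]))).symm

variable (R : R1 (Pm X a) (orbit X a) (pt (Orb.refl X a)) (PHom.app (pm X a) t)
  O[{2}](stabilizer (Pm X a) (pt (Orb.refl X a))))
include R

theorem imU : (pm X a).im (UU S h) = R.Q0 S.four4 := by
  refine le_antisymm (fun x hx => ?_) fun x hx => ?_
  · obtain ⟨u, hu, rfl⟩ := (mem_im' ((U_le S h).trans inf_le_left)).1 hx
    rcases hu with rfl | hu
    · rw [app_one]; exact one_mem _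
    exact ⟨(pm_smul_eq hu.1).2 hu.2.2, mul_self_of_ord (S.pm_ord hu.2.1 hu.1)⟩
  by_cases x1 : x = 1
  · exact x1 ▸ one_mem _
  obtain ⟨s, hs, rfl⟩ := S.lift_fix (ord2_iff.2 ⟨hx.2, x1⟩) _ hx.1
  exact app_mem_im (show s ∈ UU S h from .inr hs) hs.1

theorem cardU : #(UU S h) = #(R.Q0 S.four4) := by
  rw [← imU S h R, card_im_inj ((U_le S h).trans inf_le_left) (U_ker S h)]

theorem memU {u : G} (hu : u ∈ UU S h) : π u ∈ R.Q0 S.four4 := (imU S h R).le (app_mem_im hu (U_le S h hu).1)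

theorem dec {y : G} (hy : y ∈ X) (e : π y ∈ R.Q0 S.four4) : ∃ u ∈ UU S h, ∃ z ∈ Ker X a, y = u * z := by
  obtain ⟨u, hu, e⟩ := (mem_im' ((U_le S h).trans inf_le_left)).1 ((imU S h R).ge e)
  exact ⟨u, hu, u⁻¹ * y, pm_ker X a ▸ (app_eq_iff (U_le S h hu).1 hy).1 e, by group⟩

end L7

open L7 in
theorem BT.loc (S : BT Z X a) (h : G1 Ω Z) : ∃ U q i, Loc Z X a U q i ∧
    (i = 3 → ∀ z ∈ X, ∀ z' ∈ X, z ∈ Z → z' ∈ Z → ∀ p : ℕ, p.Prime → p ≠ 2 → p ∣ orderOf (z * z') → p ∣ q ^ 2 - 1) := by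
  have h4 := S.four4
  obtain ⟨t₀, t1, t2, t3⟩ := S.exists_move (Orb.refl X a)
  have R := rr S t2 t1 t3
  obtain ⟨i, hi⟩ := exists_typ R h4
  have two := (R.isTT h4).two
  have QX : QQ X a ≤ X := (O_le _ _).trans inf_le_left
  have hi' : ∀ {t : G} (ht : t ∈ Z) (htX : t ∈ X) (ta : t • a ≠ a), _ = #((rr S ht htX ta).Q0 h4) ^ i :=
    fun _ _ _ => hi
  obtain ⟨m, m2, hm⟩ := R.card_Q0 h4
  have ne : ∀ {b : Ω} (hb : Orb X a b), b ≠ a → pt hb ≠ pt (Orb.refl X a) := fun _ n e => n (congrArg Subtype.val e)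
  refine ⟨UU S h, #(R.Q0 h4), i, ⟨⟨m, m2, hm⟩, cent S h, fun b c hb hc nb nc => ?_, fun x hx b hb nb e => ?_,
    by rw [← Nat.card_coe_set_eq, R.card_Ω, hi], by rw [← pm_ker, ← card_im QX, imQ S h, hi], fun _ => Iff.rfl,
    cardU S h R, le_O (U_le S h) (le_N_iff.2 fun g hg u => U_conj S h (normG _ hg.1) hg.2) ?_,
    cent_symm fun x hx => U_cent S h (QX hx) (O_le _ _ hx).2 fun u hu => (R.Q0_cent h4 (memU S h R hu) (memQ S h hx)).symm,
    fun x hx => dec S h R (mul_mem (QX hx) (QX hx)) ?_, fun x hx y hy => dec S h R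
      (mul_mem (mul_mem (mul_mem (QX hx) (QX hy)) (inv_mem (QX hx))) (inv_mem (QX hy))) ?_,
    fun x hx e => dec S h R (QX hx) ⟨R.fix (memQ S h hx), ?_⟩, fun i1 x hx e => dec S h R (QX hx) ?_,
    fun b hb nb => ?_, ?_, fun t htX ht ta => ⟨fun ⟨s, hs, c, hc, e⟩ i2 => ?_, fun i2 => ?_⟩,
    fun t htX ht ta => ?_⟩, fun i3 z hz z' hz' zZ zZ' p hp p2 hd => ?_⟩
  · obtain ⟨u, hu, e⟩ := R.trans (ne hb nb) (ne hc nc)
    obtain ⟨x, hx, rfl⟩ := liftQ S h hu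
    exact ⟨x, hx, (pm_smul_eq (QX hx)).1 e⟩
  · exact (pm_eq_one (QX hx)).1 (R.free (memQ S h hx) (ne hb nb) ((pm_smul_eq (QX hx)).2 e))
  · rw [PiG, cardU S h R]; exact pig_of_pg Nat.prime_two (R.pQ0 h4)
  · rw [app_mul (QX hx) (QX hx)]
    rcases typ R h4 hi with ⟨-, e⟩ | ⟨n, -⟩
    · rw [e _ (memQ S h hx)]; exact one_mem _
    · exact R.suz_sq h4 two n (memQ S h hx)
  · rw [app_mul (conj_mem (normG _ (QX hx)) (QX hy)) (inv_mem (QX hy)), app_conj (QX hx) (QX hy), app_inv (QX hy)]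
    have a1 := memQ S h hx
    have a2 := memQ S h hy
    rcases typ R h4 hi with ⟨-, e⟩ | ⟨n, -⟩
    · rw [Q0_eq R h4 e]; exact mul_mem (mul_mem (mul_mem a1 a2) (inv_mem a1)) (inv_mem a2)
    · exact R.suz_comm h4 two n a1 a2
  · rw [← app_mul (QX hx) (QX hx), pm_eq_one (mul_mem (QX hx) (QX hx))]; exact e
  · obtain ⟨n, -⟩ := (typ R h4 hi).resolve_left fun e => i1 e.1
    refine mem_subgroupOf.1 ((R.center_eq h4 two n).le (x := ⟨_, memQ S h hx⟩) (mem_center_iff.2 fun y => Subtype.ext ?_))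
    obtain ⟨y', hy, e1⟩ := liftQ S h y.2
    have := (pm_eq_one (a := a) (Ker_le _ _ (e y' hy))).2 (e y' hy)
    rw [app_mul (conj_mem (normG _ (QX hx)) (QX hy)) (inv_mem (QX hy)), app_conj (QX hx) (QX hy), app_inv (QX hy),
      mul_inv_eq_one, mul_inv_eq_iff_eq_mul, e1] at this
    exact this.symm
  · rw [← pm_ker, ← card_im (φ := pm X a) (A := X ⊓ St2 G a b) inf_le_left]
    exact (pm_St2 (pt (Orb.refl X a)) (pt hb)).symm ▸ R.odd_St2 (ne hb nb).symm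
  · rcases typ R h4 hi with ⟨e, -⟩ | ⟨n, rfl | ⟨rfl, -⟩⟩
    · exact .inl e
    · refine .inr (.inl ⟨rfl, fun d => ?_⟩)
      obtain ⟨k, hk, k3⟩ := cauchy (A := R.K h4) Nat.prime_three (by rwa [← R.card_K' h4, Nat.add_sub_cancel] at d)
      obtain ⟨σ, h1, h2, h3⟩ := R.three hk.1 hk.2 k3
      have := R.inv_Q (mul_self_of_ord h1) h2
      exact R.r_notMem h4 hi this this h3 (mul_self_of_ord h1)
    refine .inr (.inr ⟨rfl, fun b hb nb => ?_⟩)
    obtain ⟨t, htX, ht, rfl⟩ := swap S hb nb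
    have R' := rr S ht htX nb
    obtain ⟨-, -, w', w1, w2, u, hu, w3⟩ := (((typ R' h4 (hi' ht htX nb)).resolve_left fun e => absurd e.1 (by decide)).2).resolve_left (by decide)
    rw [show (pm X a).app t • pt (Orb.refl X a) = pt hb from (pm_smul_eq htX).2 rfl, ← pm_St2] at w1
    obtain ⟨w, hw, rfl⟩ := (mem_im' inf_le_left).1 w1
    exact ⟨w, ⟨hw, U_cent S h hw.1 hw.2.1 fun u hu => w2 _ (R.Q0_le h4 (memU S h R hu)) (memU S h R hu).2⟩,
      fun e => w3 (by rw [(pm_eq_one (M := X) hw.1).2 e, one_mul, mul_one])⟩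
  · subst i2
    have R' := rr S ht htX ta
    obtain ⟨σ, h1, r, h2, e1⟩ := R'.struct'
    have oc := S.orb ht htX hc
    have f1 : ((pm X a).app t * σ * (pm X a).app t) • r⁻¹ • pt oc = r⁻¹ • pt oc := by
      rw [e1, mul_smul, mul_smul, smul_inv_smul, (pm_smul_eq (c := pt oc) (d := pt oc) htX).2 hc]
    have f2 : ((pm X a).app t * σ * (pm X a).app t) • (pm X a).app s • pt oc = (pm X a).app s • pt oc := by
      rw [show (pm X a).app s • pt oc = (pm X a).app t • pt (Orb.refl X a) from Subtype.ext (by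
        rw [pm_smul hs.1, pm_smul htX]; exact e), mul_smul, mul_smul, R'.tt, R'.fix h1]
    have m1 := memU S h R (u := s) (.inr hs)
    have := R.inj (inv_mem h2) (R.Q0_le h4 m1) (ne oc fun e => ta (e ▸ hc))
      (S.fix1.uniq (by have := ord_conj (R'.ord_s e1) ((pm X a).app t); rwa [R'.tinv] at this) f1 f2)
    refine R'.r_notMem h4 (hi' ht htX ta) h1 h2 e1 ?_
    rw [← inv_inj, mul_inv_rev, this, m1.2, inv_one]
  · have R' := rr S ht htX ta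
    obtain ⟨σ, h1, e⟩ := rel R' h4 (hi' ht htX ta) i2
    exact S.lp_of ht htX ta (R'.ord_s e) (R'.fix h1) e
  · have R' := rr S ht htX ta
    obtain ⟨σ, h1, r, h2, e⟩ := R'.struct'
    obtain ⟨s, hs, rfl⟩ := S.lift_fix (R'.ord_s e) _ (R'.fix h1)
    obtain ⟨ρ, hρ, rfl⟩ := liftQ S h h2
    refine ⟨s, .inr hs, S.ne_one hs.2.1, fun v hv va vt => ?_⟩
    have key : ∀ s ∈ X, ∀ ρ ∈ X, (pm X a).app t * (pm X a).app s * (pm X a).app t =
        ((pm X a).app ρ)⁻¹ * (pm X a).app t * (pm X a).app ρ ↔ (t * s * t)⁻¹ * (ρ⁻¹ * t * ρ) ∈ Ker X a := fun s hs ρ hρ => by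
      rw [← pm_ker, ← app_eq_iff (mul_mem (mul_mem htX hs) htX) (mul_mem (mul_mem (inv_mem hρ) htX) hρ),
        app_mul (mul_mem htX hs) htX, app_mul htX hs, app_mul (mul_mem (inv_mem hρ) htX) hρ, app_mul (inv_mem hρ) htX,
        app_inv hρ]
    have s1 := U_conj S h hv va (u := s) (.inr hs)
    have ρ1 : v * ρ * v⁻¹ ∈ QQ X a := conj_mem (normO _ (normI (zp_le hv) (zp_le (normG _ va))) (mem_zpowers v)) hρ
    have e1 := conj_mem (normKer hv (va.symm ▸ Orb.refl _ _)) ((key s hs.1 ρ (QX hρ)).1 e)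
    have vt' : v * t * v⁻¹ = t := by rw [mem_C1.1 vt, mul_inv_cancel_right]
    rw [show v * ((t * s * t)⁻¹ * (ρ⁻¹ * t * ρ)) * v⁻¹ = ((v * t * v⁻¹) * (v * s * v⁻¹) * (v * t * v⁻¹))⁻¹ *
      ((v * ρ * v⁻¹)⁻¹ * (v * t * v⁻¹) * (v * ρ * v⁻¹)) by group, vt', ← key _ (U_le S h s1).1 _ (QX ρ1)] at e1
    exact mem_C1.2 (mul_inv_eq_iff_eq_mul.1 (U_inj S h s1 (.inr hs)
      (R'.struct_unique (memU S h R s1).1 (memQ S h ρ1) e1 (R'.fix h1) h2 e).1))
  subst i3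
  obtain ⟨b, hb⟩ := S.ex zZ
  obtain ⟨g, hg, rfl⟩ := S.orb zZ hz hb
  rw [← orderOf_conj'' g, show g⁻¹ * (z * z') * g = g⁻¹ * z * g * (g⁻¹ * z' * g) by group] at hd
  have a1 : g⁻¹ * z * g ∈ Iv Z X a := ⟨conj_mem' (normG _ hg) hz, S.conj' zZ g, by
    rw [mul_smul, mul_smul, hb, inv_smul_smul]⟩
  have a2 := conj_mem' (normG _ hg) hz'
  have a3 := S.conj' zZ' g
  generalize g⁻¹ * z * g = z at *
  generalize g⁻¹ * z' * g = z' at *
  have np : ∀ x : G, x * x = 1 → ¬ p ∣ orderOf x := fun x e d =>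
    p2 ((Nat.prime_dvd_prime_iff_eq hp Nat.prime_two).1 (d.trans (orderOf_dvd_of_pow_eq_one (by rw [pow_two, e]))))
  obtain ⟨c, hc⟩ := S.ex a3
  by_cases ca : c = a
  · refine absurd hd (np _ ?_)
    rw [mul_assoc, ← mul_assoc z', ← S.comm2 h a1 ⟨a2, a3, ca ▸ hc⟩, mul_assoc, S.sq a3, mul_one, S.sq a1.2.1]
  obtain ⟨t, htX, ht, rfl⟩ := swap S (S.orb a3 a2 hc) ca
  have R' := rr S ht htX ca
  obtain ⟨σ, h1, e⟩ := rel R' h4 (hi' ht htX ca) (by decide)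
  obtain ⟨x, hx, xp⟩ := cauchy (A := zpowers (z * z')) hp (by rwa [card_zpowers'])
  have xX : x ∈ X := zp_le (mul_mem a1.1 a2) hx
  have x1 : (pm X a).app x ≠ 1 := fun e => np x (by
    have i : z * x * z⁻¹ = x⁻¹ := by
      obtain ⟨n, rfl⟩ := mem_zpowers_iff.1 hx
      rw [← conj_zpow, inverts_left (S.sq a1.2.1) (S.sq a3), inv_zpow]
    rw [cent S h ((pm_eq_one xX).1 e) z a1.1, mul_inv_cancel_right] at i
    exact mul_eq_one_iff_eq_inv.2 i) xp.symm.dvd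
  have o : orderOf ((pm X a).app x) = p := ((Nat.dvd_prime hp).1 (xp ▸ orderOf_app_dvd xX)).resolve_left
    (mt orderOf_eq_one_iff.1 x1)
  have m1 : (pm X a).app x ∈ R'.Q0 h4 ⊔ R'.K h4 ⊔ zpowers ((pm X a).app t) := by
    have b1 : t * z' * t⁻¹ ∈ Iv Z X a := ⟨conj_mem (normG _ htX) a2, S.conj a3 t, by
      rw [S.inv ht, mul_smul, mul_smul, hc, S.ss ht]⟩
    have b2 := mem_sup_right (S := R'.Q0 h4 ⊔ R'.K h4) (mem_zpowers ((pm X a).app t))
    have b3 := mul_mem (mul_mem (inv_mem b2) (mem_sup_left (mem_sup_left (memU S h R' (.inr b1))))) b2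
    rw [app_conj htX a2, show ∀ x y : Pm X a, x⁻¹ * (x * y * x⁻¹) * x = y from fun _ _ => by group] at b3
    refine zp_le (mul_mem (mem_sup_left (mem_sup_left (memU S h R' (.inr a1)))) b3) ?_
    rw [← app_mul a1.1 a2, ← im_zpowers (mul_mem a1.1 a2)]
    exact app_mem_im hx xX
  have d := o ▸ orderOf_dvd m1
  rw [R'.card_L0 h4 h1 e, mul_assoc, hp.dvd_mul] at d
  refine d.elim (fun d => absurd ((Nat.prime_dvd_prime_iff_eq hp Nat.prime_two).1 (hp.dvd_of_dvd_pow (hm ▸ d))) p2) fun d => ?_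
  rw [show #(R.Q0 h4) = #(R'.K h4) + 1 from (R'.card_K' h4).symm]
  rw [← R'.card_K' h4] at d
  exact d.trans (dvd_of_eq (Nat.eq_sub_of_add_eq (by ring)))

end Cfsg.Agent.ZD
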