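import Cfsg.Agent.ZD.Key

/-!
# Local structure of `X = ⟨Z ∩ X⟩` of Bender type under (G1)

`X̄ = Pm X a` (`π = (pm X a).app`) has `R1 X̄ (orbit X a) (pt a) (π t) Q̄` (`BT.r1`), `Four` (`BT.four4`); see `Inv/R1*`, `ZD/Bt`.
* `torus`: `K = {w t}` maps bijectively onto `R.K` (`lift`, `swap_inv`, `odd_sw`; a product of two inverted elements is inverted mod `Ker`; use odd order + central `Ker`,
  or count: `ncard_Sw'`, `card_K'`); `isCyclic_K`, `fpf` + `fix_iff` + `trans0`.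
-/

set_option autoImplicit false
set_option linter.unusedVariables false
set_option linter.unusedSectionVars false

namespace Cfsg.Agent.ZD
open Cfsg Cfsg.Agent.BG Cfsg.Agent.Inv Cfsg.Agent.SE MulAction Subgroup PHom

variable {G Ω : Type*} [Group G] [Finite G] [MulAction G Ω] {Z : Set G}

variable {X : Subgroup G} {a : Ω} {t : G}

local notation "π" => PHom.app (pm X a)
local notation "ā" => pt (Orb.refl X a)

theorem BT.cent_ker (S : BT Z X a) (h : G1 Ω Z) : Ker X a ≤ C[X] := fun k hk => by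
  refine le_C1_iff.1 (S.gen.ge.trans (XZ_le_of fun z hz zZ => ?_))
  obtain ⟨c, hc⟩ := S.ex zZ
  obtain ⟨d, h1, h2⟩ := S.exists_ne (S.orb zZ hz hc)
  have m : z * (k * z * k⁻¹) ∈ Ker X a := by
    have := mul_mem (conj_mem (Ker_norm X a hz) hk) (inv_mem hk)
    rwa [S.inv zZ, mul_assoc, mul_assoc, ← mul_assoc k] at this
  have := h z _ d c zZ hc (odd_ord_of_mem (odd_O _) (S.mem_OK zZ hz (S.conj zZ k) (mem_zpowers _) m))
    (inverts_left (S.sq zZ) (S.sq (S.conj zZ k))) (m.2 c (S.orb zZ hz hc)) (m.2 d h1) h2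
  rw [mul_eq_one_iff_inv_eq, S.inv zZ, eq_mul_inv_iff_mul_eq] at this
  exact mem_C1.2 this

theorem BT.torus (S : BT Z X a) (h : G1 Ω Z) (ht : t ∈ Z) (htX : t ∈ X) (ta : t • a ≠ a) :
    ∃ K : Subgroup G, (∀ k, k ∈ K ↔ ∃ w ∈ Sw Z X a (t • a), k = w * t) ∧ Cyc K ∧
      ∀ k ∈ K, k ≠ 1 → ∀ c, Orb X a c → k • c = c → c = a ∨ c = t • a := by
  obtain ⟨Q, R⟩ := S.r1 (Orb.refl X a) ht htX ta
  have h4 := S.four4
  have hc := S.cent_ker h
  have cK : Cyc (R.K h4) := R.isCyclic_K h4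
  have hP : (pm X a).pre (R.K h4) ≤ X := pre_le_dom _
  have ab : Abel ((pm X a).pre (R.K h4)) := abel_of_cyc_im hP
    (by rw [pm_ker]; exact inf_le_right.trans (hc.trans (centS hP))) (cK.of_le (im_pre_le _))
  have cm : ∀ x ∈ (pm X a).pre (R.K h4), ∀ y ∈ (pm X a).pre (R.K h4), x * y = y * x :=
    fun x hx y hy => (mem_centralizer_iff.1 (ab hy) x hx)
  have D : ∀ k ∈ X, π k ∈ stabilizer (Pm X a) ā ⊓ stabilizer (Pm X a) (π t • ā) ↔
      k • a = a ∧ k • t • a = t • a := fun k hk => by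
    rw [mem_inf, mem_stabilizer_iff, mem_stabilizer_iff, pm_smul_eq hk, pm_smul_eq hk, pm_smul htX]; rfl
  let K : Subgroup G :=
    { carrier := {k | k ∈ (pm X a).pre (R.K h4) ∧ Odd (orderOf k) ∧ t * k * t⁻¹ = k⁻¹}
      one_mem' := ⟨one_mem _, by simp, by simp⟩
      inv_mem' := fun {x} hx => ⟨inv_mem hx.1, by rw [orderOf_inv]; exact hx.2.1, by
        rw [← conj_inv, hx.2.2]⟩
      mul_mem' := fun {x y} hx hy => ⟨mul_mem hx.1 hy.1,
        (hx.2.1.mul hy.2.1).of_dvd_nat (Commute.orderOf_mul_dvd_mul_orderOf (cm x hx.1 y hy.1)), by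
        rw [cm x hx.1 y hy.1, mul_inv_rev, ← hx.2.2, ← hy.2.2, cm y hy.1 x hx.1]; group⟩ }
  have kX : ∀ k ∈ K, k ∈ X := fun k hk => hP hk.1
  have ker : ∀ k ∈ K, k ∈ Ker X a → k = 1 := fun k hk e => by
    have e1 : t * k = k * t := mem_centralizer_iff.1 (hc e) t htX
    have e2 := hk.2.2
    rw [e1, mul_inv_cancel_right, eq_inv_iff_mul_eq_one] at e2
    exact sq_inj_of_odd hk.2.1 (by simp) (by rw [e2, one_mul])
  refine ⟨K, fun k => ⟨fun hk => ⟨k * t, ⟨mul_mem (kX k hk) htX, (S.mul_inv ht hk.2.1 hk.2.2).2, ?_⟩, ?_⟩, ?_⟩,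
    cyc_of_im_inj (φ := pm X a) kX (eq_bot_iff.2 fun k hk => ker k hk.1 (pm_ker X a ▸ hk.2))
      (cK.of_le ((im_mono fun k (hk : k ∈ K) => hk.1).trans (im_pre_le _))), fun k hk k1 c hc' e => ?_⟩
  · rw [mul_smul]; exact ((D k (kX k hk)).1 (mem_pre.1 hk.1).2.1).2
  · rw [mul_assoc, S.sq ht, mul_one]
  · rintro ⟨w, hw, rfl⟩
    have tw : t ∈ Sw Z X a (t • a) := ⟨htX, ht, rfl⟩
    have m := S.sw_mul hw tw
    have i := inverts_right (S.sq hw.2.1) (S.sq ht)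
    refine ⟨mem_pre.2 ⟨m.1, (D _ m.1).2 m.2, ?_⟩, S.odd_sw ta.symm hw tw, i⟩
    rw [← app_conj (φ := pm X a) htX m.1, i, app_inv (φ := pm X a) m.1]
  · refine (em (c = a)).imp id fun n => ?_
    have hk' := (mem_pre.1 hk.1).2
    obtain ⟨u, hu, e1⟩ := R.trans0 (c := pt hc') fun e => n (congrArg Subtype.val e)
    have e2 : π k • pt hc' = pt hc' := (pm_smul_eq (kX k hk)).2 e
    rw [← e1, R.fix_iff hk'.1 hu] at e2
    have u1 : u = 1 := (R.fpf hk'.1 hk'.2 fun e => k1 (ker k hk ((pm_eq_one (kX k hk)).1 e))).le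
      ⟨hu, mem_centralizer_singleton_iff.2 e2.symm⟩
    rw [u1, one_smul] at e1
    exact ((pm_smul_eq htX).1 e1).symm

end Cfsg.Agent.ZD
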