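import Cfsg.Agent.ZD.A
import Cfsg.Agent.ZD.Cnum
import Cfsg.Agent.ZD.C2c
import Cfsg.Agent.ZD.C21
import Cfsg.Agent.ZD.C22
import Cfsg.Agent.ZD.C23

/-!
# Theorem ZD

Induction on `|G|` as in `SE/Main` (universe of `Ω`: `Pm X a`, `orbit X a`), for `ZF` (`ZW.toZF` at the end).  `G = ⟨Z⟩` faithful, transitive, `FourZ` is simple:
`N ⊴ G` odd fixes every point (`le_St_of_four`); `N ∩ Z ≠ ∅` gives `Z ⊆ N` (`conj_in`); otherwise `N ⟨z⟩` has no four-group in `Z ∪ 1` (`ZF.mul`), `isn4`: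
`[N, z] ≤ O(N ⟨z⟩) ≤ O(N) = 1`, so `N` is central, fixes every point (`fix_of_comm`).  `ih`: for `X = XZ Z M` the image `Z̄` of `Z ∩ X` in `Pm X a` is `ZF`
(`s̄ ≠ ū` commute: `s u ∉ Ker`, `(s u)² ∈ Ker`, so `s u` has even order, `even_mul'` gives `v = (s u)^n ∈ Z`, `n` odd as `v ∉ Ker`, `v̄ = s̄ ū`).
-/

set_option autoImplicit false
set_option linter.unusedVariables false
set_option linter.unusedSectionVars false

namespace Cfsg.Agent.ZD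
open Cfsg Cfsg.Agent.BG Cfsg.Agent.Inv Cfsg.Agent.SE MulAction Subgroup PHom

variable {G Ω : Type*} [Group G] [Finite G] [MulAction G Ω] {Z : Set G}

theorem MC.noBad (S : MC Ω Z) {r : G} (hr : Bad Z r) : False := by
  obtain ⟨q, i, h⟩ := (S.toCB S.g1).num hr
  obtain ⟨r, a, U, -, -, L⟩ := h.base
  rcases L.cases with rfl | ⟨rfl, -⟩ | ⟨rfl, -⟩
  exacts [h.toC2.false1, h.toC2.false2, h.toC2.false3]

theorem MC.fix1 (S : MC Ω Z) : Fix1 G Ω :=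
  have h : ∀ s : G, orderOf s = 2 → s ∈ Z := fun s hs => by_contra fun e => S.noBad ⟨hs, e⟩
  ⟨fun s hs => S.ex (h s hs), fun hs => S.uniq (h _ hs)⟩

theorem ZF.simple [FaithfulSMul G Ω] [Nontrivial Ω] (S : ZF Ω Z) (tr : ∀ a b : Ω, ∃ g : G, g • a = b)
    (gen : XZ Z (⊤ : Subgroup G) = ⊤) (h4 : FourZ Z (⊤ : Subgroup G)) : IsSimpleGroup G := by
  obtain ⟨z, -, y, -, hz, -, zy, -⟩ := id h4
  have : Nontrivial G := ⟨z, y, zy⟩
  have fa : ∀ g : G, (∀ b : Ω, g • b = b) → g = 1 := fun g h =>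
    eq_of_smul_eq_smul (α := Ω) fun b => by rw [one_smul, h]
  obtain ⟨c, hc⟩ := S.ex hz
  have nc : ¬ (⊤ : Subgroup G) ≤ St G c := fun e => by
    obtain ⟨d, hd⟩ := exists_ne c
    obtain ⟨g, hg⟩ := tr c d
    exact hd (hg.symm.trans (e (mem_top g)))
  have odd : ∀ Y : Subgroup G, ⊤ ≤ N[Y] → Odd #Y → Y ≤ ⊥ := fun Y h1 h2 g hg => mem_bot.2 (fa g fun b => by
    obtain ⟨k, hk⟩ := tr c b
    exact S.le_St_of_four h2 ((S.four_St hz (mem_top z) hc nc h4 ⟨k, trivial, hk⟩).mono (inf_le_inf_right _ h1)) hg)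
  refine ⟨fun N hN => ?_⟩
  have nN : ⊤ ≤ N[N] := norm_of_normal ⊤
  by_cases h : ∃ s ∈ N, s ∈ Z
  · obtain ⟨s, hs, sZ⟩ := h
    refine .inr (eq_top_iff.2 (gen ▸ XZ_le_of fun u _ hu => ?_))
    obtain ⟨m, -, rfl⟩ := S.conj_in hz (mem_top z) hc nc hu (mem_top u)
    obtain ⟨m', -, rfl⟩ := S.conj_in hz (mem_top z) hc nc sZ (mem_top s)
    simpa [mul_assoc] using conj_mem (nN (mem_top (m * m'⁻¹))) hs
  refine .inl (eq_bot_iff.2 fun g hg => mem_bot.2 (fa g fun b => ?_))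
  obtain ⟨s, -, sZ, sb⟩ := S.iv_top tr hz b
  have k : ∀ x ∈ N ⊔ zpowers s, x ∈ Z → x * s ∈ N := fun x hx xZ => by
    obtain ⟨n, hn, v, hv, rfl⟩ := (mem_sup_l (zp_le (nN (mem_top s)))).1 hx
    rcases mem_zp0 (S.ord sZ) hv with rfl | rfl
    · exact absurd ⟨_, by simpa using hn, xZ⟩ h
    · rwa [mul_assoc, S.sq sZ, mul_one]
  have i := (S.isn4 (M := N ⊔ zpowers s) (fun ⟨x, hx, y, hy, xZ, yZ, n, e⟩ => h ⟨_, by
    have := mul_mem (k x hx xZ) (inv_mem (k y hy yZ))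
    rwa [mul_inv_rev, mul_assoc, mul_inv_cancel_left, S.inv yZ] at this, S.mul xZ yZ n e⟩) sZ
    (mem_sup_right (mem_zpowers s))).of_sup (nN (mem_top s))
  have := mem_bot.1 (odd _ (BG.normO _ nN) (odd_O N) (i.comm g hg))
  refine S.fix_of_comm sZ sb ?_
  rw [mul_inv_eq_one, mul_inv_eq_iff_eq_mul] at this
  exact this.symm

universe v

theorem ZF.pm_fix1 {G : Type*} {Ω : Type v} [Group G] [Finite G] [MulAction G Ω] {Z : Set G} (S : ZF Ω Z)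
    {X : Subgroup G} {a : Ω} (gen : XZ Z X = X) (h4 : FourZ Z (X ⊓ St G a)) (hX : ¬ X ≤ St G a)
    (ih : ∀ {G Ω : Type v} [Group G] [Finite G] [MulAction G Ω] [FaithfulSMul G Ω] [Nontrivial Ω] {Z : Set G},
      Nat.card G ≤ #X → ZF Ω Z → (∀ a b : Ω, ∃ g : G, g • a = b) → XZ Z (⊤ : Subgroup G) = ⊤ →
      FourZ Z (⊤ : Subgroup G) → Fix1 G Ω) : Fix1 (Pm X a) (orbit X a) := by
  obtain ⟨b, hb, nb⟩ := exists_orb_ne hX
  have : Nontrivial (orbit X a) := ⟨pt hb, pt (Orb.refl X a), fun e => nb (congrArg Subtype.val e)⟩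
  have n1 : ∀ s ∈ X, s ∈ Z → (pm X a).app s ≠ 1 := fun s hs sZ e =>
    S.not_mem sZ nb (le_inf (Ker_le_St hb) (Ker_le_St (Orb.refl X a))) ((pm_eq_one hs).1 e)
  have sq : ∀ s ∈ X, s ∈ Z → (pm X a).app s * (pm X a).app s = 1 := fun s hs sZ => by
    rw [← app_mul hs hs, S.sq sZ, app_one]
  obtain ⟨x, hx, y, hy, xZ, yZ, xy, cxy⟩ := h4
  have uq : ∀ s ∈ X, s ∈ Z → ∀ c d : orbit X a, (pm X a).app s • c = c → (pm X a).app s • d = d → c = d :=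
    fun s hs sZ c d h1 h2 => Subtype.ext (S.uniq sZ ((pm_smul_eq hs).1 h1) ((pm_smul_eq hs).1 h2))
  have mul : ∀ s ∈ X, s ∈ Z → ∀ u ∈ X, u ∈ Z → (pm X a).app s ≠ (pm X a).app u →
      (pm X a).app s * (pm X a).app u = (pm X a).app u * (pm X a).app s →
      ∃ v ∈ X, v ∈ Z ∧ (pm X a).app v = (pm X a).app s * (pm X a).app u := fun s hs sZ u hu uZ n c => by
    have m := mul_mem hs hu
    have o : orderOf ((pm X a).app (s * u)) = 2 := by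
      rw [app_mul hs hu]
      refine ord2_iff.2 ⟨?_, fun e => n ?_⟩
      · rw [mul_assoc, ← mul_assoc ((pm X a).app u), ← c, mul_assoc, sq u hu uZ, mul_one, sq s hs sZ]
      · rw [← mul_one ((pm X a).app s), ← sq u hu uZ, ← mul_assoc, e, one_mul]
    obtain ⟨v, h1, h2, -⟩ := S.even_mul' sZ uZ (even_iff_two_dvd.2 (o ▸ orderOf_dvd_of_pow_eq_one (by
      rw [← app_pow m, pow_orderOf_eq_one, app_one])))
    have vX := zp_le m h1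
    obtain ⟨k, rfl⟩ := mem_powers_iff_mem_zpowers.2 h1
    refine ⟨_, vX, h2, ((mem_zp0 o ?_).resolve_left (n1 _ vX h2)).trans (app_mul (φ := pm X a) hs hu)⟩
    exact app_pow (φ := pm X a) m k ▸ pow_mem (mem_zpowers _) k
  refine ih (Z := {w | ∃ s ∈ X, s ∈ Z ∧ (pm X a).app s = w})
    (Nat.card_le_card_of_surjective _ (toPermHom X (orbit X a)).rangeRestrict_surjective)
    ⟨⟨?_, ?_, ?_, ?_, ?_⟩, ?_⟩ Fix1.pm_tr (eq_top_iff.2 fun w _ => ?_)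
    ⟨_, trivial, _, trivial, ⟨x, hx.1, xZ, rfl⟩, ⟨y, hy.1, yZ, rfl⟩,
      fun e => n1 _ (mul_mem hx.1 hy.1) (S.mul xZ yZ xy cxy) (by rw [app_mul hx.1 hy.1, e, sq y hy.1 yZ]),
      by rw [← app_mul hx.1 hy.1, ← app_mul hy.1 hx.1, cxy]⟩
  · rintro _ ⟨s, hs, sZ, rfl⟩; exact ord2_iff.2 ⟨sq s hs sZ, n1 s hs sZ⟩
  · rintro _ ⟨s, hs, sZ, rfl⟩ g
    obtain ⟨g, hg, rfl⟩ := pm_surj g
    exact ⟨_, conj_mem (normG _ hg) hs, S.conj sZ g, app_conj hg hs⟩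
  · rintro _ ⟨s, hs, sZ, rfl⟩
    obtain ⟨c, hc⟩ := S.ex sZ
    exact ⟨pt (S.orb_of_inv xZ hx.1 hx.2 sZ hs hc), (pm_smul_eq hs).2 hc⟩
  · rintro _ c d ⟨s, hs, sZ, rfl⟩; exact uq s hs sZ c d
  · rintro _ _ c d ⟨s, hs, sZ, rfl⟩ ⟨u, hu, uZ, rfl⟩ n e
    obtain ⟨v, hv, vZ, e'⟩ := mul s hs sZ u hu uZ n e
    exact e' ▸ uq v hv vZ c d
  · rintro _ _ ⟨s, hs, sZ, rfl⟩ ⟨u, hu, uZ, rfl⟩ n e
    exact mul s hs sZ u hu uZ n e
  · obtain ⟨g, hg, rfl⟩ := pm_surj w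
    refine (PHom.mem_pre.1 (XZ_le_of (M := X) (X := (pm X a).pre _) (fun s hs sZ => PHom.mem_pre.2
      ⟨hs, ?_⟩) (gen.ge hg))).2
    exact mem_XZ trivial ⟨s, hs, sZ, rfl⟩

theorem zd_core (n : ℕ) : ∀ {G Ω : Type v} [Group G] [Finite G] [MulAction G Ω] [FaithfulSMul G Ω] [Nontrivial Ω]
    {Z : Set G}, Nat.card G ≤ n → ZF Ω Z → (∀ a b : Ω, ∃ g : G, g • a = b) → XZ Z (⊤ : Subgroup G) = ⊤ →
    FourZ Z (⊤ : Subgroup G) → Fix1 G Ω := by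
  induction n with
  | zero => exact fun h => absurd h (not_le.2 Nat.card_pos)
  | succ n ih =>
    intro G Ω _ _ _ _ _ Z hn S tr gen h4
    refine MC.fix1 ⟨S, S.simple tr gen h4, tr, ‹_›, h4, fun M hM a h1 h2 => ?_⟩
    obtain ⟨s, hs, -, -, sZ, -⟩ := id h1
    refine S.pm_fix1 (XZ_XZ _ _) h1.xz (S.XZ_nle sZ hs.1 hs.2 h2) fun l => ih ?_
    have := card_lt ((XZ_le Z M).trans_lt hM.lt_top)
    rw [card_top] at this; omega

/-- Theorem ZD: the point stabilizer is strongly embedded -/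
theorem ZW.fix1 [FaithfulSMul G Ω] [Nontrivial Ω] (S : ZW Ω Z) (tr : ∀ a b : Ω, ∃ g : G, g • a = b)
    (gen : XZ Z (⊤ : Subgroup G) = ⊤) (h4 : FourZ Z (⊤ : Subgroup G)) : Fix1 G Ω := by
  have T := S.toZF tr fun g h => eq_of_smul_eq_smul (α := Ω) fun b => by rw [one_smul, h]
  refine MC.fix1 ⟨T, T.simple tr gen h4, tr, ‹_›, h4, fun M hM a h1 h2 => ?_⟩
  obtain ⟨s, hs, -, -, sZ, -⟩ := id h1
  exact T.pm_fix1 (XZ_XZ _ _) h1.xz (S.XZ_nle sZ hs.1 hs.2 h2) (zd_core _)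

end Cfsg.Agent.ZD
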