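import Cfsg.Agent.ZD.Basic

/-! # (P1) gives double transitivity: as `SE/P1`, with involutions in `Z` -/

set_option autoImplicit false
set_option linter.unusedVariables false
set_option linter.unusedSectionVars false

namespace Cfsg.Agent.ZD
open Cfsg Cfsg.Agent.BG Cfsg.Agent.Inv Cfsg.Agent.SE MulAction Subgroup PHom

variable {G Ω : Type*} [Group G] [Finite G] [MulAction G Ω] {Z : Set G} {p : ℕ}
variable {P R X Y : Subgroup G} {a b c d : Ω} {t r u w : G}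

namespace ZF
variable (S : ZF Ω Z) (tr : ∀ a b : Ω, ∃ g : G, g • a = b)
include S

omit S in

/-- a Sylow subgroup of `M_ab` with exactly two fixed points is Sylow in `M` -/
theorem syl_of_two {M : Subgroup G} (hp : p.Prime) (p2 : p ≠ 2) (ab : a ≠ b) (hP : Syl p P (M ⊓ St2 G a b))
    (h : ∀ c, P ≤ St G c → c = a ∨ c = b) : Syl p P M :=
  Syl.of_norm (syl_of_max hp (le_inf (hP.le.trans inf_le_left) (normG _)) hP.pi fun Q h1 h2 h3 =>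
    hP.max h1 (le_inf (h2.trans inf_le_left) (le_St2_of_odd ab (odd_of_pig2 (h1.ne_compl p2)) fun g hg =>
      ⟨h _ (fix_smul (h2 hg).2 (hP.le.trans (inf_le_right.trans inf_le_left))),
        h _ (fix_smul (h2 hg).2 (hP.le.trans (inf_le_right.trans inf_le_right)))⟩)) h3) hp

include tr

theorem orb' (a b : Ω) : Orb (⊤ : Subgroup G) a b := by
  obtain ⟨g, hg⟩ := tr a b; exact ⟨g, trivial, hg⟩

theorem swap' (ht : t ∈ Z) (h : a ≠ b) : ∃ w : G, w ∈ Z ∧ w • a = b := by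
  obtain ⟨c, hc⟩ := S.ex ht
  obtain ⟨w, -, hw⟩ := S.swap_in ht (mem_top _) hc (S.orb' tr c a) (S.orb' tr c b) h
  exact ⟨w, hw⟩

theorem kc_D' (ht : t ∈ Z) (ha : t • a ≠ a) (b : Ω) :
    kc t O[{2}ᶜ](St2 G a (t • a)) = nI Z (⊤ : Subgroup G) b := by
  obtain ⟨c, hc⟩ := S.ex ht
  obtain ⟨s, hs⟩ := S.exists_iv ht (mem_top _) hc (S.orb' tr c a)
  have := S.kc_eq_nI ht (mem_top _) ha hs
  rwa [top_inf_eq, S.nI_orb (S.orb' tr a b)] at this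

theorem card_D' (ht : t ∈ Z) (hc : t • c = c) (h : a ≠ c) :
    #(St2 G a c) = #(St2 G a (t • a)) := by
  have := S.card_St2 ht (mem_top _) hc (S.orb' tr c a) h
  rwa [top_inf_eq, top_inf_eq] at this

theorem exists_syl_D (hw : w ∈ Z) (ha : w • a ≠ a) (hp : p.Prime) (p2 : p ≠ 2) (b : Ω) (hY : PiG {p} Y)
    (h1 : w ∈ N[Y]) (h2 : Y ≤ St G a) : ∃ P, Syl p P (St2 G a (w • a)) ∧ w ∈ N[P] ∧ Y ≤ P ∧
      kc w P = pp p (nI Z (⊤ : Subgroup G) b) := by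
  obtain ⟨P, hP, wP, YP⟩ := (S.isnD hw ha).syl hp p2 (le_inf h2 (fix_smul h1 h2)) hY h1
  exact ⟨P, hP, wP, YP, by rw [(S.isnD hw ha).kc_syl hp p2 hP wP, S.kc_D' tr hw ha b]⟩

theorem swap_of_syl (ht : t ∈ Z) (hp : p.Prime) (p2 : p ≠ 2) (ab : a ≠ b) (h : Syl p Y (St2 G a b)) :
    ∃ u ∈ N[Y], u ∈ Z ∧ u • a = b := by
  obtain ⟨w, ow, e⟩ := S.swap' tr ht ab
  obtain ⟨u, hu, h⟩ := S.swap_norm hp p2 ab (mem_top w) ow e (by rwa [top_inf_eq])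
  exact ⟨u, hu.2, h⟩

theorem ne_two' (ht : t ∈ Z) (ab : a ≠ b) (hp : p.Prime) (hd : p ∣ nI Z (⊤ : Subgroup G) c) : p ≠ 2 := by
  obtain ⟨w, ow, rfl⟩ := S.swap' tr ht ab
  rw [← S.kc_D' tr ow ab.symm c] at hd
  exact ne_two_of_odd hp (odd_O _) (hd.trans (kc_dvd (S.ord ow) (odd_O _) (S.isnD ow ab.symm).normO))

theorem exists_maxY (ht : t ∈ Z) (hp : p.Prime) (p2 : p ≠ 2) (a₀ : Ω) (ab : a ≠ b)
    (h : ∀ P, Syl p P (St2 G a b) → Three Ω P) :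
    ∃ (Y : Subgroup G) (r : G), (PiG {p} Y ∧ r ∈ Z ∧ r ∈ N[Y] ∧ pp p (nI Z (⊤ : Subgroup G) a₀) ≤ kc r Y ∧
      Three Ω Y) ∧ ∀ (R : Subgroup G) (u : G), PiG {p} R → u ∈ Z → u ∈ N[R] →
        pp p (nI Z (⊤ : Subgroup G) a₀) ≤ kc u R → Three Ω R → #R ≤ #Y := by
  obtain ⟨w, ow, rfl⟩ := S.swap' tr ht ab
  obtain ⟨P, hP, wP, -, e⟩ := S.exists_syl_D tr ow ab.symm hp p2 a₀ (pig_bot _) (norm_bot ⊤ (mem_top _)) bot_le
  obtain ⟨⟨Y, r⟩, h1, h2⟩ := exists_max_of (fun x : Subgroup G × G => PiG {p} x.1 ∧ x.2 ∈ Z ∧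
    x.2 ∈ N[x.1] ∧ pp p (nI Z (⊤ : Subgroup G) a₀) ≤ kc x.2 x.1 ∧ Three Ω x.1) (fun x => #x.1) (A := (P, w))
    ⟨hP.pi, ow, wP, e.ge, h P hP⟩
  exact ⟨Y, r, h1, fun R u a b c d e => h2 (R, u) ⟨a, b, c, d, e⟩⟩

theorem not_P1 [Nontrivial Ω] {t : G} (ht : t ∈ Z) (hp : p.Prime) {a₀ : Ω}
    (hd : p ∣ nI Z (⊤ : Subgroup G) a₀) (h : ¬ P1 G Ω p) :
    ∃ (Y : Subgroup G) (r : G) (a c : Ω), PiG {p} Y ∧ r ∈ Z ∧ r ∈ N[Y] ∧ r • c = c ∧
      a ≠ c ∧ Y ≤ St G a ∧ Y ≤ St G c ∧ kc r Y = pp p (nI Z (⊤ : Subgroup G) a₀) := by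
  have h3 : ∀ a b : Ω, a ≠ b → ∀ P, Syl p P (St2 G a b) → Three Ω P := fun a b ab P hP => by
    by_contra hn
    exact h ⟨a, b, ab, P, hP, (not_three ab (hP.le.trans inf_le_left) (hP.le.trans inf_le_right)).1 hn⟩
  obtain ⟨a, b, ab⟩ := exists_pair_ne Ω
  have p2 := S.ne_two' tr ht ab hp hd
  obtain ⟨Y, r, ⟨hY, hr, rY, kY, tY⟩, hm⟩ := S.exists_maxY tr ht hp p2 a₀ ab (h3 a b ab)
  have sw : ∀ x y : Ω, x ≠ y → Y ≤ St G x → Y ≤ St G y → ∃ u ∈ N[Y], u ∈ Z ∧ u • x = y :=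
    fun x y xy hx hy => by
      obtain ⟨w, ow, rfl⟩ := S.swap' tr ht xy
      obtain ⟨P, hP, wP, -, e⟩ := S.exists_syl_D tr ow xy.symm hp p2 a₀ (pig_bot _) (norm_bot ⊤ (mem_top _)) bot_le
      exact S.swap_of_syl tr ht hp p2 xy (hP.of_card_le (le_inf hx hy) hY (hm P w hP.pi ow wP e.ge (h3 _ _ xy P hP)))
  obtain ⟨c, hc⟩ := S.ex hr
  obtain ⟨d, dc, Yd⟩ := tY.exists_ne c
  obtain ⟨x, y, z, xy, xz, yz, hx, hy, hz⟩ := tY
  obtain ⟨P, -, -, YP, e⟩ := S.exists_syl_D tr hr (S.ne_smul hr hc dc) hp p2 a₀ hY rY Yd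
  exact ⟨Y, r, d, c, hY, hr, rY, hc, dc, Yd, S.EV (odd_of_p hY p2) le_rfl hx (sw _ _ xy hx hy) (sw _ _ yz hy hz)
    (sw _ _ xz.symm hz hx) hr rY hc, le_antisymm (e ▸ kc_mono r YP) kY⟩

theorem tr2_of_P1 {t : G} (ht : t ∈ Z) (hp : p.Prime) {a₀ : Ω}
    (hd : p ∣ nI Z (⊤ : Subgroup G) a₀) (h : P1 G Ω p) : Tr2 G Ω := by
  obtain ⟨a₁, b₁, ab₁, P₀, hP₀, fx₀⟩ := h
  have p2 := S.ne_two' tr ht ab₁ hp hd
  have top : ∀ {a b : Ω} {P : Subgroup G}, a ≠ b → Syl p P (St2 G a b) → (∀ c, P ≤ St G c → c = a ∨ c = b) →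
      Syl p P ⊤ := fun ab hP fx => syl_of_two hp p2 ab (by rwa [top_inf_eq]) fx
  have hP := top ab₁ hP₀ fx₀
  have cjle : ∀ g : G, cj g P₀ ≤ St G (g • a₁) ∧ cj g P₀ ≤ St G (g • b₁) := fun g => by
    rw [← cj_St, ← cj_St]; exact ⟨cj_mono g (hP₀.le.trans inf_le_left), cj_mono g (hP₀.le.trans inf_le_right)⟩
  by_cases h3 : ∀ a b : Ω, a ≠ b → ∃ P, Syl p P (St2 G a b) ∧ ¬ Three Ω P
  · have key : ∀ a b : Ω, a ≠ b → ∃ g : G, g • a₁ = a ∧ g • b₁ = b := fun a b ab => by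
      obtain ⟨P, h1, h2⟩ := h3 a b ab
      have fx := (not_three ab (h1.le.trans inf_le_left) (h1.le.trans inf_le_right)).1 h2
      obtain ⟨g, -, rfl⟩ := Syl.conj hP hp (top ab h1 fx)
      obtain ⟨w, ow, e⟩ := S.swap' tr ht ab
      have e' : w • b = a := by rw [← e, S.ss ow]
      rcases fx _ (cjle g).1 with e1 | e1 <;> rcases fx _ (cjle g).2 with e2 | e2
      · exact absurd (smul_left_cancel g (e1.trans e2.symm)) ab₁
      · exact ⟨g, e1, e2⟩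
      · exact ⟨w * g, by rw [mul_smul, e1, e'], by rw [mul_smul, e2, e]⟩
      · exact absurd (smul_left_cancel g (e1.trans e2.symm)) ab₁
    intro a b c d ab cd
    obtain ⟨g, g1, g2⟩ := key a b ab
    obtain ⟨h, h1, h2⟩ := key c d cd
    exact ⟨h * g⁻¹, by rw [← g1, mul_smul, inv_smul_smul, h1], by rw [← g2, mul_smul, inv_smul_smul, h2]⟩
  exfalso
  push Not at h3
  obtain ⟨a, b, ab, h3⟩ := h3
  obtain ⟨Y, r, ⟨hY, hr, rY, kY, tY⟩, hm⟩ := S.exists_maxY tr ht hp p2 a₀ ab h3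
  have two : ∀ R : Subgroup G, PiG {p} R → ∃ e f : Ω, e ≠ f ∧ R ≤ St G e ∧ R ≤ St G f ∧
      (Three Ω R → ¬ Syl p R (St2 G f e)) := fun R hR => by
    obtain ⟨g, -, le⟩ := Syl.sub_cj hP hp le_top hR
    refine ⟨g • a₁, g • b₁, fun e => ab₁ (smul_left_cancel g e), le.trans (cjle g).1, le.trans (cjle g).2,
      fun h3 hs => ?_⟩
    have e := hs.max (hP₀.pi.cj g) (le_inf (cjle g).2 (cjle g).1) le
    refine (not_three ab₁ (hP₀.le.trans inf_le_left) (hP₀.le.trans inf_le_right)).2 fx₀ ?_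
    obtain ⟨x, y, z, xy, xz, yz, hx, hy, hz⟩ := h3
    have f : ∀ x : Ω, R ≤ St G x → P₀ ≤ St G (g⁻¹ • x) := fun x hx => by rw [← cj_St, ← cj_le_iff, e]; exact hx
    exact ⟨_, _, _, fun e => xy (smul_left_cancel _ e), fun e => xz (smul_left_cancel _ e),
      fun e => yz (smul_left_cancel _ e), f x hx, f y hy, f z hz⟩
  obtain ⟨c, hc⟩ := S.ex hr
  have oY := odd_of_p hY p2
  by_cases Yc : Y ≤ St G c
  · have sy : ∀ (u : G) (e d : Ω), u ∈ Z → u ∈ N[Y] → u • e = e → kc u Y = kc r Y → Y ≤ St G e →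
        d ≠ e → Y ≤ St G d → Syl p Y (St2 G d e) := fun u e d ou uY ue k Ye de Yd => by
      have ud := S.ne_smul ou ue de
      obtain ⟨P, hP, uP, YP, e1⟩ := S.exists_syl_D tr ou ud hp p2 a₀ hY uY Yd
      have e2 := inv_eq_of_kc_le (t := u) YP (by rw [e1, k]; exact kY)
      have Pe := S.le_St_of_inv ou ue (odd_of_p hP.pi p2) uP fun k hk => Ye (e2 ▸ hk).1
      have := hm P u hP.pi ou uP e1.ge ⟨d, u • d, e, ud.symm, de, S.smul_ne ou ue de,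
        hP.le.trans inf_le_left, hP.le.trans inf_le_right, Pe⟩
      exact syl_of_card hp (le_inf Yd Ye) hY (by rw [S.card_D' tr ou ue de, ← Syl.card_pp hP hp]; exact this)
    obtain ⟨e, f, ef, Ye, Yf, hn⟩ := two Y hY
    refine hn tY ?_
    by_cases ec : e = c
    · subst ec; exact sy r e f hr rY hc rfl Ye ef.symm Yf
    · obtain ⟨u, uY, ou, ue⟩ := S.swap_of_syl tr ht hp p2 ec (sy r c e hr rY hc rfl Yc ec Ye)
      have uc : u • c = e := by rw [← ue, S.ss ou]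
      exact sy (u * r * u⁻¹) e f (S.conj hr u) (conj_mem (normG _ uY) rY) (uc ▸ conj_smul_fix hc u)
        (kc_conj uY r) Ye ef.symm Yf
  · have Nc : ¬ N[Y] ≤ St G c := fun e => Yc ((normG _).trans e)
    have h4 : ¬ FourZ Z N[Y] := fun h => Yc (S.le_St_of_four oY (S.four_St hr rY hc Nc h (Orb.refl _ _)))
    have sw : ∀ x y : Ω, x ≠ y → Y ≤ St G x → Y ≤ St G y → ∃ u ∈ N[Y], u ∈ Z ∧ u • x = y :=
      fun x y xy hx hy => by
        obtain ⟨R, hR, YR⟩ := syl_superset hp (le_inf (le_inf hx hy) (normG Y)) hY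
        by_cases e : R = Y
        · subst e; exact S.swap_of_syl tr ht hp p2 xy (Syl.of_norm hR hp)
        obtain ⟨S₀, hS, rS, -⟩ := (S.isn4 h4 hr rY).syl hp p2 (normG _) hY rY
        obtain ⟨m, hm', RS⟩ := Syl.sub_cj hS hp (hR.le.trans inf_le_right) hR.pi
        have or' := S.conj hr m
        have r'Y : m * r * m⁻¹ ∈ N[Y] := conj_mem (normG _ hm') rY
        have r'S : m * r * m⁻¹ ∈ N[cj m S₀] := by rw [← cj_N]; exact mem_cj_conj.2 rS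
        have nf : ∀ d : Ω, Y ≤ St G d → (m * r * m⁻¹) • d ≠ d := fun d Yd e => Yc (by
          have := fix_smul (inv_mem hm') Yd
          rwa [S.uniq or' e (conj_smul_fix hc m), inv_smul_smul] at this)
        obtain ⟨e1, -, -, Se, -⟩ := two _ (hS.pi.cj m)
        obtain ⟨P, -, -, SP, k⟩ := S.exists_syl_D tr or' (nf e1 ((YR.trans RS).trans Se)) hp p2 a₀ (hS.pi.cj m) r'S Se
        have k1 : pp p (nI Z (⊤ : Subgroup G) a₀) ≤ kc (m * r * m⁻¹) Y := by rw [kc_conj hm']; exact kY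
        have e2 := inv_eq_of_kc_le (t := m * r * m⁻¹) (YR.trans RS) ((kc_mono _ SP).trans (k.le.trans k1))
        have r'R : m * r * m⁻¹ ∈ N[R] := mem_N_of fun g hg => by
          have := mul_mem hg (YR (e2 ▸ comm_mem_inv (S.ord or') r'S (RS hg)).1)
          rwa [mul_inv_cancel_left] at this
        have Rx : R ≤ St G x := hR.le.trans (inf_le_left.trans inf_le_left)
        have n3 : ¬ Three Ω R := fun h3 => e (eq_of_card_le YR (hm R _ hR.pi or' r'R (k1.trans (kc_mono _ YR)) h3)).symm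
        exact ⟨_, r'Y, or', ((not_three xy Rx (hR.le.trans (inf_le_left.trans inf_le_right))).1 n3 _
          (fix_smul r'R Rx)).resolve_left (nf x hx)⟩
    obtain ⟨x, y, z, xy, xz, yz, hx, hy, hz⟩ := tY
    exact Yc (S.EV oY le_rfl hx (sw _ _ xy hx hy) (sw _ _ yz hy hz) (sw _ _ xz.symm hz hx) hr rY hc)

end ZF

end Cfsg.Agent.ZD
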